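import Groth.Prelude.Def_Red
import Mathlib.AlgebraicGeometry.Morphisms.FlatDescent

/-!
# Equality of morphisms of `S`-schemes, checked after a flat covering of the base

* `eq_of_flat_cover`: two `S`-morphisms agree if every point of `S` is in the image of a flat
  `g : S' ⟶ S` over which they agree;
* `eq_of_cover`: the same for the open coverings of a flat surjective `f : S' ⟶ S`.
-/

set_option autoImplicit false
universe u
open CategoryTheory CategoryTheory.Limits AlgebraicGeometry

namespace K14.FpqcExt

variable {S : Scheme.{u}}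

lemma fst_comp_eq {S' : Scheme.{u}} {f : S' ⟶ S} {X Y : Over S} {a b : X ⟶ Y}
    (h : (Over.pullback f).map a = (Over.pullback f).map b) :
    pullback.fst X.hom f ≫ a.left = pullback.fst X.hom f ≫ b.left := by
  have h1 := congr($(congr($(h).left)) ≫ pullback.fst Y.hom f)
  simp only [Over.pullback_map_left] at h1
  erw [pullback.lift_fst, pullback.lift_fst] at h1
  exact h1

lemma map_eq_of_fst {S' : Scheme.{u}} {f : S' ⟶ S} {X Y : Over S} {a b : X ⟶ Y}
    (h : pullback.fst X.hom f ≫ a.left = pullback.fst X.hom f ≫ b.left) :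
    (Over.pullback f).map a = (Over.pullback f).map b := by
  ext1
  apply pullback.hom_ext <;> simp [h]

/-- Equality of morphisms can be checked flat-locally on the base. -/
theorem eq_of_flat_cover {X Y : Over S} (a b : X ⟶ Y)
    (h : ∀ s : S, ∃ (S' : Scheme.{u}) (g : S' ⟶ S), Flat g ∧ s ∈ Set.range g.base ∧
      (Over.pullback g).map a = (Over.pullback g).map b) : a = b := by
  choose S' g hg hs hab using h
  let p : (∐ S') ⟶ S := Sigma.desc g
  have : ∀ s, Flat (g s) := hg
  have hp : Flat p := inferInstance
  have hsurj : Surjective p := by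
    apply Surjective.sigmaDesc_of_union_range_eq_univ
    rw [Set.eq_univ_iff_forall]
    exact fun s => Set.mem_iUnion.2 ⟨s, hs s⟩
  have h1 : pullback.fst X.hom p ≫ a.left = pullback.fst X.hom p ≫ b.left := by
    refine Scheme.Cover.hom_ext ((sigmaOpenCover S').pullback₁ (pullback.snd X.hom p)) _ _ fun (s : S) => ?_
    have hps : Sigma.ι S' s ≫ p = g s := Sigma.ι_desc _ _
    change pullback.fst (pullback.snd X.hom p) (Sigma.ι S' s) ≫ _ =
      pullback.fst (pullback.snd X.hom p) (Sigma.ι S' s) ≫ _
    let q : pullback (pullback.snd X.hom p) (Sigma.ι S' s) ⟶ pullback X.hom (g s) :=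
      pullback.lift (pullback.fst _ _ ≫ pullback.fst _ _) (pullback.snd _ _) (by
        rw [Category.assoc, pullback.condition, ← Category.assoc, pullback.condition,
          Category.assoc, hps])
    have hq : q ≫ pullback.fst X.hom (g s) =
        pullback.fst (pullback.snd X.hom p) (Sigma.ι S' s) ≫ pullback.fst X.hom p :=
      pullback.lift_fst _ _ _
    rw [← Category.assoc, ← Category.assoc, ← hq, Category.assoc, Category.assoc, fst_comp_eq (hab s)]
  have : Epi (pullback.fst X.hom p) := Flat.epi_of_flat_of_surjective _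
  exact Over.OverMorphism.ext ((cancel_epi _).1 h1)

/-- Equality of morphisms can be checked after a flat surjective base change, locally on the new base. -/
theorem eq_of_cover {X Y : Over S} (a b : X ⟶ Y) {S' : Scheme.{u}} (f : S' ⟶ S) [Flat f] [Surjective f]
    (h : ∀ s' : S', ∃ U : S'.Opens, s' ∈ U ∧
      (Over.pullback (U.ι ≫ f)).map a = (Over.pullback (U.ι ≫ f)).map b) : a = b := by
  apply eq_of_flat_cover
  intro s
  obtain ⟨s', rfl⟩ := f.surjective s
  obtain ⟨U, hU, hab⟩ := h s'
  exact ⟨U, U.ι ≫ f, inferInstance, ⟨⟨s', hU⟩, rfl⟩, hab⟩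

end K14.FpqcExt
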