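import Groth.Prelude.Def_SGA3x
import Groth.Agent.Sga3B.TorusAlgClosed
import Groth.Agent.Sga3B.BcIso

/-!
# Flat affine charts splitting a group of multiplicative type
-/

set_option autoImplicit false
universe u
open CategoryTheory MonoidalCategory CartesianMonoidalCategory MonObj GrpObj AlgebraicGeometry Limits

namespace K14.MTFlat

open Groth.Agent.Sga3B Groth.Agent.Sga3B.TorusAlgClosed

variable {S : Scheme.{u}}

/-- Every point of `S` is in the image of a flat `Spec R ⟶ S` over which the group of multiplicative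
type `H` becomes diagonalisable. -/
theorem exists_flat_split {H : Over S} [GrpObj H] (h : SGA3x.IsMultTypeFT H) (s : S) :
    ∃ (R : Type u) (_ : CommRing R) (g : Spec (CommRingCat.of R) ⟶ S), Flat g ∧ s ∈ Set.range g.base ∧
      ∃ (M : Type) (_ : AddCommGroup M), AddGroup.FG M ∧
        Nonempty (Grp.mk (Red.bc g H) ≅ Grp.mk (Red.DS (Spec (CommRingCat.of R)) M)) := by
  obtain ⟨S', f, hf, hs, hc, h⟩ := h
  obtain ⟨s', rfl⟩ := f.surjective s
  obtain ⟨U, hU, M, _, hM, ⟨e⟩⟩ := h s'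
  let x : U.toScheme := ⟨s', hU⟩
  obtain ⟨_, ⟨V, hV, rfl⟩, hxV, -⟩ :=
    U.toScheme.isBasis_affineOpens.exists_subset_of_mem_open (Set.mem_univ x) isOpen_univ
  let q : Spec (CommRingCat.of Γ(U.toScheme, V)) ⟶ U.toScheme := IsAffineOpen.fromSpec hV
  have hx : x ∈ Set.range q.base := by
    have := IsAffineOpen.range_fromSpec hV
    exact this.symm ▸ hxV
  obtain ⟨y, hy⟩ := hx
  refine ⟨Γ(U.toScheme, V), inferInstance, q ≫ U.ι ≫ f, ?_, ⟨y, ?_⟩, M, inferInstance, hM, ⟨?_⟩⟩
  · have : IsOpenImmersion q := hV.isOpenImmersion_fromSpec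
    have : Flat q := inferInstance
    infer_instance
  · change (U.ι ≫ f).base (q.base y) = _
    rw [hy]
    rfl
  · exact BcIso.bcCompIso q (U.ι ≫ f) H ≪≫ BcIso.bcMapIso q e ≪≫ dsBcIso q M

end K14.MTFlat
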