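import Groth.Prelude.Def_SGA3x
import Groth.Agent.SGA3x.K14.FpqcExt
import Groth.Agent.SGA3x.K14.MTFlat
import Groth.Agent.Sga3B.GaPts
import Groth.Agent.Sga3B.DSAff
import Groth.Agent.Sga3B.DsBc

/-!
# Homomorphisms from a group of multiplicative type to the additive group are trivial

* `eq_one_ds`: homomorphisms `D_S(M) ⟶ 𝔾_a` over an affine base;
* `eq_one_of_isMultTypeFT`: homomorphisms `H ⟶ 𝔾_a`, `H` of multiplicative type, over any base.
-/

set_option autoImplicit false
universe u
open CategoryTheory MonoidalCategory CartesianMonoidalCategory MonObj GrpObj AlgebraicGeometry Limits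

namespace K14.HomGa

open Groth.Agent.Sga3B Groth.Agent.Books.AffBridge DSAff AffPts

section algebra

variable {R : Type u} [CommRing R] {M : Type} [AddCommGroup M]

lemma chAlg_of_comp {N : Type} [AddCommGroup N] (f : Multiplicative M →* Multiplicative N) 
    (F : MonoidAlgebra R (Multiplicative M)) :
    chAlg ((MonoidAlgebra.of R (Multiplicative N)).comp f) F = MonoidAlgebra.mapDomain f F := by
  have h : chAlg (R := R) ((MonoidAlgebra.of R (Multiplicative N)).comp f) =
      MonoidAlgebra.mapDomainAlgHom R R f := by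
    ext; simp
  rw [h]
  rfl

lemma coeff_mapDomain_apply {N : Type} [AddCommGroup N] (f : Multiplicative M →* Multiplicative N)
    (hf : Function.Injective f) (F : MonoidAlgebra R (Multiplicative M)) (m : Multiplicative M) :
    (MonoidAlgebra.mapDomain f F).coeff (f m) = F.coeff m :=
  Finsupp.mapDomain_apply hf _ _

lemma coeff_mapDomain_notin {N : Type} [AddCommGroup N] (f : Multiplicative M →* Multiplicative N)
    (F : MonoidAlgebra R (Multiplicative M)) (n : Multiplicative N) (hn : n ∉ Set.range f) :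
    (MonoidAlgebra.mapDomain f F).coeff n = 0 :=
  Finsupp.mapDomain_of_notMem_range _ _ hn

/-- An element of `R[M]` which is additive on characters is zero. -/
lemma eq_zero_of_additive (F : MonoidAlgebra R (Multiplicative M))
    (h : ∀ (B : Type u) [CommRing B] [Algebra R B] (χ ψ : Multiplicative M →* B),
      chAlg (R := R) (χ * ψ) F = chAlg χ F + chAlg ψ F) : F = 0 := by
  let i₁ : Multiplicative M →* Multiplicative (M × M) := AddMonoidHom.toMultiplicative (AddMonoidHom.inl M M)
  let i₂ : Multiplicative M →* Multiplicative (M × M) := AddMonoidHom.toMultiplicative (AddMonoidHom.inr M M)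
  let δ : Multiplicative M →* Multiplicative (M × M) :=
    AddMonoidHom.toMultiplicative ((AddMonoidHom.id M).prod (AddMonoidHom.id M))
  have hδ : (MonoidAlgebra.of R (Multiplicative (M × M))).comp i₁ *
      (MonoidAlgebra.of R (Multiplicative (M × M))).comp i₂ =
      (MonoidAlgebra.of R (Multiplicative (M × M))).comp δ := by
    refine MonoidHom.ext fun m => ?_
    have h0 : i₁ m * i₂ m = δ m := by
      apply Multiplicative.toAdd.injective
      change ((Multiplicative.toAdd m, (0 : M)) : M × M) + ((0 : M), Multiplicative.toAdd m) =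
        (Multiplicative.toAdd m, Multiplicative.toAdd m)
      simp
    change MonoidAlgebra.of R _ (i₁ m) * MonoidAlgebra.of R _ (i₂ m) = MonoidAlgebra.of R _ (δ m)
    rw [← map_mul, h0]
  have key := h _ ((MonoidAlgebra.of R (Multiplicative (M × M))).comp i₁)
    ((MonoidAlgebra.of R (Multiplicative (M × M))).comp i₂)
  rw [hδ, chAlg_of_comp, chAlg_of_comp, chAlg_of_comp] at key
  have hδi : Function.Injective δ := by
    intro a b hab
    have := congr_arg (fun x => (Multiplicative.toAdd x).1) hab
    exact this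
  have h1i : Function.Injective i₁ := by
    intro a b hab
    exact congr_arg (fun x => (Multiplicative.toAdd x).1) hab
  have h2i : Function.Injective i₂ := by
    intro a b hab
    exact congr_arg (fun x => (Multiplicative.toAdd x).2) hab
  apply MonoidAlgebra.coeff_injective
  refine Finsupp.ext fun m => ?_
  have hk := congr(MonoidAlgebra.coeff $key (δ m))
  rw [MonoidAlgebra.coeff_add, Finsupp.add_apply, coeff_mapDomain_apply δ hδi] at hk
  by_cases hm : m = 1
  · have e1 : δ m = i₁ m := by rw [hm, map_one, map_one]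
    have e2 : δ m = i₂ m := by rw [hm, map_one, map_one]
    have h1 : (MonoidAlgebra.mapDomain i₁ F).coeff (δ m) = F.coeff m := by
      rw [e1, coeff_mapDomain_apply i₁ h1i]
    have h2 : (MonoidAlgebra.mapDomain i₂ F).coeff (δ m) = F.coeff m := by
      rw [e2, coeff_mapDomain_apply i₂ h2i]
    rw [h1, h2] at hk
    exact (left_eq_add.1 hk)
  · have h1 : (MonoidAlgebra.mapDomain i₁ F).coeff (δ m) = 0 := by
      apply coeff_mapDomain_notin
      rintro ⟨a, ha⟩
      exact hm (congr_arg (fun x => (Multiplicative.toAdd x).2) ha).symm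
    have h2 : (MonoidAlgebra.mapDomain i₂ F).coeff (δ m) = 0 := by
      apply coeff_mapDomain_notin
      rintro ⟨a, ha⟩
      exact hm (congr_arg (fun x => (Multiplicative.toAdd x).1) ha).symm
    rw [h1, h2, add_zero] at hk
    exact hk

end algebra

section affine

variable {R : Type u} [CommRing R] {M : Type} [AddCommGroup M]

/-- Homomorphisms `D(M) ⟶ 𝔾_a` over an affine base are trivial. -/
theorem eq_one_ds (u : Red.DS (Spec (CommRingCat.of R)) M ⟶ Red.Ga (Spec (CommRingCat.of R))) [IsMonHom u] :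
    u = 1 := by
  set v : SpecOver R (MonoidAlgebra R (Multiplicative M)) ⟶ Red.Ga (Spec (CommRingCat.of R)) :=
    dsFrom R M ≫ u with hv
  have hvm : IsMonHom v := inferInstanceAs (IsMonHom (dsFrom R M ≫ u))
  let F : MonoidAlgebra R (Multiplicative M) := (Scheme.ΓSpecIso (CommRingCat.of _)).hom (Red.gaFn v)
  have hpt : ∀ (B : Type u) [CommRing B] [Algebra R B] (χ : Multiplicative M →* B),
      (Scheme.ΓSpecIso (CommRingCat.of B)).hom (Red.gaFn (specMap R (chAlg (R := R) χ) ≫ v)) = chAlg (R := R) χ F := by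
    intro B _ _ χ
    rw [GaPts.gaFn_comp]
    exact congr($(Scheme.ΓSpecIso_naturality (CommRingCat.ofHom (chAlg (R := R) χ).toRingHom)) (Red.gaFn v))
  have hF : F = 0 := by
    apply eq_zero_of_additive
    intro B _ _ χ ψ
    have h1 : specMap R (chAlg (R := R) (χ * ψ)) ≫ v =
        (specMap R (chAlg (R := R) χ) ≫ v) * (specMap R (chAlg (R := R) ψ) ≫ v) := by
      rw [← MonObj.mul_comp]
      congr 1
      have h2 := specMap_mul R (WithConv.toConv (chAlg (R := R) χ)) (WithConv.toConv (chAlg (R := R) ψ))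
      rw [← chAlg_mul] at h2
      exact h2
    rw [← hpt, ← hpt, ← hpt, h1, GaPts.gaFn_mul]
    exact map_add (Scheme.ΓSpecIso (CommRingCat.of B)).hom.hom _ _
  have hv1 : v = 1 := by
    apply GaPts.gaFn_injective
    rw [GaPts.gaFn_one]
    have h3 : (Scheme.ΓSpecIso (CommRingCat.of (MonoidAlgebra R (Multiplicative M)))).inv F = Red.gaFn v :=
      congr($((Scheme.ΓSpecIso (CommRingCat.of (MonoidAlgebra R (Multiplicative M)))).hom_inv_id) (Red.gaFn v))
    rw [← h3, hF]
    exact map_zero (Scheme.ΓSpecIso (CommRingCat.of (MonoidAlgebra R (Multiplicative M)))).inv.hom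
  rw [← cancel_epi (dsFrom R M), ← hv, hv1, MonObj.comp_one]

end affine

section general

variable {S : Scheme.{u}}

/-- Homomorphisms from a group of multiplicative type to the additive group are trivial. -/
theorem eq_one_of_isMultTypeFT {H : Over S} [GrpObj H] (hH : SGA3x.IsMultTypeFT H) (u : H ⟶ Red.Ga S) [IsMonHom u] :
    u = 1 := by
  apply FpqcExt.eq_of_flat_cover
  intro s
  obtain ⟨R, _, g, hg, hs, M, _, hM, ⟨e⟩⟩ := MTFlat.exists_flat_split hH s
  refine ⟨_, g, hg, hs, ?_⟩
  let c : Grp.mk (Red.bc g (Red.Ga S)) ≅ Grp.mk (Red.Ga (Spec (CommRingCat.of R))) := DsBc.constIso g Red.GaZ.{u}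
  let w : Red.DS (Spec (CommRingCat.of R)) M ⟶ Red.Ga (Spec (CommRingCat.of R)) :=
    e.inv.hom.hom ≫ (Over.pullback g).map u ≫ c.hom.hom.hom
  have i1 : IsMonHom e.inv.hom.hom := e.inv.hom.isMonHom_hom
  have i2 : IsMonHom c.hom.hom.hom := c.hom.hom.isMonHom_hom
  have hw : IsMonHom w := inferInstanceAs (IsMonHom (e.inv.hom.hom ≫ (Over.pullback g).map u ≫ c.hom.hom.hom))
  have h1 : w = 1 := eq_one_ds w
  have h2 : (Over.pullback g).map u = e.hom.hom.hom ≫ w ≫ c.inv.hom.hom := by
    simp only [w, Category.assoc]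
    have e1 : c.hom.hom.hom ≫ c.inv.hom.hom = 𝟙 _ := congr(($(c.hom_inv_id)).hom.hom)
    have e2 : e.hom.hom.hom ≫ e.inv.hom.hom = 𝟙 _ := congr(($(e.hom_inv_id)).hom.hom)
    rw [e1, Category.comp_id, ← Category.assoc, e2, Category.id_comp]
  have i3 : IsMonHom (c.inv.hom.hom : Red.Ga (Spec (CommRingCat.of R)) ⟶ Red.bc g (Red.Ga S)) := c.inv.hom.isMonHom_hom
  have h4 : (1 : Red.DS (Spec (CommRingCat.of R)) M ⟶ Red.Ga (Spec (CommRingCat.of R))) ≫
      (c.inv.hom.hom : Red.Ga (Spec (CommRingCat.of R)) ⟶ Red.bc g (Red.Ga S)) = 1 := MonObj.one_comp _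
  have h5 : (e.hom.hom.hom : Red.bc g H ⟶ Red.DS (Spec (CommRingCat.of R)) M) ≫
      (1 : Red.DS (Spec (CommRingCat.of R)) M ⟶ Red.bc g (Red.Ga S)) = 1 := MonObj.comp_one _
  rw [h2, h1]
  exact ((congrArg (fun t => (e.hom.hom.hom : Red.bc g H ⟶ Red.DS (Spec (CommRingCat.of R)) M) ≫ t) h4).trans h5).trans
    ((Over.pullback g).map_one).symm

end general

end K14.HomGa
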