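import Groth.Agent.Sga3.H792.PowFlat
import Groth.Agent.UnramA.FlatUnramAt

/-!
# The `n`-th power map of a group scheme over a field is étale at central rational points
-/

set_option autoImplicit false
universe u
open CategoryTheory MonoidalCategory CartesianMonoidalCategory MonObj GrpObj AlgebraicGeometry CategoryTheory.Limits

namespace K14.PowEtPt

/-- Étaleness of the power map near the unit point. -/
theorem exists_unit {k : Type u} [Field k] (G : Over (Spec (CommRingCat.of k))) [GrpObj G]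
    [LocallyOfFiniteType G.hom] (n : ℕ) (hn : (n : k) ≠ 0) :
    ∃ U : G.left.Opens, (∀ p : ↥(𝟙_ (Over (Spec (CommRingCat.of k)))).left, η[G].left.base p ∈ U) ∧
      Etale (U.ι ≫ ((𝟙 G : G ⟶ G) ^ n).left) := by
  have hn' : (((n : ℤ)) : k) ≠ 0 := by exact_mod_cast hn
  have hflat := Groth.Agent.Sga3.H792.PowFlat.flat_stalkMap_zpow (A := G) (d := (n : ℤ)) hn'
  have hunr := Groth.Agent.Grpsch.AbEtale.formallyUnramified_stalkMap_zpow (A := G) (d := (n : ℤ)) hn'
  rw [zpow_natCast] at hflat hunr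
  have hlfp : LocallyOfFinitePresentation ((𝟙 G : G ⟶ G) ^ n).left := by
    have : IsLocallyNoetherian G.left := LocallyOfFiniteType.isLocallyNoetherian G.hom
    have : LocallyOfFiniteType (((𝟙 G : G ⟶ G) ^ n).left ≫ G.hom) := by
      rw [Over.w]; infer_instance
    rw [LocallyOfFinitePresentation.iff_locallyOfFiniteType]
    exact locallyOfFiniteType_of_comp _ G.hom
  obtain ⟨U, hU, hE⟩ :=
    (Groth.Agent.UnramA.FlatUnramAt.etale_nhd_iff_flat_and_formallyUnramified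
      ((𝟙 G : G ⟶ G) ^ n).left (Groth.Agent.Grpsch.AbStalk.pt η[G])).mpr ⟨hflat, hunr⟩
  refine ⟨U, fun p => ?_, hE⟩
  have hp : p = IsLocalRing.closedPoint k := Subsingleton.elim (α := PrimeSpectrum k) _ _
  rw [hp]
  exact hU

section transl

variable {S : Scheme.{u}} {G : Over S} [GrpObj G]

/-- Left translation by an `S`-point. -/
noncomputable def lt (g : 𝟙_ (Over S) ⟶ G) : G ⟶ G := (toUnit G ≫ g) * 𝟙 G

lemma comp_lt {X : Over S} (x : X ⟶ G) (g : 𝟙_ (Over S) ⟶ G) : x ≫ lt g = (toUnit X ≫ g) * x := by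
  rw [lt, MonObj.comp_mul, Category.comp_id, ← Category.assoc, toUnit_unique (x ≫ toUnit G) (toUnit X)]

lemma lt_comp (g h : 𝟙_ (Over S) ⟶ G) : lt g ≫ lt h = lt (h * g) := by
  rw [comp_lt, lt, lt, ← _root_.mul_assoc, MonObj.comp_mul]

lemma lt_one : lt (1 : 𝟙_ (Over S) ⟶ G) = 𝟙 G := by
  rw [lt, MonObj.comp_one, _root_.one_mul]

/-- Left translation as an isomorphism. -/
noncomputable def ltIso (g : 𝟙_ (Over S) ⟶ G) : G ≅ G where
  hom := lt g
  inv := lt g⁻¹
  hom_inv_id := by rw [lt_comp, inv_mul_cancel, lt_one]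
  inv_hom_id := by rw [lt_comp, mul_inv_cancel, lt_one]

instance (g : 𝟙_ (Over S) ⟶ G) : IsIso (lt g) := (ltIso g).isIso_hom

instance (g : 𝟙_ (Over S) ⟶ G) : IsIso (lt g).left :=
  inferInstanceAs (IsIso ((Over.forget S).map (lt g)))

/-- The power map at a central point, in terms of translations. -/
lemma pow_eq (n : ℕ) (g : 𝟙_ (Over S) ⟶ G)
    (hg : ∀ (X : Over S) (x : X ⟶ G), (toUnit X ≫ g) * x = x * (toUnit X ≫ g)) :
    lt g⁻¹ ≫ ((𝟙 G : G ⟶ G) ^ n) ≫ lt (g ^ n) = (𝟙 G : G ⟶ G) ^ n := by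
  have hc : Commute (toUnit G ≫ g⁻¹) (𝟙 G) := by
    have h := hg G (𝟙 G)
    have h' : Commute (toUnit G ≫ g) (𝟙 G) := h
    have e : toUnit G ≫ g⁻¹ = (toUnit G ≫ g)⁻¹ := GrpObj.comp_inv _ _
    rw [e]
    exact h'.inv_left
  have h1 : lt g⁻¹ ≫ ((𝟙 G : G ⟶ G) ^ n) = (lt g⁻¹) ^ n := by
    rw [MonObj.comp_pow, Category.comp_id]
  rw [← Category.assoc, h1, comp_lt, lt, hc.mul_pow, ← _root_.mul_assoc]
  have e2 : toUnit G ≫ g ^ n = (toUnit G ≫ g) ^ n := MonObj.comp_pow _ _ _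
  have e : toUnit G ≫ g⁻¹ = (toUnit G ≫ g)⁻¹ := GrpObj.comp_inv _ _
  rw [e2, e, inv_pow, mul_inv_cancel, _root_.one_mul]

end transl

/-- The `n`-th power map is étale near a central rational point. -/
theorem exists_central {k : Type u} [Field k] (G : Over (Spec (CommRingCat.of k))) [GrpObj G]
    [LocallyOfFiniteType G.hom] (n : ℕ) (hn : (n : k) ≠ 0)
    (g : 𝟙_ (Over (Spec (CommRingCat.of k))) ⟶ G)
    (hg : ∀ (X : Over (Spec (CommRingCat.of k))) (x : X ⟶ G), (toUnit X ≫ g) * x = x * (toUnit X ≫ g)) :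
    ∃ U : G.left.Opens, Set.range g.left.base ⊆ (U : Set ↥G.left) ∧
      Etale (U.ι ≫ ((𝟙 G : G ⟶ G) ^ n).left) := by
  obtain ⟨U, hU, hE⟩ := exists_unit G n hn
  refine ⟨(lt g⁻¹).left ⁻¹ᵁ U, ?_, ?_⟩
  · rintro _ ⟨p, rfl⟩
    change (lt g⁻¹).left.base (g.left.base p) ∈ U
    have h1 : g ≫ lt g⁻¹ = η[G] := by
      rw [comp_lt, toUnit_unique (toUnit (𝟙_ _)) (𝟙 _), Category.id_comp, inv_mul_cancel]
      exact (MonObj.one_eq_one (M := G)).symm
    have h2 : (lt g⁻¹).left.base (g.left.base p) = η[G].left.base p := by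
      rw [← h1]
      rfl
    rw [h2]
    exact hU p
  · have h3 : ((lt g⁻¹).left ⁻¹ᵁ U).ι ≫ ((𝟙 G : G ⟶ G) ^ n).left =
        ((lt g⁻¹).left ∣_ U) ≫ (U.ι ≫ ((𝟙 G : G ⟶ G) ^ n).left) ≫ (lt (g ^ n)).left := by
      have e := congr(($(pow_eq n g hg)).left)
      rw [Over.comp_left, Over.comp_left] at e
      conv_lhs => rw [← e]
      rw [← Category.assoc, ← morphismRestrict_ι]
      simp only [Category.assoc]
    rw [h3]
    infer_instance

end K14.PowEtPt
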