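import Groth.Agent.SGA3x.K14.EtFib
import Groth.Agent.SGA3x.K14.PowEtPt
import Groth.Agent.Sga3B.BcPts
import Groth.Agent.S0117

/-!
# Lifting `n`-torsion points in the étale locus of the `n`-th power map through a thickening

* `E G n`: the étale locus of the `n`-th power map of `G`;
* `W G n`: the étale `S`-scheme of points `x` of `G` in `E G n` with `x ^ n = 1`;
* `eq_of_map_eq`, `exists_lift`: such points lift uniquely through a surjective closed immersion;
* `near_of_central`: central points with values in a field in which `n ≠ 0` lie in `E G n`.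
-/

set_option autoImplicit false
universe u
open CategoryTheory MonoidalCategory CartesianMonoidalCategory MonObj GrpObj AlgebraicGeometry CategoryTheory.Limits
open K203.Loc

namespace K14.PowLift

variable {S S₀ : Scheme.{u}}

/-- The étale locus of the `n`-th power map. -/
noncomputable def E (G : Over S) [GrpObj G] (n : ℕ) : G.left.Opens :=
  ⟨{x | Near @Etale ((𝟙 G : G ⟶ G) ^ n).left x}, isOpen_setOf _⟩

lemma etale_E (G : Over S) [GrpObj G] (n : ℕ) : Etale ((E G n).ι ≫ ((𝟙 G : G ⟶ G) ^ n).left) := by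
  refine property_of_forall fun x => ?_
  rw [near_comp_iff]
  exact x.2

/-- The étale `S`-scheme of points in `E G n` killed by `n`. -/
noncomputable def W (G : Over S) [GrpObj G] (n : ℕ) : Over S :=
  Over.mk (pullback.snd ((E G n).ι ≫ ((𝟙 G : G ⟶ G) ^ n).left) η[G].left ≫ (𝟙_ (Over S)).hom)

instance (G : Over S) [GrpObj G] (n : ℕ) : Etale (W G n).hom := by
  have := etale_E G n
  have : IsIso (𝟙_ (Over S)).hom := inferInstanceAs (IsIso (𝟙 S))
  exact inferInstanceAs (Etale (pullback.snd ((E G n).ι ≫ ((𝟙 G : G ⟶ G) ^ n).left) η[G].left ≫ (𝟙_ (Over S)).hom))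

/-- The projection of `W` to `E`. -/
noncomputable def pE (G : Over S) [GrpObj G] (n : ℕ) : (W G n).left ⟶ (E G n : Scheme.{u}) :=
  pullback.fst ((E G n).ι ≫ ((𝟙 G : G ⟶ G) ^ n).left) η[G].left

/-- The projection of `W` to the base. -/
noncomputable def pS (G : Over S) [GrpObj G] (n : ℕ) : (W G n).left ⟶ (𝟙_ (Over S)).left :=
  pullback.snd ((E G n).ι ≫ ((𝟙 G : G ⟶ G) ^ n).left) η[G].left

lemma W_hom (G : Over S) [GrpObj G] (n : ℕ) : (W G n).hom = pS G n ≫ (𝟙_ (Over S)).hom := rfl

lemma isPullback_W (G : Over S) [GrpObj G] (n : ℕ) :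
    IsPullback (pE G n) (pS G n) ((E G n).ι ≫ ((𝟙 G : G ⟶ G) ^ n).left) η[G].left :=
  IsPullback.of_hasPullback _ _

/-- The inclusion of `W` in `G`. -/
noncomputable def j (G : Over S) [GrpObj G] (n : ℕ) : W G n ⟶ G :=
  Over.homMk (pE G n ≫ (E G n).ι) (by
    have h := (isPullback_W G n).w
    rw [W_hom, ← Over.w η[G], ← Category.assoc, ← h]
    simp only [Category.assoc, Over.w])

@[simp] lemma j_left (G : Over S) [GrpObj G] (n : ℕ) : (j G n).left = pE G n ≫ (E G n).ι := rfl

lemma eq_of_comp_j (G : Over S) [GrpObj G] (n : ℕ) {T : Over S} (w w' : T ⟶ W G n)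
    (h : w ≫ j G n = w' ≫ j G n) : w = w' := by
  ext1
  have h1 := congr(($h).left)
  rw [Over.comp_left, Over.comp_left, j_left, ← Category.assoc, ← Category.assoc] at h1
  apply (isPullback_W G n).hom_ext ((cancel_mono _).1 h1)
  have : IsIso (𝟙_ (Over S)).hom := inferInstanceAs (IsIso (𝟙 S))
  rw [← cancel_mono (𝟙_ (Over S)).hom, Category.assoc, Category.assoc]
  exact (Over.w w).trans (Over.w w').symm

instance (G : Over S) [GrpObj G] (n : ℕ) : Mono (j G n) := ⟨fun w w' h => eq_of_comp_j G n w w' h⟩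

lemma pow_eq_one_iff' {G : Over S} [GrpObj G] (n : ℕ) {T : Over S} (x : T ⟶ G) :
    x ^ n = 1 ↔ x.left ≫ ((𝟙 G : G ⟶ G) ^ n).left = (toUnit T).left ≫ η[G].left := by
  have h1 : x ^ n = x ≫ (𝟙 G : G ⟶ G) ^ n := by rw [MonObj.comp_pow, Category.comp_id]
  have h2 : (1 : T ⟶ G) = toUnit T ≫ η[G] := rfl
  rw [h1, h2, ← Over.comp_left, ← Over.comp_left]
  exact ⟨fun h => by rw [h], fun h => Over.OverMorphism.ext h⟩

/-- Points of `G` in `E` killed by `n` factor through `W`. -/
lemma exists_fac {G : Over S} [GrpObj G] (n : ℕ) {T : Over S} (x : T ⟶ G) (hx : x ^ n = 1)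
    (hE : ∀ t, x.left t ∈ E G n) : ∃ w : T ⟶ W G n, w ≫ j G n = x := by
  have hr : Set.range x.left ⊆ Set.range (E G n).ι := by
    rw [Scheme.Opens.range_ι]
    rintro _ ⟨t, rfl⟩
    exact hE t
  let l := IsOpenImmersion.lift (E G n).ι x.left hr
  have hl : l ≫ (E G n).ι = x.left := IsOpenImmersion.lift_fac _ _ _
  have hc : l ≫ (E G n).ι ≫ ((𝟙 G : G ⟶ G) ^ n).left = (toUnit T).left ≫ η[G].left := by
    rw [← Category.assoc, hl]
    exact (pow_eq_one_iff' n x).1 hx
  refine ⟨Over.homMk ((isPullback_W G n).lift l (toUnit T).left hc) ?_, ?_⟩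
  · rw [W_hom, ← Category.assoc, (isPullback_W G n).lift_snd]
    exact Over.w (toUnit T)
  · ext1
    change (isPullback_W G n).lift l (toUnit T).left hc ≫ pE G n ≫ (E G n).ι = _
    rw [← Category.assoc, (isPullback_W G n).lift_fst, hl]

lemma j_mem {G : Over S} [GrpObj G] (n : ℕ) {T : Over S} (w : T ⟶ W G n) (t : T.left) :
    (w ≫ j G n).left t ∈ E G n := by
  have h : (w ≫ j G n).left t = (E G n).ι ((w.left ≫ pE G n) t) := rfl
  rw [h]
  exact Subtype.prop _

lemma comp_j_pow {G : Over S} [GrpObj G] (n : ℕ) {T : Over S} (w : T ⟶ W G n) :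
    (w ≫ j G n) ^ n = 1 := by
  rw [pow_eq_one_iff', Over.comp_left, j_left, Category.assoc, Category.assoc, (isPullback_W G n).w,
    ← Category.assoc]
  congr 1
  have : IsIso (𝟙_ (Over S)).hom := inferInstanceAs (IsIso (𝟙 S))
  rw [← cancel_mono (𝟙_ (Over S)).hom, Category.assoc]
  exact (Over.w w).trans (Over.w (toUnit T)).symm

section lift

variable (i : S₀ ⟶ S)

lemma fst_surj [Surjective i] (T : Over S) (t : T.left) : ∃ t₀, pullback.fst T.hom i t₀ = t := by
  have : Surjective (pullback.fst T.hom i) := inferInstance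
  exact this.1 t

lemma fst_naturality {T G : Over S} (x : T ⟶ G) (t₀ : ((Over.pullback i).obj T).left) :
    x.left (pullback.fst T.hom i t₀) = pullback.fst G.hom i (((Over.pullback i).map x).left t₀) := by
  have h : ((Over.pullback i).map x).left ≫ pullback.fst G.hom i = pullback.fst T.hom i ≫ x.left :=
    (K14.EtFib.isPullback_map i x).w.symm
  exact congr(($h.symm) t₀)

/-- Membership in `E` only depends on the restriction to `S₀`. -/
lemma mem_of_map [Surjective i] {G : Over S} [GrpObj G] (n : ℕ) {T : Over S} (x : T ⟶ G)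
    (h : ∀ t₀, pullback.fst G.hom i (((Over.pullback i).map x).left t₀) ∈ E G n) (t : T.left) :
    x.left t ∈ E G n := by
  obtain ⟨t₀, rfl⟩ := fst_surj i T t
  rw [fst_naturality]
  exact h t₀

/-- Uniqueness of lifts. -/
theorem eq_of_map_eq [IsClosedImmersion i] [Surjective i] {G : Over S} [GrpObj G] (n : ℕ) {T : Over S}
    (x x' : T ⟶ G) (hx : x ^ n = 1) (hx' : x' ^ n = 1) (hE : ∀ t, x.left t ∈ E G n)
    (h : (Over.pullback i).map x = (Over.pullback i).map x') : x = x' := by
  have hE' : ∀ t, x'.left t ∈ E G n := by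
    refine mem_of_map i n x' fun t₀ => ?_
    rw [← h, ← fst_naturality]
    exact hE _
  obtain ⟨w, rfl⟩ := exists_fac n x hx hE
  obtain ⟨w', rfl⟩ := exists_fac n x' hx' hE'
  congr 1
  apply (Groth.Agent.S0117.result i (W G n) T).1
  have : Mono ((Over.pullback i).map (j G n)) := inferInstance
  rw [Functor.map_comp, Functor.map_comp] at h
  exact (cancel_mono _).1 h

/-- Existence of lifts. -/
theorem exists_lift [IsClosedImmersion i] [Surjective i] {G : Over S} [GrpObj G] (n : ℕ) {T : Over S}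
    (y : (Over.pullback i).obj T ⟶ Red.bc i G) (hy : y ^ n = 1)
    (hE : ∀ t₀, pullback.fst G.hom i (y.left t₀) ∈ E G n) :
    ∃ x : T ⟶ G, x ^ n = 1 ∧ (Over.pullback i).map x = y ∧ ∀ t, x.left t ∈ E G n := by
  let z : (Over.map i).obj ((Over.pullback i).obj T) ⟶ G := (Groth.Agent.Sga3B.BcPts.bcEquiv i _ G).symm y
  have hz : z ^ n = 1 := by
    have := map_pow (Groth.Agent.Sga3B.BcPts.bcMulEquiv i ((Over.pullback i).obj T) G).symm y n
    rw [hy, map_one] at this
    exact this.symm
  have hzl : ∀ t₀, z.left t₀ = pullback.fst G.hom i (y.left t₀) := by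
    intro t₀
    have h : z.left = y.left ≫ pullback.fst G.hom i := by
      simp [z, Groth.Agent.Sga3B.BcPts.bcEquiv, Adjunction.homEquiv_counit]
    rw [h]
    rfl
  obtain ⟨w, hw⟩ := exists_fac n z hz (fun t => by rw [hzl]; exact hE t)
  obtain ⟨v, hv⟩ := (Groth.Agent.S0117.result i (W G n) T).2 ((Groth.Agent.Sga3B.BcPts.bcEquiv i _ (W G n)) w)
  refine ⟨v ≫ j G n, comp_j_pow n v, ?_, fun t => j_mem n v t⟩
  change (Over.pullback i).map v = _ at hv
  rw [Functor.map_comp, hv, ← Groth.Agent.Sga3B.BcPts.bcEquiv_comp, hw]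
  exact Equiv.apply_symm_apply _ _

end lift

section central

open Groth.Agent.Sga3B.BcPts

/-- A `T`-valued point commuting with all points of `G` over all `T`-schemes. -/
def IsCentralPt {G : Over S} [GrpObj G] {T : Over S} (z : T ⟶ G) : Prop :=
  ∀ (X : Over S) (t : X ⟶ T) (g : X ⟶ G), Commute (t ≫ z) g

lemma IsCentralPt.comp {G : Over S} [GrpObj G] {T T' : Over S} {z : T ⟶ G} (h : IsCentralPt z)
    (f : T' ⟶ T) : IsCentralPt (f ≫ z) := by
  intro X t g
  rw [← Category.assoc]
  exact h X (t ≫ f) g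

lemma isCentralPt_bc_iff {S' : Scheme.{u}} (f : S' ⟶ S) {G : Over S} [GrpObj G] {T : Over S'}
    (z : T ⟶ Red.bc f G) : IsCentralPt z ↔ IsCentralPt ((bcEquiv f T G).symm z) := by
  constructor
  · intro h X t g
    let X' : Over S' := Over.mk (t.left ≫ T.hom)
    let e : (Over.map f).obj X' ≅ X := Over.isoMk (Iso.refl _) (by
      simpa [X'] using (Over.w t).symm)
    let t' : X' ⟶ T := Over.homMk t.left rfl
    have he : e.hom ≫ t = (Over.map f).map t' := by
      ext1
      simp [e, t']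
    have h1 : Commute (t' ≫ z) (bcEquiv f X' G (e.hom ≫ g)) := h X' t' _
    have h2 := h1.map (bcMulEquiv f X' G).symm
    have e1 : (bcMulEquiv f X' G).symm (t' ≫ z) = e.hom ≫ t ≫ (bcEquiv f T G).symm z := by
      rw [← Category.assoc, he]
      exact comp_bcEquiv_symm f t' z
    have e2 : (bcMulEquiv f X' G).symm (bcEquiv f X' G (e.hom ≫ g)) = e.hom ≫ g :=
      Equiv.symm_apply_apply _ _
    rw [e1, e2] at h2
    have h3 : e.inv ≫ ((e.hom ≫ t ≫ (bcEquiv f T G).symm z) * (e.hom ≫ g)) =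
        e.inv ≫ ((e.hom ≫ g) * (e.hom ≫ t ≫ (bcEquiv f T G).symm z)) := by rw [h2.eq]
    simp only [MonObj.comp_mul, Iso.inv_hom_id_assoc] at h3
    exact h3
  · intro h X t g
    have h1 := h ((Over.map f).obj X) ((Over.map f).map t) ((bcEquiv f X G).symm g)
    rw [← comp_bcEquiv_symm] at h1
    have h2 := h1.map (bcMulEquiv f X G)
    have e1 : (bcMulEquiv f X G) ((bcEquiv f X G).symm (t ≫ z)) = t ≫ z := Equiv.apply_symm_apply _ _
    have e2 : (bcMulEquiv f X G) ((bcEquiv f X G).symm g) = g := Equiv.apply_symm_apply _ _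
    rwa [e1, e2] at h2

/-- A central point with values in a field in which `n ≠ 0` lies in the étale locus of the
`n`-th power map. -/
theorem near_of_central (G : Over S) [GrpObj G] [Flat G.hom] [LocallyOfFinitePresentation G.hom]
    (n : ℕ) {K : Type u} [Field K] (hn : (n : K) ≠ 0) (b : Spec (CommRingCat.of K) ⟶ S)
    (z : Over.mk b ⟶ G) (hz : IsCentralPt z) (p : Spec (CommRingCat.of K)) : z.left p ∈ E G n := by
  let φ : (Over.map b).obj (𝟙_ (Over (Spec (CommRingCat.of K)))) ⟶ Over.mk b :=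
    Over.homMk (𝟙 _) (by simp)
  let g : 𝟙_ (Over (Spec (CommRingCat.of K))) ⟶ Red.bc b G := bcEquiv b _ G (φ ≫ z)
  have hg : IsCentralPt g := by
    rw [isCentralPt_bc_iff]
    simp only [g, Equiv.symm_apply_apply]
    exact hz.comp φ
  have hg' : ∀ (X : Over (Spec (CommRingCat.of K))) (x : X ⟶ Red.bc b G),
      (toUnit X ≫ g) * x = x * (toUnit X ≫ g) := fun X x => hg X (toUnit X) x
  have hlft : LocallyOfFiniteType (Red.bc b G).hom :=
    inferInstanceAs (LocallyOfFiniteType (pullback.snd G.hom b))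
  obtain ⟨U, hU, hE⟩ := K14.PowEtPt.exists_central (Red.bc b G) n hn g hg'
  have hpow : (𝟙 (Red.bc b G) : Red.bc b G ⟶ Red.bc b G) ^ n = (Over.pullback b).map ((𝟙 G : G ⟶ G) ^ n) := by
    have e1 := map_pow (Functor.homMonoidHom (Over.pullback b) (X := G) (M := G)) (𝟙 G) n
    refine Eq.trans ?_ e1.symm
    congr 1
    exact ((Over.pullback b).map_id G).symm
  have h1 : Near @Etale ((Over.pullback b).map ((𝟙 G : G ⟶ G) ^ n)).left (g.left p) := by
    rw [← hpow]
    exact ⟨U, hU ⟨p, rfl⟩, hE⟩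
  have h2 := K14.EtFib.near_etale_of_field ((𝟙 G : G ⟶ G) ^ n) b (g.left p) h1
  have h3 : pullback.fst G.hom b (g.left p) = z.left p := by
    have h4 : (bcEquiv b _ G).symm g = φ ≫ z := Equiv.symm_apply_apply _ _
    have h5 : ((bcEquiv b _ G).symm g).left = g.left ≫ pullback.fst G.hom b := by
      simp [bcEquiv, Adjunction.homEquiv_counit]
    have h6 : g.left ≫ pullback.fst G.hom b = z.left := by
      rw [← h5, h4]
      exact Category.id_comp _
    exact congr(($h6) p)
  rw [h3] at h2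
  exact h2

end central

end K14.PowLift
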