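import Groth.Agent.SGA3x.K14.MultUnip
import Groth.Agent.SGA3x.K14.PowLift
import Groth.Agent.SGA3.K205.Transporter
import Groth.Agent.Sga3.H829.Largest

/-!
# The reductive centre of an affine algebraic group over a field
-/

set_option autoImplicit false
universe u
open CategoryTheory MonoidalCategory CartesianMonoidalCategory MonObj GrpObj AlgebraicGeometry Limits
open TensorProduct

namespace K14.RedCentreField

open Groth.Agent.Sga3B Groth.Agent.Books.AffBridge DSAff AffPts
open Groth.Agent.Sga3.H793.UnipPart Groth.Agent.Sga3.H793.MultPart Groth.Agent.Sga3.H829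
open K14.PowLift WithConv

variable {k : Type u} [Field k]

/-- The centre of a separated group scheme locally of finite type over a field. -/
theorem exists_centre (G : Over (Spec (CommRingCat.of k))) [GrpObj G] [LocallyOfFiniteType G.hom] :
    ∃ (Z : Over (Spec (CommRingCat.of k))) (_ : GrpObj Z) (i : Z ⟶ G), IsMonHom i ∧ IsClosedImmersion i.left ∧
      Mono i ∧ 
      ∀ (T : Over (Spec (CommRingCat.of k))) (g : T ⟶ G), (∃ z : T ⟶ Z, z ≫ i = g) ↔ IsCentralPt g := by
  obtain ⟨Z, i, hi, hZ⟩ := K205.Transporter.exists_transporter_hom (k := k) (G := G) (𝟙 G) (𝟙 G)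
  have hm : Mono i := by
    have : Mono i.left := inferInstance
    exact Over.mono_of_mono_left i
  have hZ' : ∀ (T : Over (Spec (CommRingCat.of k))) (g : T ⟶ G), (∃ z : T ⟶ Z, z ≫ i = g) ↔ IsCentralPt g := by
    intro T g
    rw [hZ]
    refine forall_congr' fun X => forall_congr' fun t => forall_congr' fun x => ?_
    rw [Category.comp_id, mul_inv_eq_iff_eq_mul]
    exact Iff.rfl
  obtain ⟨_, hmon⟩ := K205.Transporter.exists_grpObj_of_mem i
    ((hZ' _ _).2 fun X t g => by
      have : t ≫ η[G] = 1 := by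
        rw [MonObj.one_eq_one (M := G), MonObj.comp_one]
      rw [this]
      exact Commute.one_left _)
    (fun g g' hg hg' => by
      rw [hZ'] at hg hg' ⊢
      intro X t x
      rw [MonObj.comp_mul]
      exact (hg X t x).mul_left (hg' X t x))
    (fun g hg => by
      rw [hZ'] at hg ⊢
      intro X t x
      rw [GrpObj.comp_inv]
      exact (hg X t x).inv_left)
  exact ⟨Z, inferInstance, i, hmon, hi, hm, hZ'⟩

/-- **The reductive centre of an affine algebraic group over a field.** -/
theorem exists_redCentre (G : Over (Spec (CommRingCat.of k))) [GrpObj G] [IsAffine G.left]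
    [LocallyOfFiniteType G.hom] :
    ∃ (Z : Over (Spec (CommRingCat.of k))) (_ : GrpObj Z) (z : Z ⟶ G), IsMonHom z ∧ IsClosedImmersion z.left ∧
      Mono z ∧ SGA3x.IsMultTypeFT Z ∧
      (∀ (X : Over (Spec (CommRingCat.of k))) (x : X ⟶ Z) (g : X ⟶ G), (x ≫ z) * g = g * (x ≫ z)) ∧
      ∀ (S' : Scheme.{u}) (f : S' ⟶ (Spec (CommRingCat.of k))) (H : Over S') [GrpObj H] (v : H ⟶ Red.bc f G) [IsMonHom v],
        SGA3x.IsMultTypeFT H →
        (∀ (X : Over S') (x : X ⟶ H) (g : X ⟶ Red.bc f G), (x ≫ v) * g = g * (x ≫ v)) →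
        ∃ w : H ⟶ Red.bc f Z, w ≫ (Over.pullback f).map z = v := by
  obtain ⟨C, _, i, hi, hcl, hmono, hC⟩ := exists_centre G
  have haffC : IsAffine C.left := isAffine_of_isAffineHom i.left
  have hftC : LocallyOfFiniteType C.hom := by
    rw [← Over.w i]; infer_instance
  have hcomm : ∀ (X : Over (Spec (CommRingCat.of k))) (x : X ⟶ C) (g : X ⟶ G), (x ≫ i) * g = g * (x ≫ i) := by
    intro X x g
    have h2 := (hC X (x ≫ i)).mp ⟨x, rfl⟩ X (𝟙 X) g
    rwa [Category.id_comp] at h2
  obtain ⟨A, _, _, e, he⟩ := exists_hopf k C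
  have hft : Algebra.FiniteType k A := by
    have h1 : LocallyOfFiniteType (SpecOver k A).hom := by
      rw [← Over.w e.inv]; infer_instance
    have h2 : LocallyOfFiniteType (Spec.map (CommRingCat.ofHom (algebraMap k A))) := h1
    rw [HasRingHomProperty.Spec_iff (P := @LocallyOfFiniteType)] at h2
    exact (RingHom.finiteType_algebraMap).mp h2
  have hco : Coalgebra.IsCocomm k A := by
    apply Largest.isCocomm_of_points
    intro X x y
    have h1 := hcomm X (x ≫ e.inv) (y ≫ e.inv ≫ i)
    rw [← Category.assoc, ← MonObj.mul_comp, ← MonObj.mul_comp, ← MonObj.mul_comp, ← MonObj.mul_comp,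
      cancel_mono, cancel_mono] at h1
    exact h1
  let J := Groth.Agent.Sga3.H793.MultPart.multIdeal k A
  have hJ : J.IsHopfIdeal k := Groth.Agent.Sga3.H793.MultPart.isHopfIdeal_multIdeal k A
  have hMT : SGA3b.IsMultTypeConst k (A ⧸ J) := Groth.Agent.Sga3.H793.MultPart.isMultTypeConst_quotient
  let q : A →ₐc[k] A ⧸ J := Bialgebra.Quotient.mkBialgHom (R := k) J
  have hq : Function.Surjective q := Ideal.Quotient.mk_surjective
  have i1 : IsMonHom (specMap k (q : A →ₐ[k] A ⧸ J)) := isMonHom_specMap k q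
  have i2 : IsClosedImmersion (specMap k (q : A →ₐ[k] A ⧸ J)).left :=
    IsClosedImmersion.spec_of_surjective _ hq
  let z : SpecOver k (A ⧸ J) ⟶ G := specMap k (q : A →ₐ[k] A ⧸ J) ≫ e.inv ≫ i
  have hz : IsClosedImmersion z.left := by
    change IsClosedImmersion ((specMap k (q : A →ₐ[k] A ⧸ J)).left ≫ e.inv.left ≫ i.left)
    infer_instance
  have hzm : Mono z := by
    have : Mono z.left := inferInstance
    exact Over.mono_of_mono_left z
  refine ⟨SpecOver k (A ⧸ J), inferInstance, z, inferInstanceAs (IsMonHom (specMap k _ ≫ e.inv ≫ i)), hz, hzm,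
    MultConv.isMultTypeFT_of_isMultTypeConst hMT, ?_, ?_⟩
  · intro X x g
    have h1 := hcomm X (x ≫ specMap k (q : A →ₐ[k] A ⧸ J) ≫ e.inv) g
    simpa only [Category.assoc] using h1
  · intro S' f H _ v _ hH hv
    have hvc : IsCentralPt v := hv
    obtain ⟨c, hc⟩ := (hC _ _).2 ((isCentralPt_bc_iff f v).1 hvc)
    let c' : H ⟶ Red.bc f C := BcPts.bcEquiv f H C c
    have hc' : c' ≫ (Over.pullback f).map i = v := by
      rw [← BcPts.bcEquiv_comp, hc]
      exact Equiv.apply_symm_apply _ _
    have hFm : Mono ((Over.pullback f).map i) := inferInstance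
    have hcm : IsMonHom c' := by
      refine Pts.isMonHom_of_points c' fun X x y => ?_
      rw [← cancel_mono ((Over.pullback f).map i), Category.assoc, hc',
        MonObj.mul_comp (x ≫ c') (y ≫ c') ((Over.pullback f).map i), Category.assoc, Category.assoc, hc',
        MonObj.mul_comp]
    have h2 := MultUnip.main f e hH c' (unipSub k A).val (fun x => x.2)
    have h3 : (BcPts.bcEquiv f H C).symm c' = c := Equiv.symm_apply_apply _ _
    rw [h3] at h2
    obtain ⟨α, hα⟩ := (affPt_bijective (R := k) (A := A) ((Over.map f).obj H)).2 (c ≫ e.hom)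
    have h4 : (1 : (Over.map f).obj H ⟶ C) ≫ e.hom =
        affPt ((Over.map f).obj H) (1 : WithConv (A →ₐ[k] Fn ((Over.map f).obj H))).ofConv := by
      rw [MonObj.one_comp]
      exact ((affEquiv (R := k) (A := A) ((Over.map f).obj H)).map_one).symm
    rw [← Category.assoc, ← hα, ← Category.assoc, h4, affPt_specMap, affPt_specMap] at h2
    have h5 := (affPt_bijective ((Over.map f).obj H)).1 h2
    have h6 : ∀ a ∈ J, α a = 0 := by
      intro a ha
      have : J ≤ RingHom.ker (α : A →+* Fn ((Over.map f).obj H)) := by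
        refine Ideal.span_le.2 ?_
        rintro b ⟨hb, hb0⟩
        have h7 := DFunLike.congr_fun h5 (⟨b, hb⟩ : unipSub k A)
        change α b = algebraMap k _ (Coalgebra.counit (R := k) b) at h7
        rw [hb0, map_zero] at h7
        exact h7
      exact this ha
    let α' : A ⧸ J →ₐ[k] Fn ((Over.map f).obj H) := Ideal.Quotient.liftₐ J α h6
    let w₀ : (Over.map f).obj H ⟶ SpecOver k (A ⧸ J) := affPt _ α'
    have h8 : w₀ ≫ specMap k (q : A →ₐ[k] A ⧸ J) = c ≫ e.hom := by
      rw [← hα, affPt_specMap]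
      rfl
    refine ⟨BcPts.bcEquiv f H _ w₀, ?_⟩
    rw [← BcPts.bcEquiv_comp]
    change BcPts.bcEquiv f H G (w₀ ≫ specMap k (q : A →ₐ[k] A ⧸ J) ≫ e.inv ≫ i) = v
    rw [← Category.assoc, h8, Category.assoc, Iso.hom_inv_id_assoc, hc]
    exact Equiv.apply_symm_apply _ _

end K14.RedCentreField
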