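import Groth.Agent.SGA3x.K10.MTLoc
import Groth.Agent.SGA3x.K14.FpqcExt
import Groth.Agent.Sga3B.DSAff
import Groth.Agent.Books.AffBridge2
import Groth.Agent.FlatB.GenFibRed
import Mathlib.GroupTheory.Perm.Cycle.Type

/-!
# Smooth finite groups of multiplicative type are locally killed by an invertible integer
-/

set_option autoImplicit false
universe u
open CategoryTheory MonoidalCategory CartesianMonoidalCategory MonObj GrpObj AlgebraicGeometry Limits

namespace K14.SmoothFinMT

open Groth.Agent.Sga3B Groth.Agent.Books Groth.Agent.Books.AffBridge DSAff DSPts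

/-- Points of `D(M)` are killed by the integers killing `M`. -/
lemma ds_pow_eq_one {S : Scheme.{u}} {M : Type} [AddCommGroup M] (n : ℕ) (hn : ∀ m : M, n • m = 0)
    {T : Over S} (x : T ⟶ Red.DS S M) : x ^ n = 1 := by
  apply (dsEquiv T M).symm.injective
  rw [map_pow, map_one]
  refine MonoidHom.ext fun m => ?_
  rw [MonoidHom.pow_apply, ← map_pow]
  have : m ^ n = 1 := hn (Multiplicative.toAdd m)
  rw [this, map_one]
  rfl

lemma finite_of_finite {K : Type u} [Field K] {M : Type} [AddCommGroup M]
    (h : Module.Finite K (MonoidAlgebra K (Multiplicative M))) : Finite M := by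
  have : Finite (Multiplicative M) := Module.Finite.finite_basis (MonoidAlgebra.basis (Multiplicative M) K)
  exact this

lemma card_ne_zero {K : Type u} [Field K] {M : Type} [AddCommGroup M] [Finite M]
    (h : IsReduced (MonoidAlgebra K (Multiplicative M))) : (Nat.card M : K) ≠ 0 := by
  intro h0
  obtain ⟨p, hp⟩ := CharP.exists K
  have hp0 : p ∣ Nat.card M := (CharP.cast_eq_zero_iff K p _).1 h0
  have hpp : p.Prime := by
    rcases CharP.char_is_prime_or_zero K p with hp' | hp'
    · exact hp'
    · rw [hp', zero_dvd_iff] at hp0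
      exact absurd hp0 Nat.card_pos.ne'
  have : Fact p.Prime := ⟨hpp⟩
  obtain ⟨m, hm⟩ := exists_prime_orderOf_dvd_card' (G := Multiplicative M) p hp0
  have hcp : CharP (MonoidAlgebra K (Multiplicative M)) p := charP_of_injective_algebraMap
    (algebraMap K _).injective p
  have h1 : (MonoidAlgebra.of K (Multiplicative M) m - 1) ^ p = 0 := by
    rw [sub_pow_char, ← map_pow, ← hm, pow_orderOf_eq_one, map_one, one_pow, sub_self]
  have h2 := pow_eq_zero_iff (hpp.ne_zero) |>.1 h1
  rw [sub_eq_zero, ← map_one (MonoidAlgebra.of K (Multiplicative M))] at h2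
  have h3 : m = 1 := MonoidAlgebra.of_injective h2
  rw [h3, orderOf_one] at hm
  exact hpp.one_lt.ne hm

/-- Over a field: a smooth finite diagonalisable group has order prime to the characteristic. -/
lemma field {K : Type u} [Field K] {M : Type} [AddCommGroup M]
    [Smooth (Red.DS (Spec (CommRingCat.of K)) M).hom] [IsFinite (Red.DS (Spec (CommRingCat.of K)) M).hom] :
    Finite M ∧ (Nat.card M : K) ≠ 0 := by
  have e : (SpecOver K (MonoidAlgebra K (Multiplicative M))).hom =
      (dsFrom K M).left ≫ (Red.DS (Spec (CommRingCat.of K)) M).hom := (Over.w _).symm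
  have : IsIso (dsFrom K M).left := inferInstanceAs (IsIso ((Over.forget _).map (dsFrom K M)))
  have h1 : Smooth (SpecOver K (MonoidAlgebra K (Multiplicative M))).hom := by
    rw [e]; infer_instance
  have h2 : IsFinite (SpecOver K (MonoidAlgebra K (Multiplicative M))).hom := by
    rw [e]; infer_instance
  have h3 : Algebra.Smooth K (MonoidAlgebra K (Multiplicative M)) := (AffBridge2.smooth_specOver_iff _ _).1 h1
  have h4 : Module.Finite K (MonoidAlgebra K (Multiplicative M)) := by
    change IsFinite (Spec.map (CommRingCat.ofHom (algebraMap K (MonoidAlgebra K (Multiplicative M))))) at h2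
    rw [IsFinite.SpecMap_iff] at h2
    exact RingHom.finite_algebraMap.1 h2
  have h5 := finite_of_finite h4
  refine ⟨h5, card_ne_zero (Groth.Agent.FlatB.GenFibRed.isReduced_of_smooth_field K _)⟩

/-- **A smooth finite group of multiplicative type is, locally on the base, killed by an integer
invertible on the base.** -/
theorem exists_kill {S : Scheme.{u}} {H : Over S} [GrpObj H] [Smooth H.hom] [IsFinite H.hom]
    (hH : SGA3x.IsMultTypeFT H) (s : S) :
    ∃ (U : S.Opens) (n : ℕ), s ∈ U ∧ (∀ t ∈ U, ((n : ℕ) : S.residueField t) ≠ 0) ∧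
      ∀ (T : Over S) (x : T ⟶ H), (∀ t : T.left, T.hom t ∈ U) → x ^ n = 1 := by
  obtain ⟨B, _, v, M, _, hv, ⟨y, hy⟩, hM, ⟨e⟩⟩ := K10.MTLoc.exists_etale_split hH s
  let K := (Spec (CommRingCat.of B)).residueField y
  let b : Spec K ⟶ Spec (CommRingCat.of B) := (Spec (CommRingCat.of B)).fromSpecResidueField y
  have e' : Grp.mk (Red.bc (b ≫ v) H) ≅ Grp.mk (Red.DS (Spec K) M) :=
    BcIso.bcCompIso b v H ≪≫ BcIso.bcMapIso b e ≪≫ TorusAlgClosed.dsBcIso b M
  have h1 : Smooth (Red.DS (Spec K) M).hom := by
    have : Smooth (Red.bc (b ≫ v) H).hom := inferInstanceAs (Smooth (pullback.snd H.hom (b ≫ v)))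
    exact TorusAlgClosed.prop_of_grp_iso (P := @Smooth) e'.symm this
  have h2 : IsFinite (Red.DS (Spec K) M).hom := by
    have : IsFinite (Red.bc (b ≫ v) H).hom := inferInstanceAs (IsFinite (pullback.snd H.hom (b ≫ v)))
    exact TorusAlgClosed.prop_of_grp_iso (P := @IsFinite) e'.symm this
  obtain ⟨hfin, hn⟩ := field (K := K) (M := M)
  set n := Nat.card M with hndef
  let W : S.Opens := S.basicOpen (U := ⊤) ((n : ℕ) : Γ(S, ⊤))
  have hW : ∀ t : S, t ∈ W ↔ ((n : ℕ) : S.residueField t) ≠ 0 := by
    intro t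
    have h := S.evaluation_ne_zero_iff_mem_basicOpen (U := ⊤) t trivial ((n : ℕ) : Γ(S, ⊤))
    rw [map_natCast] at h
    exact h.symm
  let U : S.Opens := ⟨Set.range v, v.isOpenMap.isOpen_range⟩ ⊓ W
  refine ⟨U, n, ⟨⟨y, hy⟩, ?_⟩, fun t ht => (hW t).1 ht.2, fun T x hx => ?_⟩
  · change s ∈ W
    rw [hW, ← hy]
    intro h0
    apply hn
    have := congrArg (v.residueFieldMap y).hom h0
    rw [map_natCast, map_zero] at this
    exact this
  · let T'' : Over (Spec (CommRingCat.of B)) := Over.mk (pullback.snd T.hom v)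
    let q : (Over.map v).obj T'' ⟶ T := Over.homMk (pullback.fst T.hom v) pullback.condition
    have hq : Surjective q.left := by
      constructor
      rw [← Set.range_eq_univ]
      change Set.range (pullback.fst T.hom v) = _
      rw [Scheme.Pullback.range_fst]
      refine Set.eq_univ_of_forall fun t => (hx t).1
    have hq' : Flat q.left := inferInstanceAs (Flat (pullback.fst T.hom v))
    have hqe : Epi q.left := Flat.epi_of_flat_of_surjective _
    have hqe' : Epi q := Over.epi_of_epi_left _
    rw [← cancel_epi q, MonObj.comp_pow, MonObj.comp_one]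
    apply (Groth.Agent.Sga3B.BcPts.bcMulEquiv v T'' H).injective
    rw [map_pow, map_one]
    let e₁ : Red.bc v H ⟶ Red.DS (Spec (CommRingCat.of B)) M := e.hom.hom.hom
    have : Mono e₁ := inferInstanceAs (Mono ((Grp.forget _).map e.hom))
    have he : IsMonHom e₁ := e.hom.hom.isMonHom_hom
    have h1 : ∀ z : T'' ⟶ Red.bc v H, (z ^ n) ≫ e₁ = (z ≫ e₁) ^ n := fun z => MonObj.pow_comp z n e₁
    have h2 : (1 : T'' ⟶ Red.bc v H) ≫ e₁ = 1 := MonObj.one_comp e₁
    rw [← cancel_mono e₁, h1, h2]
    exact ds_pow_eq_one n (fun m => by rw [hndef]; exact card_nsmul_eq_zero') _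

end K14.SmoothFinMT
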