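import Groth.Agent.SGA3x.K14.TorGenLoc
import Groth.Agent.SGA3x.K13.HC.Tors
import Groth.Agent.SGA3x.K13.CT.Tors

/-!
# Generisation of subtori with prescribed torsion

`G` of finite type over a noetherian affine scheme, `m k : M k ⟶ G` a coherent family of finite étale subgroups of
multiplicative type (`M k` killed by `q ^ k`, `q` invertible). If the geometric fibres of the `M k` at `t` are contained in
one closed affine subscheme and there is a subtorus of the fibre `G_s`, `s` a specialization of `t`, whose `q^k`-torsion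
is `(M k)_s` for all `k`, then the same holds at `t`.
-/

set_option autoImplicit false
universe u
open CategoryTheory MonoidalCategory CartesianMonoidalCategory MonObj GrpObj AlgebraicGeometry Limits

namespace K14.TorGenMain

open Groth.Agent Groth.Agent.Sga3B K14.TorGenTriv K14.TorGenCore K14.TorGenInt K14.TorGenFib K14.TorGenTrait
  K14.TorGenPieces K211.TorsQ K18.TorsFam K13.NTorsion K18.TorSpec

section triv

variable {V : Type u} [CommRing V]

/-- The split torus of the special fibre. -/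
theorem exists_w [IsLocalRing V] [IsSepClosed (IsLocalRing.ResidueField V)] {q : ℕ}
    {G : Over (Spec (CommRingCat.of V))} [GrpObj G]
    {M : ℕ → Over (Spec (CommRingCat.of V))} [∀ k, GrpObj (M k)] (m : ∀ k, M k ⟶ G) (hH : Has q m (cl V)) :
    ∃ (r : ℕ) (w : Red.DS (Spec (CommRingCat.of (V ⧸ IsLocalRing.maximalIdeal V))) (Fin r → ℤ) ⟶ Red.bc (cl V) G),
      IsMonHom w ∧ Mono w ∧ ∀ k, ∃ g : Red.bc (cl V) (M k) ⟶
        Red.DS (Spec (CommRingCat.of (V ⧸ IsLocalRing.maximalIdeal V))) (Fin r → ℤ),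
        g ≫ w = pbm (cl V) (m k) ∧ IsTor (q ^ k) g := by
  obtain ⟨T, _, j, h1, h2, h3, h4⟩ := hH
  obtain ⟨r, e, he⟩ := exists_split_res h3
  refine ⟨r, e.hom ≫ j, inferInstance, mono_comp _ _, fun k => ?_⟩
  obtain ⟨g, hg, hg'⟩ := h4 k
  have h5 : (g ≫ e.inv) ≫ e.hom = g := by rw [Category.assoc, e.inv_hom_id, Category.comp_id]
  refine ⟨g ≫ e.inv, ?_, isTor_of_comp_iso e ?_⟩
  · rw [← Category.assoc, h5]
    exact hg
  · rw [h5]
    exact ⟨hg'.mono, hg'.pts⟩

/-- The data over the trait. -/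
theorem exists_data [HenselianLocalRing V] [IsSepClosed (IsLocalRing.ResidueField V)] {q : ℕ} (hq : 1 < q)
    {G : Over (Spec (CommRingCat.of V))} [GrpObj G]
    {M : ℕ → Over (Spec (CommRingCat.of V))} [∀ k, GrpObj (M k)] (m : ∀ k, M k ⟶ G)
    (hm : ∀ k, IsMonHom (m k) ∧ Mono (m k) ∧ SGA3x.IsMultTypeFT (M k))
    (hcoh : ∀ j k : ℕ, j ≤ k → ∃ f : M j ⟶ M k, f ≫ m k = m j) (hH : Has q m (cl V)) :
    ∃ (r : ℕ) (u : ∀ k, Red.DS (Spec (CommRingCat.of V)) (Fin r → ZMod (q ^ k)) ⟶ M k)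
      (φ : ∀ i, Red.DS (Spec (CommRingCat.of (Qi V i))) (Fin r → ℤ) ⟶ Red.bc (gen V (Qi V i)) G),
      (∀ k, IsMonHom (u k)) ∧ (∀ k, IsIso (u k)) ∧
      (∀ j k (h : j ≤ k), Red.DSmap _ (tz r (pow_dvd_pow q h)) ≫ u k ≫ m k = u j ≫ m j) ∧
      ∀ i k, Red.DSmap _ (cz r (q ^ k)) ≫ φ i = bcD (gen V (Qi V i)) (u k ≫ m k) := by
  obtain ⟨r, w, hw1, hw2, hw3⟩ := exists_w m hH
  have hloc : IsLocalRing (V ⧸ IsLocalRing.maximalIdeal V) := inferInstance
  obtain ⟨u, hu1, hu2, hu3, hu4⟩ := exists_triv (cl V) m hm hcoh w hw3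
  have hu5 : ∀ k, IsMonHom (u k ≫ m k) := fun k => by
    have := hu1 k
    have := (hm k).1
    infer_instance
  have key : ∀ i, ∃ ψ : Red.DS (Spec (CommRingCat.of (Qi V i))) (Fin r → ℤ) ⟶ Red.bc (gen V (Qi V i)) G,
      ∀ k, Red.DSmap _ (cz r (q ^ k)) ≫ ψ = bcD (gen V (Qi V i)) (u k ≫ m k) := by
    intro i
    obtain ⟨i₀, h1, h2, h3⟩ := exists_thick V i
    exact exists_phi i₀ h2 (gen V (Qi V i)) (cl V) h3 hq (fun k => u k ≫ m k) hu5 hu3 w hw1 hu4
  choose φ hφ using key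
  exact ⟨r, u, φ, hu1, hu2, hu3, hφ⟩

end triv

section gen

/-- The generic fibre over the trait, with the concrete torsion groups. -/
theorem exists_torus {V : Type u} [CommRing V] [IsDomain V] [HenselianLocalRing V]
    [IsSepClosed (IsLocalRing.ResidueField V)] {K : Type u} [CommRing K] [Algebra V K] [IsFractionRing V K]
    (hF : IsField K) (h𝔪 : ∀ x : V, (∀ i : ℕ, x ∈ IsLocalRing.maximalIdeal V ^ i) → x = 0)
    {S : Scheme.{u}} {κ : Type u} [Field κ] {q : ℕ} (hq : 1 < q)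
    (i : Spec (CommRingCat.of κ) ⟶ S) (α : Spec (CommRingCat.of V) ⟶ S)
    (χ : Spec (CommRingCat.of K) ⟶ Spec (CommRingCat.of κ)) (h : gen V K ≫ α = χ ≫ i)
    {G : Over S} [GrpObj G] [QuasiCompact G.hom] [QuasiSeparated G.hom] [LocallyOfFiniteType G.hom]
    {M : ℕ → Over S} [∀ k, GrpObj (M k)] (m : ∀ k, M k ⟶ G)
    (hm : ∀ k, IsMonHom (m k) ∧ Mono (m k) ∧ SGA3x.IsMultTypeFT (M k))
    (haff : ∀ k, IsAffine (Red.bc i (M k)).left)
    (hinc : ∀ j k, j ≤ k → ∃ f : M j ⟶ M k, f ≫ m k = m j)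
    (hH : Has q (fun k => pbm α (m k)) (cl V))
    {E : Over (Spec (CommRingCat.of κ))} [GrpObj E] (hE : IsAffine E.left)
    (e : E ⟶ Red.bc i G) [IsMonHom e] [IsClosedImmersion e.left]
    (c : ∀ k, Red.bc i (M k) ⟶ E) (hcm : ∀ k, IsMonHom (c k)) (hce : ∀ k, c k ≫ e = pbm i (m k))
    (hd : ∀ b : Γ(E.left, ⊤), (∀ k, (c k).left.appTop.hom b = 0) → b = 0) :
    Red.IsTorus (Red.bc χ E) ∧ ∀ k, IsTor (q ^ k) (pbm χ (c k)) := by
  obtain ⟨r, u, φ, hu, hui, hcoh, hφ⟩ := exists_data hq (fun k => pbm α (m k)) (fun k => by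
      obtain ⟨h1, h2, h3⟩ := hm k
      exact ⟨inferInstance, inferInstance, K18.MTDesc.isMultTypeFT_bc α h3⟩) (fun j k hjk => by
      obtain ⟨f, hf⟩ := hinc j k hjk
      exact ⟨pbm α f, by rw [← pbm_comp, hf]⟩) hH
  exact TorGenLoc.core (Γ := fun k => Fin r → ZMod (q ^ k)) (fun k => cz r (q ^ k)) hF h𝔪
    (fun {j k} h => tz r (pow_dvd_pow q h))
    (fun {j k} h z => DFunLike.congr_fun (tz_comp_cz r (pow_dvd_pow q h)) z) (hsep r hq) (hsep' r hq) hq
    (fun k x => by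
      funext i
      simp) (fun k => by
      have : NeZero (q ^ k) := ⟨(pow_pos (by omega) k).ne'⟩
      exact card_pow r (q ^ k)) i α χ h m (fun k => (hm k).2.1) haff hinc u hu hui hcoh φ hφ hE e c hcm hce hd

end gen

section main

variable {A : Type u} [CommRing A] [IsNoetherianRing A] {G : Over (Spec (CommRingCat.of A))} [GrpObj G]
  [QuasiCompact G.hom] [LocallyOfFiniteType G.hom] {q : ℕ}

omit [GrpObj G] [QuasiCompact G.hom] in
lemma quasiSeparated : QuasiSeparated G.hom := by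
  have h1 : IsLocallyNoetherian G.left := LocallyOfFiniteType.isLocallyNoetherian G.hom
  exact (quasiSeparated_iff_quasiSeparatedSpace G.hom).2 inferInstance

/-- **Generisation of subtori with prescribed torsion.** -/
theorem generizes (hq : 1 < q)
    (M : ℕ → Over (Spec (CommRingCat.of A))) (grp : ∀ k, GrpObj (M k)) (m : ∀ k, M k ⟶ G)
    (hm : ∀ k, IsMonHom (m k) ∧ Mono (m k) ∧ SGA3x.IsMultTypeFT (M k))
    (hfin : ∀ k, IsFinite (M k).hom) (het : ∀ k, Etale (M k).hom)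
    (hcoh : ∀ j k : ℕ, j ≤ k → ∃ f : M j ⟶ M k, f ≫ m k = m j) {t s : ↥(Spec (CommRingCat.of A))} (hts : t ⤳ s)
    (hc : ∃ (F : Scheme.{u}) (f : F ⟶ (Red.geomFibre t G).left), IsClosedImmersion f ∧ IsAffine F ∧
      ∀ k, ∃ g : (Red.geomFibre t (M k)).left ⟶ F, g ≫ f = ((Over.pullback (Red.geomPt t)).map (m k)).left)
    (h : Has q m ((Spec (CommRingCat.of A)).fromSpecResidueField s)) :
    Has q m ((Spec (CommRingCat.of A)).fromSpecResidueField t) := by
  obtain ⟨E, _, e, c, he, he', hE, hce, hcm, hd⟩ := exists_closure_fib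
    (κ := (Spec (CommRingCat.of A)).residueField t) (L := AlgebraicClosure ((Spec (CommRingCat.of A)).residueField t))
    ((Spec (CommRingCat.of A)).fromSpecResidueField t) G grp m (fun k => (hm k).1) hfin het hcoh hc
  obtain ⟨V, _, _, _, _, _, α, χ, χ₀, hχ, hχ₀⟩ := K7.GenTrait.exists_trait hts
  have hH : Has q (fun k => pbm α (m k)) (cl V) := Has.square (w := χ₀) (w' := cl V) (f' := α) hχ₀.symm h
  have hqs : QuasiSeparated G.hom := quasiSeparated
  have haff : ∀ k, IsAffine (Red.bc ((Spec (CommRingCat.of A)).fromSpecResidueField t) (M k)).left := fun k => by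
    have h1 := hfin k
    exact isAffine_bc _ (isAffine_of_isAffineHom (M k).hom)
  obtain ⟨h1, h2⟩ := exists_torus (K := FractionRing V) (κ := (Spec (CommRingCat.of A)).residueField t) (Field.toIsField _) (fun x hx => by
      have h3 := Ideal.iInf_pow_eq_bot_of_isLocalRing (IsLocalRing.maximalIdeal V)
        (IsLocalRing.maximalIdeal.isMaximal V).ne_top
      have h4 : x ∈ ⨅ i : ℕ, IsLocalRing.maximalIdeal V ^ i := by
        rw [Ideal.mem_iInf]
        exact hx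
      rwa [h3, Ideal.mem_bot] at h4) hq ((Spec (CommRingCat.of A)).fromSpecResidueField t) α χ hχ.symm m hm haff hcoh hH
    hE e c hcm hce hd
  have c5 := isSeparated_fibre t G
  have c6 := flat_fibre t χ
  have c7 := surjective_fibre t χ
  refine Has.descend (w := χ) hq (fun k => ⟨(hm k).1, (hm k).2.1⟩) ?_
  have hemono : Mono e := mono_of_closed e
  refine ⟨Red.bc χ E, inferInstance, pbm χ e, inferInstance, inferInstance, h1, fun k => ⟨pbm χ (c k), ?_, ?_⟩⟩
  · rw [← pbm_comp, hce]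
    rfl
  · have h3 := hcm k
    exact ⟨inferInstance, (h2 k).mono, (h2 k).pts⟩

omit [GrpObj G] [QuasiCompact G.hom] [LocallyOfFiniteType G.hom] [IsNoetherianRing A] in
/-- Coherence implies that `M` is finite étale. -/
theorem isFinite_etale {n : ℕ} (h0 : 0 < n) (hn : IsUnit (n : A)) {M : Over (Spec (CommRingCat.of A))} [GrpObj M]
    (m : M ⟶ G) [Mono m] (hM : SGA3x.IsMultTypeFT M)
    (h : ∃ f : M ⟶ M, f ≫ m = m ∧ AlgGrp.IsKernel f ((𝟙 M : M ⟶ M) ^ n)) : IsFinite M.hom ∧ Etale M.hom := by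
  obtain ⟨f, h1, h2⟩ := h
  have h3 : f = 𝟙 M := by rw [← cancel_mono m, h1, Category.id_comp]
  subst h3
  have h4 : IsTors n (𝟙 M) := K18.TorTors.isTors_of_isKernel inferInstance h2
  have hfl := K10.MTLoc.flat hM
  have hlfp := K10.MTLoc.locallyOfFinitePresentation hM
  exact ⟨K13.HC.Tors.isFinite h0 h4 hM, K13.CT.Tors.etale_of_isTors h4 (K13.HC.Tors.mul_comm_of_FT hM) fun s =>
    (isUnit_of_hom hn ((Spec (CommRingCat.of A)).fromSpecResidueField s)).ne_zero⟩

/-- **Generisation of subtori with prescribed torsion**, in the form of S8438. -/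
theorem main (hq : 1 < q) (hqu : IsUnit (q : A))
    (M : ℕ → Over (Spec (CommRingCat.of A))) (grp : ∀ k, GrpObj (M k)) (m : ∀ k, M k ⟶ G)
    (hm : ∀ k, IsMonHom (m k) ∧ Mono (m k) ∧ SGA3x.IsMultTypeFT (M k))
    (hcoh : ∀ j k : ℕ, j ≤ k → ∃ f : M j ⟶ M k, f ≫ m k = m j ∧ AlgGrp.IsKernel f ((𝟙 (M k) : M k ⟶ M k) ^ (q ^ j)))
    {t s : ↥(Spec (CommRingCat.of A))} (hts : t ⤳ s)
    (hc : ∃ (F : Scheme.{u}) (f : F ⟶ (Red.geomFibre t G).left), IsClosedImmersion f ∧ IsAffine F ∧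
      ∀ k, ∃ g : (Red.geomFibre t (M k)).left ⟶ F, g ≫ f = ((Over.pullback (Red.geomPt t)).map (m k)).left)
    (h : ∃ (Ts : Over (Spec ((Spec (CommRingCat.of A)).residueField s))) (_ : GrpObj Ts)
      (js : Ts ⟶ Red.bc ((Spec (CommRingCat.of A)).fromSpecResidueField s) G), IsMonHom js ∧ Mono js ∧ Red.IsTorus Ts ∧
      ∀ k, ∃ g : Red.bc ((Spec (CommRingCat.of A)).fromSpecResidueField s) (M k) ⟶ Ts,
        g ≫ js = (Over.pullback ((Spec (CommRingCat.of A)).fromSpecResidueField s)).map (m k) ∧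
        AlgGrp.IsKernel g ((𝟙 Ts : Ts ⟶ Ts) ^ (q ^ k))) :
    ∃ (Ts : Over (Spec ((Spec (CommRingCat.of A)).residueField t))) (_ : GrpObj Ts)
      (js : Ts ⟶ Red.bc ((Spec (CommRingCat.of A)).fromSpecResidueField t) G), IsMonHom js ∧ Mono js ∧ Red.IsTorus Ts ∧
      ∀ k, ∃ g : Red.bc ((Spec (CommRingCat.of A)).fromSpecResidueField t) (M k) ⟶ Ts,
        g ≫ js = (Over.pullback ((Spec (CommRingCat.of A)).fromSpecResidueField t)).map (m k) ∧
        AlgGrp.IsKernel g ((𝟙 Ts : Ts ⟶ Ts) ^ (q ^ k)) := by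
  have hfe : ∀ k, IsFinite (M k).hom ∧ Etale (M k).hom := fun k => by
    have h1 := (hm k).2.1
    refine isFinite_etale (n := q ^ k) (pow_pos (by omega) k) ?_ (m k) (hm k).2.2 (hcoh k k le_rfl)
    rw [Nat.cast_pow]
    exact hqu.pow k
  exact (has_iff (hm := fun k => (hm k).1) _).1 (generizes hq M grp m hm (fun k => (hfe k).1) (fun k => (hfe k).2)
    (fun j k hjk => by
      obtain ⟨f, hf, -⟩ := hcoh j k hjk
      exact ⟨f, hf⟩) hts hc ((has_iff (hm := fun k => (hm k).1) _).2 h))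

end main

end K14.TorGenMain
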