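import Mathlib.AlgebraicGeometry.Gluing
import Mathlib.AlgebraicGeometry.Morphisms.OpenImmersion
import Mathlib.AlgebraicGeometry.Morphisms.Etale
import Mathlib.AlgebraicGeometry.Pullbacks
import Mathlib.CategoryTheory.Monoidal.Cartesian.Over
import Mathlib.AlgebraicGeometry.Cover.Open

/-!
# Gluing morphisms of `S`-schemes over open subsets of the base
-/

set_option autoImplicit false
universe u
open CategoryTheory AlgebraicGeometry CategoryTheory.Limits

namespace K14.Parts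

variable {S : Scheme.{u}}

/-- The part of `X` over an open subset of the base. -/
noncomputable def part (X : Over S) (U : S.Opens) : Over S := Over.mk ((X.hom ⁻¹ᵁ U).ι ≫ X.hom)

/-- The inclusion of the part of `X` over `U`. -/
noncomputable def partι (X : Over S) (U : S.Opens) : part X U ⟶ X := Over.homMk (X.hom ⁻¹ᵁ U).ι rfl

@[simp] lemma partι_left (X : Over S) (U : S.Opens) : (partι X U).left = (X.hom ⁻¹ᵁ U).ι := rfl

lemma part_mem (X : Over S) (U : S.Opens) (t : (part X U).left) : (part X U).hom t ∈ U := by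
  have h : (part X U).hom t = X.hom ((X.hom ⁻¹ᵁ U).ι t) := rfl
  rw [h]
  exact t.2

lemma exists_part_fac {T X : Over S} (U : S.Opens) (x : T ⟶ X) (hT : ∀ t, T.hom t ∈ U) :
    ∃ y : T ⟶ part X U, y ≫ partι X U = x := by
  have hr : Set.range x.left ⊆ Set.range (X.hom ⁻¹ᵁ U).ι := by
    rw [Scheme.Opens.range_ι]
    rintro _ ⟨t, rfl⟩
    change X.hom (x.left t) ∈ U
    have h : X.hom (x.left t) = T.hom t := congr(($(Over.w x)) t)
    rw [h]
    exact hT t
  let l := IsOpenImmersion.lift (X.hom ⁻¹ᵁ U).ι x.left hr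
  have hl : l ≫ (X.hom ⁻¹ᵁ U).ι = x.left := IsOpenImmersion.lift_fac _ _ _
  refine ⟨Over.homMk l ?_, ?_⟩
  · change l ≫ (X.hom ⁻¹ᵁ U).ι ≫ X.hom = _
    rw [← Category.assoc, hl, Over.w]
  · ext1
    exact hl

instance (X : Over S) (U : S.Opens) : Mono (partι X U) := by
  have : Mono (partι X U).left := inferInstanceAs (Mono (X.hom ⁻¹ᵁ U).ι)
  exact Over.mono_of_mono_left _

lemma cover_eq_top (X : Over S) {ι : Type*} (U : ι → S.Opens) (hU : ∀ s, ∃ i, s ∈ U i) :
    TopologicalSpace.IsOpenCover (fun i => X.hom ⁻¹ᵁ U i) := by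
  rw [TopologicalSpace.IsOpenCover, eq_top_iff]
  intro x _
  obtain ⟨i, hi⟩ := hU (X.hom x)
  exact TopologicalSpace.Opens.mem_iSup.2 ⟨i, hi⟩

lemma eq_of_parts {X Y : Over S} (a b : X ⟶ Y)
    (h : ∀ s, ∃ U : S.Opens, s ∈ U ∧ partι X U ≫ a = partι X U ≫ b) : a = b := by
  choose U hU hab using h
  ext1
  refine Scheme.Cover.hom_ext (X.left.openCoverOfIsOpenCover _ (cover_eq_top X U fun s => ⟨s, hU s⟩)) _ _
    fun (s : S) => ?_
  exact congr(($(hab s)).left)

/-- Gluing morphisms given on the parts over the members of an open covering of the base. -/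
theorem exists_glue {X Y : Over S} (U : S → S.Opens) (hU : ∀ s, s ∈ U s) (f : ∀ s, part X (U s) ⟶ Y)
    (hf : ∀ s t, ∀ (T : Over S) (a : T ⟶ part X (U s)) (b : T ⟶ part X (U t)),
      a ≫ partι X _ = b ≫ partι X _ → a ≫ f s = b ≫ f t) :
    ∃ g : X ⟶ Y, ∀ s, partι X (U s) ≫ g = f s := by
  let 𝒰 := X.left.openCoverOfIsOpenCover _ (cover_eq_top X U fun s => ⟨s, hU s⟩)
  have hcompat : ∀ s t : S, pullback.fst (𝒰.f s) (𝒰.f t) ≫ (f s).left =
      pullback.snd (𝒰.f s) (𝒰.f t) ≫ (f t).left := by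
    intro s t
    let T : Over S := Over.mk (pullback.fst (𝒰.f s) (𝒰.f t) ≫ (part X (U s)).hom)
    let a : T ⟶ part X (U s) := Over.homMk (pullback.fst (𝒰.f s) (𝒰.f t)) rfl
    let b : T ⟶ part X (U t) := Over.homMk (pullback.snd (𝒰.f s) (𝒰.f t)) (by
      change pullback.snd (𝒰.f s) (𝒰.f t) ≫ 𝒰.f t ≫ X.hom = pullback.fst (𝒰.f s) (𝒰.f t) ≫ 𝒰.f s ≫ X.hom
      rw [← Category.assoc, ← pullback.condition, Category.assoc])
    have h := hf s t T a b (by
      ext1
      exact pullback.condition)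
    exact congr(($h).left)
  let g := 𝒰.glueMorphisms (fun s => (f s).left) hcompat
  have hg : ∀ s : S, 𝒰.f s ≫ g = (f s).left := fun s => Scheme.Cover.ι_glueMorphisms _ _ _ _
  refine ⟨Over.homMk g ?_, fun s => ?_⟩
  · refine Scheme.Cover.hom_ext 𝒰 _ _ fun (s : S) => ?_
    rw [← Category.assoc, hg]
    exact Over.w (f s)
  · ext1
    exact hg s

end K14.Parts
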