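import Groth.Agent.SGA3x.K14.PowLift
import Groth.Agent.SGA3x.K14.SmoothFinMT
import Groth.Agent.SGA3x.K14.Parts

/-!
# Lifting central homomorphisms from smooth finite groups of multiplicative type
-/

set_option autoImplicit false
universe u
open CategoryTheory MonoidalCategory CartesianMonoidalCategory MonObj GrpObj AlgebraicGeometry CategoryTheory.Limits

namespace K14.FinLift

open K14.PowLift K14.Parts K14.SmoothFinMT Groth.Agent.Sga3B.BcPts

variable {S S₀ : Scheme.{u}}

/-- `n` is invertible at the points of the base below `T`. -/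
def Inv (n : ℕ) (T : Over S) : Prop := ∀ t : T.left, ((n : ℕ) : S.residueField (T.hom t)) ≠ 0

lemma Inv.mul {n m : ℕ} {T : Over S} (h : Inv n T) (h' : Inv m T) : Inv (n * m) T := by
  intro t
  rw [Nat.cast_mul]
  exact mul_ne_zero (h t) (h' t)

variable (i : S₀ ⟶ S) (G : Over S) [GrpObj G] [Flat G.hom] [LocallyOfFinitePresentation G.hom]
  (H : Over S) [GrpObj H] (u₀ : Red.bc i H ⟶ Red.bc i G)
  (hc₀ : ∀ (X : Over S₀) (x : X ⟶ Red.bc i H) (g : X ⟶ Red.bc i G), (x ≫ u₀) * g = g * (x ≫ u₀))

omit [GrpObj H] in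
include hc₀ in
lemma mem_E (n : ℕ) (h₀ : (Red.bc i H).left) (hn : (n : S.residueField (i ((Red.bc i H).hom h₀))) ≠ 0) :
    pullback.fst G.hom i (u₀.left h₀) ∈ E G n := by
  let K := (Red.bc i H).left.residueField h₀
  let c : Spec K ⟶ (Red.bc i H).left := (Red.bc i H).left.fromSpecResidueField h₀
  have hnK : ((n : ℕ) : K) ≠ 0 := by
    intro h0
    let φ : S.residueField (((Red.bc i H).hom ≫ i) h₀) →+* K :=
      (((Red.bc i H).hom ≫ i).residueFieldMap h₀).hom
    have h1 : φ n = n := map_natCast φ n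
    exact hn ((map_eq_zero φ).1 (h1.trans h0))
  let x : Over.mk (c ≫ (Red.bc i H).hom) ⟶ Red.bc i H := Over.homMk c rfl
  have hz₀ : IsCentralPt (x ≫ u₀) := by
    intro X t g
    have := hc₀ X (t ≫ x) g
    rw [Category.assoc] at this
    exact this
  have hz := (isCentralPt_bc_iff i (x ≫ u₀)).1 hz₀
  let p : Spec K := IsLocalRing.closedPoint K
  have h1 := near_of_central G n hnK ((c ≫ (Red.bc i H).hom) ≫ i)
    ((bcEquiv i (Over.mk (c ≫ (Red.bc i H).hom)) G).symm (x ≫ u₀)) hz p
  have h2 : ((bcEquiv i (Over.mk (c ≫ (Red.bc i H).hom)) G).symm (x ≫ u₀)).left =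
      (x ≫ u₀).left ≫ pullback.fst G.hom i := by
    simp [bcEquiv, Adjunction.homEquiv_counit]
  rw [h2] at h1
  have h3 : c p = h₀ := Scheme.fromSpecResidueField_apply _ _
  have h4 : ((x ≫ u₀).left ≫ pullback.fst G.hom i) p = pullback.fst G.hom i (u₀.left (c p)) := rfl
  rw [h4, h3] at h1
  exact h1

variable [IsClosedImmersion i] [Surjective i] 

include hc₀ in
lemma exists_lift_pt [IsMonHom u₀] (n : ℕ) {T : Over S} (hT : Inv n T) (y : T ⟶ H) (hy : y ^ n = 1) :
    ∃ x : T ⟶ G, x ^ n = 1 ∧ (Over.pullback i).map x = (Over.pullback i).map y ≫ u₀ := by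
  have hy₀ : ((Over.pullback i).map y : (Over.pullback i).obj T ⟶ Red.bc i H) ^ n = 1 := by
    have e1 := map_pow (Functor.homMonoidHom (Over.pullback i) (X := T) (M := H)) y n
    rw [hy, map_one] at e1
    exact e1.symm
  obtain ⟨x, hx, hxy, -⟩ := exists_lift i (G := G) n (T := T) ((Over.pullback i).map y ≫ u₀)
    (by rw [← MonObj.pow_comp, hy₀, MonObj.one_comp]) (fun t₀ => by
      refine mem_E i G H u₀ hc₀ n (((Over.pullback i).map y).left t₀) ?_
      have h1 : (((Over.pullback i).map y).left ≫ (Red.bc i H).hom ≫ i) =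
          pullback.fst T.hom i ≫ T.hom := by
        rw [← Category.assoc]
        have := Over.w ((Over.pullback i).map y)
        refine (congrArg (· ≫ i) this).trans ?_
        exact pullback.condition.symm
      have h2 : i ((Red.bc i H).hom (((Over.pullback i).map y).left t₀)) = T.hom (pullback.fst T.hom i t₀) :=
        congr(($h1) t₀)
      rw [h2]
      exact hT _)
  exact ⟨x, hx, hxy⟩

omit [GrpObj H] in
include hc₀ in
lemma eq_of_lift_pt (n : ℕ) {T : Over S} (hT : Inv n T) (y₀ : (Over.pullback i).obj T ⟶ Red.bc i H)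
    (x x' : T ⟶ G) (hx : x ^ n = 1) (hx' : x' ^ n = 1) (h : (Over.pullback i).map x = y₀ ≫ u₀)
    (h' : (Over.pullback i).map x' = y₀ ≫ u₀) : x = x' := by
  refine eq_of_map_eq i n x x' hx hx' (mem_of_map i n x fun t₀ => ?_) (h.trans h'.symm)
  rw [h]
  refine mem_E i G H u₀ hc₀ n (y₀.left t₀) ?_
  have h1 : (y₀.left ≫ (Red.bc i H).hom ≫ i) = pullback.fst T.hom i ≫ T.hom := by
    rw [← Category.assoc]
    refine (congrArg (· ≫ i) (Over.w y₀)).trans ?_
    exact pullback.condition.symm
  have h2 : i ((Red.bc i H).hom (y₀.left t₀)) = T.hom (pullback.fst T.hom i t₀) :=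
    congr(($h1) t₀)
  rw [h2]
  exact hT _

include hc₀ in
/-- **Central homomorphisms from a smooth finite group of multiplicative type lift uniquely through
a surjective closed immersion**, to a flat group scheme locally of finite presentation. -/
theorem main [Smooth H.hom] [IsFinite H.hom] (hH : SGA3x.IsMultTypeFT H) [IsMonHom u₀] :
    ∃ u : H ⟶ G, IsMonHom u ∧ (Over.pullback i).map u = u₀ ∧
      (∀ (X : Over S) (x : X ⟶ H) (g : X ⟶ G), (x ≫ u) * g = g * (x ≫ u)) ∧
      ∀ u' : H ⟶ G, IsMonHom u' → (Over.pullback i).map u' = u₀ → u' = u := by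
  choose U n hU hinv hkill using fun s => exists_kill hH s
  have hInv : ∀ (s : S) (T : Over S), (∀ t : T.left, T.hom t ∈ U s) → Inv (n s) T :=
    fun s T hT t => hinv s _ (hT t)
  have hpart : ∀ (s : S) (X : Over S), Inv (n s) (part X (U s)) := fun s X => hInv s _ (part_mem X (U s))
  have hk : ∀ (s : S) (X : Over S) (x : part X (U s) ⟶ H), x ^ (n s) = 1 :=
    fun s X x => hkill s _ x (part_mem X (U s))
  choose f hf hf₀ using fun s => exists_lift_pt i G H u₀ hc₀ (n s) (hpart s H) (partι H (U s))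
    (hk s H (partι H (U s)))
  obtain ⟨u, hu⟩ := exists_glue (X := H) (Y := G) U hU f (by
    intro s t T a b hab
    have ha : ∀ τ, T.hom τ ∈ U s := by
      intro τ
      have := part_mem H (U s) (a.left τ)
      rwa [show (part H (U s)).hom (a.left τ) = T.hom τ from congr(($(Over.w a)) τ)] at this
    have hb : ∀ τ, T.hom τ ∈ U t := by
      intro τ
      have := part_mem H (U t) (b.left τ)
      rwa [show (part H (U t)).hom (b.left τ) = T.hom τ from congr(($(Over.w b)) τ)] at this
    refine eq_of_lift_pt i G H u₀ hc₀ (n s * n t) ((hInv s T ha).mul (hInv t T hb))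
      ((Over.pullback i).map (a ≫ partι H (U s))) _ _ ?_ ?_ ?_ ?_
    · rw [pow_mul, ← MonObj.comp_pow, hf, MonObj.comp_one, one_pow]
    · rw [mul_comm (n s), pow_mul, ← MonObj.comp_pow, hf, MonObj.comp_one, one_pow]
    · rw [Functor.map_comp, Functor.map_comp, hf₀, Category.assoc]
    · rw [hab, Functor.map_comp, Functor.map_comp, hf₀, Category.assoc])
  have hupow : ∀ (s : S) (X : Over S) (x : part X (U s) ⟶ H), (x ≫ u) ^ (n s) = 1 := by
    intro s X x
    obtain ⟨y, rfl⟩ := exists_part_fac (U s) x (part_mem X (U s))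
    rw [Category.assoc, hu, ← MonObj.comp_pow, hf, MonObj.comp_one]
  have humap : (Over.pullback i).map u = u₀ := by
    refine eq_of_parts (X := (Over.pullback i).obj H) (Y := (Over.pullback i).obj G)
      ((Over.pullback i).map u) u₀ fun s₀ => ?_
    refine ⟨i ⁻¹ᵁ (U (i s₀)), hU (i s₀), ?_⟩
    let T₀ := part ((Over.pullback i).obj H) (i ⁻¹ᵁ (U (i s₀)))
    let y : T₀ ⟶ (Over.pullback i).obj H := partι _ _
    let y' : (Over.map i).obj T₀ ⟶ H := (bcEquiv i T₀ H).symm y
    obtain ⟨w, hw⟩ := exists_part_fac (U (i s₀)) y' (fun t =>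
      (part_mem ((Over.pullback i).obj H) (i ⁻¹ᵁ (U (i s₀))) t :))
    have hy : y = bcEquiv i T₀ (part H (U (i s₀))) w ≫ (Over.pullback i).map (partι H (U (i s₀))) := by
      rw [← bcEquiv_comp, hw]
      exact (Equiv.apply_symm_apply _ _).symm
    change y ≫ _ = y ≫ _
    rw [hy, Category.assoc, Category.assoc, ← Functor.map_comp, hu, hf₀]
  have hmap : ∀ (X : Over S) (x : X ⟶ H), (Over.pullback i).map (x ≫ u) = (Over.pullback i).map x ≫ u₀ := by
    intro X x
    rw [Functor.map_comp, humap]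
  have hcent : ∀ (X : Over S) (x : X ⟶ H) (g : X ⟶ G), (x ≫ u) * g = g * (x ≫ u) := by
    intro X x g
    rw [← eq_mul_inv_iff_mul_eq]
    refine eq_of_parts _ _ fun s => ⟨U s, hU s, ?_⟩
    rw [MonObj.comp_mul, MonObj.comp_mul, GrpObj.comp_inv, ← Category.assoc]
    set x' := partι X (U s) ≫ x
    set g' := partι X (U s) ≫ g
    refine eq_of_lift_pt i G H u₀ hc₀ (n s) (hpart s X) ((Over.pullback i).map x') _ _ (hupow s X x') ?_
      (hmap _ x') ?_
    · rw [conj_pow, hupow s X x', _root_.mul_one, mul_inv_cancel]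
    · have e1 := hc₀ _ ((Over.pullback i).map x') ((Over.pullback i).map g')
      have e2 : (Over.pullback i).map g' * (Over.pullback i).map g'⁻¹ = 1 := by
        rw [← Functor.map_mul, mul_inv_cancel, Functor.map_one]
      rw [Functor.map_mul, Functor.map_mul, hmap]
      refine (congrArg (· * (Over.pullback i).map g'⁻¹) e1.symm).trans ?_
      rw [_root_.mul_assoc]
      refine (congrArg (((Over.pullback i).map x' ≫ u₀) * ·) e2).trans ?_
      exact _root_.mul_one _
  refine ⟨u, ?_, humap, hcent, fun u' hu' hu'₀ => ?_⟩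
  · refine Groth.Agent.Sga3B.Pts.isMonHom_of_points u fun X x y => ?_
    refine eq_of_parts _ _ fun s => ⟨U s, hU s, ?_⟩
    rw [MonObj.comp_mul, ← Category.assoc, MonObj.comp_mul, ← Category.assoc, ← Category.assoc]
    set x' := partι X (U s) ≫ x
    set y' := partι X (U s) ≫ y
    refine eq_of_lift_pt i G H u₀ hc₀ (n s) (hpart s X) ((Over.pullback i).map (x' * y')) _ _
      (hupow s X _) ?_ (hmap _ _) ?_
    · have hcomm : Commute (x' ≫ u) (y' ≫ u) := hcent _ x' (y' ≫ u)
      rw [hcomm.mul_pow, hupow s X x', hupow s X y', _root_.one_mul]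
    · rw [Functor.map_mul, hmap, hmap, Functor.map_mul]
      exact (MonObj.mul_comp _ _ u₀).symm
  · refine eq_of_parts _ _ fun s => ⟨U s, hU s, ?_⟩
    refine eq_of_lift_pt i G H u₀ hc₀ (n s) (hpart s H) ((Over.pullback i).map (partι H (U s))) _ _
      ?_ (hupow s H _) ?_ (hmap _ _)
    · rw [← MonObj.pow_comp, hk s H, MonObj.one_comp]
    · rw [Functor.map_comp, hu'₀]

/-- The closed immersion defined by a nil ideal is surjective. -/
lemma surjective_of_nil (A : Type u) [CommRing A] (J : Ideal A) (hJ : ∀ x ∈ J, IsNilpotent x) :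
    Surjective (Spec.map (CommRingCat.ofHom (Ideal.Quotient.mk J))) := by
  constructor
  rw [← Set.range_eq_univ]
  have h := _root_.range_comap_of_surjective _ (Ideal.Quotient.mk J) Ideal.Quotient.mk_surjective
  rw [Ideal.mk_ker] at h
  refine h.trans (Set.eq_univ_of_forall fun p => ?_)
  rw [PrimeSpectrum.mem_zeroLocus]
  intro x hx
  obtain ⟨n, hn⟩ := hJ x hx
  exact p.2.mem_of_pow_mem n (hn ▸ p.asIdeal.zero_mem)

instance (A : Type u) [CommRing A] (J : Ideal A) :
    IsClosedImmersion (Spec.map (CommRingCat.ofHom (Ideal.Quotient.mk J))) :=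
  IsClosedImmersion.spec_of_surjective _ Ideal.Quotient.mk_surjective

end K14.FinLift
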