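import Groth.Agent.SGA3x.K14.CentGL
import Groth.Agent.Agf.H591.Cartan
import Groth.Agent.Sga3.H829.MultConv
import Groth.Agent.Sga3.H798.CentSep
import Groth.Agent.Sga3.H831.CartTors
import Groth.Agent.SGA3x.K5.MTNorm
import Groth.Agent.SGA3x.K10.MTLoc
import Groth.Agent.Sga3A.FibMain
import Groth.Agent.SGA3x.K18.MTDesc
import Groth.Agent.Sga3B.Pts

/-!
# Central homomorphisms from groups of multiplicative type land in the maximal tori

`K` algebraically closed, `G` an affine smooth connected `K`-group.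

* `exists_dual`: groups of multiplicative type and finite type over `K` are diagonalisable.
* `exists_retraction`: `i : T ⟶ C` a central maximal torus, then there is a retraction `r : C ⟶ T`, and a
  central homomorphism `v : H ⟶ C` with `H` of multiplicative type and `v ≫ r = 1` is trivial.
* `main`: a central homomorphism from a group of multiplicative type to `G` factors through every
  maximal torus.
-/

set_option autoImplicit false
universe u
open CategoryTheory MonoidalCategory CartesianMonoidalCategory MonObj GrpObj AlgebraicGeometry Limits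
open TensorProduct WithConv

namespace K14.CentMaxTorus

open Groth.Agent Groth.Agent.Sga3B Groth.Agent.Books.AffBridge Groth.Agent.Books.AffBridge2
open Groth.Agent.Sga3B.RG Groth.Agent.Sga3B.RG.BrPts Groth.Agent.Sga3B.RG.BrDiag
open Groth.Agent.Sga3B.RG.K8

variable {K : Type u} [Field K]

/-- The isomorphism of spectra given by an isomorphism of bialgebras. -/
noncomputable def specIso {B B' : Type u} [CommRing B] [HopfAlgebra K B] [CommRing B'] [HopfAlgebra K B']
    (θ : B' ≃ₐc[K] B) : SpecOver K B ≅ SpecOver K B' where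
  hom := specMap K ((θ : B' →ₐc[K] B) : B' →ₐ[K] B)
  inv := specMap K ((θ.symm : B →ₐc[K] B') : B →ₐ[K] B')
  hom_inv_id := by
    rw [← specMap_comp, ← specMap_id]
    congr 1
    exact AlgHom.ext fun x => θ.apply_symm_apply x
  inv_hom_id := by
    rw [← specMap_comp, ← specMap_id]
    congr 1
    exact AlgHom.ext fun x => θ.symm_apply_apply x

instance {B B' : Type u} [CommRing B] [HopfAlgebra K B] [CommRing B'] [HopfAlgebra K B']
    (θ : B' ≃ₐc[K] B) : IsMonHom (specIso θ).hom := isMonHom_specMap K (θ : B' →ₐc[K] B)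

/-- A hom to an affine group given by a bialgebra map. -/
theorem exists_bialg {X Y : Over (Spec (CommRingCat.of K))} [GrpObj X] [GrpObj Y] {A B : Type u}
    [CommRing A] [HopfAlgebra K A] [CommRing B] [HopfAlgebra K B] (eX : X ≅ SpecOver K B)
    (eY : Y ≅ SpecOver K A) [IsMonHom eX.hom] [IsMonHom eY.hom] (f : X ⟶ Y) [IsMonHom f] :
    ∃ φ : A →ₐc[K] B, f ≫ eY.hom = eX.hom ≫ specMap K (φ : A →ₐ[K] B) := by
  have h1 : IsMonHom (eX.inv ≫ f ≫ eY.hom) := inferInstance
  obtain ⟨φ, hφ⟩ := exists_bialgHom_of_isMonHom K (eX.inv ≫ f ≫ eY.hom)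
  exact ⟨φ, by rw [hφ, Iso.hom_inv_id_assoc]⟩

variable [IsAlgClosed K]

/-- Over an algebraically closed field groups of multiplicative type are diagonalisable. -/
theorem exists_dual {H : Over (Spec (CommRingCat.of K))} [GrpObj H] (hH : SGA3x.IsMultTypeFT H) :
    ∃ (M : Type) (_ : AddCommGroup M) (e : H ≅ SpecOver K (MonoidAlgebra K (Multiplicative M))),
      AddGroup.FG M ∧ IsMonHom e.hom := by
  have h1 := K10.MTLoc.isAffineHom hH
  have h2 : IsAffine H.left := isAffine_of_isAffineHom H.hom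
  obtain ⟨B, _, _, e, he⟩ := exists_hopf K H
  have hB : SGA3x.IsMultTypeFT (SpecOver K B) := K10.MTLoc.of_iso (Grp.mkIso' e) hH
  have h3 : LocallyOfFinitePresentation (SpecOver K B).hom :=
    K10.MTLoc.locallyOfFinitePresentation hB
  have hft : Algebra.FiniteType K B := (locallyOfFiniteType_specOver_iff K B).1 inferInstance
  obtain ⟨M, _, ⟨f⟩⟩ := Sga3A.FibMain.isDiag_of_isSepClosed K B hft
    (Sga3A.FibMain.isMultType_of_const (Sga3.H829.MultConv.isMultTypeConst_of_isMultTypeFT hB))
  have hM : Group.FG M := by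
    have : Algebra.FiniteType K (MonoidAlgebra K M) :=
      Algebra.FiniteType.equiv hft (f : B ≃ₐ[K] MonoidAlgebra K M)
    have := MonoidAlgebra.fg_of_finiteType (R := K) (M := M)
    exact Group.fg_iff_monoid_fg.mpr this
  obtain ⟨M₀, _, hM₀, ⟨m⟩⟩ := Sga3.H829.MultConv.exists_type_equiv M
  let g : MonoidAlgebra K (Multiplicative M₀) ≃ₐc[K] B :=
    ((Sga3A.MTBasis.GBasis.ofBialgEquiv f).reindex m).bialgEquiv
  exact ⟨M₀, inferInstance, e ≪≫ specIso g, hM₀, inferInstanceAs (IsMonHom (e.hom ≫ (specIso g).hom))⟩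

section central

variable {A : Type u} [CommRing A] [HopfAlgebra K A] {M : Type} [AddCommGroup M]

omit [IsAlgClosed K] in
/-- Centrality in terms of Hopf algebras. -/
theorem isCent_of_comm (φ : A →ₐc[K] MonoidAlgebra K (Multiplicative M))
    (h : ∀ (X : Over (Spec (CommRingCat.of K))) (x : X ⟶ SpecOver K (MonoidAlgebra K (Multiplicative M)))
      (g : X ⟶ SpecOver K A), (x ≫ specMap K (φ : A →ₐ[K] _)) * g = g * (x ≫ specMap K (φ : A →ₐ[K] _))) :
    CentGL.IsCent φ := by
  intro g m
  let B := MonoidAlgebra K (Multiplicative M)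
  let g' : WithConv (A →ₐ[K] B) := toConv ((Algebra.ofId K B).comp g.ofConv)
  let φ' : WithConv (A →ₐ[K] B) := toConv (φ : A →ₐ[K] B)
  have h1 : φ' * g' = g' * φ' := by
    apply (rptEquiv K A B).injective
    rw [map_mul, map_mul]
    have := h (SpecOver K B) (𝟙 _) (rptEquiv K A B g')
    rw [Category.id_comp] at this
    exact this
  refine LinearMap.ext fun a => ?_
  have h2 := congrArg (fun z : WithConv (A →ₐ[K] B) => (z.ofConv a).coeff m) h1
  have h3 : ∀ z : A ⊗[K] A, (LinearMap.mul' K B (TensorProduct.map φ'.ofConv.toLinearMap g'.ofConv.toLinearMap z)).coeff m =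
      LinearMap.mul' K K (TensorProduct.map (CentGL.cf φ m) g.ofConv.toLinearMap z) := by
    intro z
    induction z with
    | zero => simp
    | add x y hx hy => simp only [map_add]; rw [← hx, ← hy]; rfl
    | tmul x y =>
      rw [TensorProduct.map_tmul, LinearMap.mul'_apply, TensorProduct.map_tmul, LinearMap.mul'_apply]
      change (φ x * algebraMap K B (g.ofConv y)).coeff m = (φ x).coeff m * g.ofConv y
      rw [mul_comm, ← Algebra.smul_def, mul_comm]
      rfl
  have h4 : ∀ z : A ⊗[K] A, (LinearMap.mul' K B (TensorProduct.map g'.ofConv.toLinearMap φ'.ofConv.toLinearMap z)).coeff m =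
      LinearMap.mul' K K (TensorProduct.map g.ofConv.toLinearMap (CentGL.cf φ m) z) := by
    intro z
    induction z with
    | zero => simp
    | add x y hx hy => simp only [map_add]; rw [← hx, ← hy]; rfl
    | tmul x y =>
      rw [TensorProduct.map_tmul, LinearMap.mul'_apply, TensorProduct.map_tmul, LinearMap.mul'_apply]
      change (algebraMap K B (g.ofConv x) * φ y).coeff m = g.ofConv x * (φ y).coeff m
      rw [← Algebra.smul_def]
      rfl
  exact (h3 _).symm.trans (h2.trans (h4 _))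

end central

section

variable {A : Type u} [CommRing A] [HopfAlgebra K A] [Algebra.FiniteType K A] [IsDomain A] {n : ℕ}
  (π : A →ₐc[K] MonoidAlgebra K (Multiplicative (Fin n → ℤ)))

/-- The Hopf form. -/
theorem eq_one_of_retraction (hmax : IsMaxTorusSub (Pt.map π).range)
    (hcen : (Pt.map π).range ≤ Subgroup.center (Pt K A))
    (ρ : MonoidAlgebra K (Multiplicative (Fin n → ℤ)) →ₐc[K] A)
    (hρ2 : ∀ b : A, IsGroupLikeElem K b → ρ (π b) = b) {M : Type} [AddCommGroup M]
    (φ : A →ₐc[K] MonoidAlgebra K (Multiplicative M)) (hcent : CentGL.IsCent φ)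
    (h1 : specMap K (φ : A →ₐ[K] MonoidAlgebra K (Multiplicative M)) ≫
      specMap K (ρ : MonoidAlgebra K (Multiplicative (Fin n → ℤ)) →ₐ[K] A) = 1) :
    specMap K (φ : A →ₐ[K] MonoidAlgebra K (Multiplicative M)) = 1 := by
  have hone : ∀ (V : Type u) [AddCommGroup V] [Module K V] [FiniteDimensional K V]
    (ρ : Representation K (Pt K A) V), IsAlg ρ → IsSimpleRep ρ → Module.finrank K V = 1 :=
    fun V _ _ _ ρ hρ hs => CentralTorus.finrank_eq_one hmax hcen hρ hs
  have htr : ∀ x, φ (ρ x) = algebraMap K _ (Coalgebra.counit (R := K) x) := by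
    rw [← specMap_comp, ← specMap_one K] at h1
    have h2 := specMap_injective K h1
    intro x
    exact DFunLike.congr_fun h2 x
  have hch : ∀ b : A, IsGroupLikeElem K b → φ b = 1 := by
    intro b hb
    rw [← hρ2 b hb, htr]
    have h1 : Coalgebra.counit (R := K) (π b) = 1 := (hb.map π).counit_eq_one
    rw [h1, map_one]
  have h5 := CentGL.eq_counit_of_char φ hcent hone hch
  rw [← specMap_one K]
  congr 1
  exact AlgHom.ext h5

end

/-- **Retraction onto a central maximal torus**, and its kernel contains no central subgroups of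
multiplicative type. -/
theorem exists_retraction {C T : Over (Spec (CommRingCat.of K))} [GrpObj C] [GrpObj T] [IsAffine C.left]
    [Smooth C.hom] [ConnectedSpace C.left] (i : T ⟶ C) (hT : Red.IsMaximalTorus i)
    (hc : ∀ (X : Over (Spec (CommRingCat.of K))) (t : X ⟶ T) (g : X ⟶ C), (t ≫ i) * g = g * (t ≫ i)) :
    ∃ r : C ⟶ T, IsMonHom r ∧ i ≫ r = 𝟙 T ∧
      ∀ (H : Over (Spec (CommRingCat.of K))) [GrpObj H] (v : H ⟶ C) [IsMonHom v], SGA3x.IsMultTypeFT H →
        (∀ (X : Over (Spec (CommRingCat.of K))) (x : X ⟶ H) (g : X ⟶ C), (x ≫ v) * g = g * (x ≫ v)) →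
        v ≫ r = 1 → v = 1 := by
  have him := hT.1
  have himono := hT.2.1
  have hTt := hT.2.2.1
  obtain ⟨A, _, _, e, he, hft, hdom⟩ := Agf.H611.NilPts.exists_hopf_domain C
  obtain ⟨n, hn⟩ := TorusAlgClosed.exists_isSplitTorusWith hTt
  obtain ⟨eT, heT⟩ := isSplitTorusWith_iff.1 hn
  obtain ⟨π, hπ⟩ := exists_bialg eT e i
  have hCaff : IsAffineHom C.hom := inferInstance
  have hicl : IsClosedImmersion i.left :=
    SGA3x.K5.MTNorm.isClosedImmersion_of_mono i (_root_.K18.MTDesc.isMultTypeFT_of_isTorus hTt)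
  have hπs : Function.Surjective π := by
    have h1 : IsClosedImmersion (specMap K (π : A →ₐ[K] MonoidAlgebra K (Multiplicative (Fin n → ℤ)))).left := by
      have h2 : specMap K (π : A →ₐ[K] MonoidAlgebra K (Multiplicative (Fin n → ℤ))) = eT.inv ≫ i ≫ e.hom := by
        rw [hπ, Iso.inv_hom_id_assoc]
      rw [h2, Over.comp_left, Over.comp_left]
      infer_instance
    exact (isClosedImmersion_specMap_iff K (π : A →ₐ[K] MonoidAlgebra K (Multiplicative (Fin n → ℤ)))).1 h1
  have hmax : IsMaxTorusSub (Pt.map π).range := by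
    have h1 := BrMax.isMaxTorusSub_of_isMaximalTorus i e hT
    rwa [ptsSub_eq_range (i ≫ e.hom) π eT hπ.symm] at h1
  have hcen : (Pt.map π).range ≤ Subgroup.center (Pt K A) := by
    rintro _ ⟨t, rfl⟩
    rw [Subgroup.mem_center_iff]
    intro g
    apply (ptEquiv K A).injective
    rw [map_mul, map_mul, ptEquiv_map]
    have h1 : ptEquiv K _ t ≫ specMap K (π : A →ₐ[K] MonoidAlgebra K (Multiplicative (Fin n → ℤ))) =
        ((ptEquiv K _ t ≫ eT.inv) ≫ i) ≫ e.hom := by
      rw [Category.assoc, Category.assoc, hπ, Iso.inv_hom_id_assoc]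
    have h2 : ptEquiv K A g = (ptEquiv K A g ≫ e.inv) ≫ e.hom := by simp
    rw [h1, h2, ← MonObj.mul_comp, ← MonObj.mul_comp, hc]
  obtain ⟨ρ, hρ1, hρ2⟩ := CentGL.exists_retraction π hπs hmax hcen
  let sρ : SpecOver K A ⟶ SpecOver K (MonoidAlgebra K (Multiplicative (Fin n → ℤ))) :=
    specMap K (ρ : MonoidAlgebra K (Multiplicative (Fin n → ℤ)) →ₐ[K] A)
  have hρm : IsMonHom sρ := isMonHom_specMap K ρ
  have hrm : IsMonHom (e.hom ≫ sρ ≫ eT.inv) := inferInstance
  refine ⟨e.hom ≫ sρ ≫ eT.inv, hrm, ?_, ?_⟩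
  · have h1 : specMap K (π : A →ₐ[K] MonoidAlgebra K (Multiplicative (Fin n → ℤ))) ≫ sρ = 𝟙 _ := by
      change specMap K (π : A →ₐ[K] MonoidAlgebra K (Multiplicative (Fin n → ℤ))) ≫
        specMap K (ρ : MonoidAlgebra K (Multiplicative (Fin n → ℤ)) →ₐ[K] A) = 𝟙 _
      rw [← specMap_comp, ← specMap_id]
      congr 1
      exact AlgHom.ext hρ1
    rw [reassoc_of% hπ, reassoc_of% h1, Iso.hom_inv_id]
  · intro H _ v _ hH hv hvr
    obtain ⟨M, _, eH, hM, heH⟩ := exists_dual hH
    obtain ⟨φ, hφ⟩ := exists_bialg eH e v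
    let sφ : SpecOver K (MonoidAlgebra K (Multiplicative M)) ⟶ SpecOver K A :=
      specMap K (φ : A →ₐ[K] MonoidAlgebra K (Multiplicative M))
    have hφ' : v ≫ e.hom = eH.hom ≫ sφ := hφ
    have hcent : CentGL.IsCent φ := isCent_of_comm φ fun X x g => by
      have h1 : x ≫ sφ = ((x ≫ eH.inv) ≫ v) ≫ e.hom := by
        rw [Category.assoc, Category.assoc, hφ', Iso.inv_hom_id_assoc]
      have h2 : g = (g ≫ e.inv) ≫ e.hom := by simp
      change (x ≫ sφ) * g = g * (x ≫ sφ)
      rw [h1, h2, ← MonObj.mul_comp, ← MonObj.mul_comp, hv]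
    have h1 : sφ ≫ sρ = 1 := by
      have h2 : eH.hom ≫ sφ ≫ sρ = 1 := by
        have h4 : v ≫ e.hom ≫ sρ = 1 := by
          have h5 := congrArg (fun z => z ≫ eT.hom) hvr
          simp only [Category.assoc, Iso.inv_hom_id, Category.comp_id] at h5
          rw [h5, MonObj.one_comp]
        rw [← Category.assoc, ← hφ', Category.assoc, h4]
      have h3 := congrArg (fun z => eH.inv ≫ z) h2
      simp only [Iso.inv_hom_id_assoc] at h3
      rw [h3, MonObj.comp_one]
    have h6 : sφ = 1 := eq_one_of_retraction π hmax hcen ρ hρ2 φ hcent h1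
    rw [h6, MonObj.comp_one] at hφ'
    rw [← cancel_mono e.hom, hφ', MonObj.one_comp]

/-- **A central homomorphism from a group of multiplicative type factors through every maximal
torus.** -/
theorem main {G T : Over (Spec (CommRingCat.of K))} [GrpObj G] [GrpObj T] [IsAffine G.left] [Smooth G.hom]
    [ConnectedSpace G.left] (i : T ⟶ G) (hT : Red.IsMaximalTorus i) {H : Over (Spec (CommRingCat.of K))} [GrpObj H]
    (hH : SGA3x.IsMultTypeFT H) (u : H ⟶ G) [IsMonHom u]
    (hu : ∀ (X : Over (Spec (CommRingCat.of K))) (x : X ⟶ H) (g : X ⟶ G), (x ≫ u) * g = g * (x ≫ u)) :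
    ∃ w : H ⟶ T, w ≫ i = u := by
  have him := hT.1
  have himono := hT.2.1
  have hTt := hT.2.2.1
  obtain ⟨C, _, c, hc, hcl, hCs, -⟩ := Sga3.H798.CentSep.exists_smooth_centralizer i hTt
  have hcm : IsMonHom c := hc.1
  have hcmono : Mono c := hc.2.1
  have hconn : ConnectedSpace C.left := Agf.H591.Cartan.connectedSpace_centralizer i hTt hc
  have haff : IsAffine C.left := isAffine_of_isAffineHom c.left
  obtain ⟨j, hj⟩ := (hc.2.2 T i).2 (by
    intro X x t
    rw [← MonObj.mul_comp, ← MonObj.mul_comp, SplitBc264.torus_comm hTt])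
  have hjm : IsMonHom j := by
    have : IsMonHom (j ≫ c) := by rw [hj]; exact him
    exact Sga3C.SubGrp.isMonHom_of_comp_mono j c
  have hjmax : Red.IsMaximalTorus j :=
    Sga3.H831.CartTors.isMaximalTorus_of_comp c j (by rw [hj]; exact hT)
  have hjc : ∀ (X : Over (Spec (CommRingCat.of K))) (t : X ⟶ T) (g : X ⟶ C), (t ≫ j) * g = g * (t ≫ j) := by
    intro X t g
    rw [← cancel_mono c, MonObj.mul_comp, MonObj.mul_comp, Category.assoc, hj]
    have := (hc.2.2 _ (g ≫ c)).1 ⟨g, rfl⟩ _ (𝟙 _) t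
    rw [Category.id_comp] at this
    exact this.symm
  obtain ⟨r, hrm, hjr, hr⟩ := exists_retraction j hjmax hjc
  -- the homomorphism to the centralizer
  obtain ⟨v, hv⟩ := (hc.2.2 H u).2 (fun X x t => hu X x _)
  have hvm : IsMonHom v := by
    have : IsMonHom (v ≫ c) := by rw [hv]; infer_instance
    exact Sga3C.SubGrp.isMonHom_of_comp_mono v c
  have hvc : ∀ (X : Over (Spec (CommRingCat.of K))) (x : X ⟶ H) (g : X ⟶ C), (x ≫ v) * g = g * (x ≫ v) := by
    intro X x g
    rw [← cancel_mono c, MonObj.mul_comp, MonObj.mul_comp, Category.assoc, hv, hu]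
  -- the difference with its projection to the torus
  let v' : H ⟶ C := v * (v ≫ r ≫ j)⁻¹
  have hv' : ∀ (X : Over (Spec (CommRingCat.of K))) (x : X ⟶ H), x ≫ v' = (x ≫ v) * (((x ≫ v) ≫ r) ≫ j)⁻¹ := by
    intro X x
    simp only [v', MonObj.comp_mul, GrpObj.comp_inv, Category.assoc]
  have hv'c : ∀ (X : Over (Spec (CommRingCat.of K))) (x : X ⟶ H) (g : X ⟶ C), (x ≫ v') * g = g * (x ≫ v') := by
    intro X x g
    rw [hv']
    have h1 : Commute (x ≫ v) g := hvc X x g
    have h2 : Commute (((x ≫ v) ≫ r) ≫ j) g := hjc X _ g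
    exact (h1.mul_left h2.inv_left)
  have hv'm : IsMonHom v' := by
    refine Pts.isMonHom_of_points v' fun X x y => ?_
    rw [hv', hv', hv', MonObj.mul_comp, MonObj.mul_comp, MonObj.mul_comp, _root_.mul_inv_rev]
    have h1 : Commute (((x ≫ v) ≫ r) ≫ j) ((y ≫ v) * (((y ≫ v) ≫ r) ≫ j)⁻¹) := hjc X _ _
    have h2 := h1.inv_left
    rw [_root_.mul_assoc, ← _root_.mul_assoc (y ≫ v), ← h2.eq, _root_.mul_assoc]
  have h1 : v' ≫ r = 1 := by
    have h2 := hv' H (𝟙 H)
    rw [Category.id_comp, Category.id_comp] at h2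
    rw [h2, MonObj.mul_comp, GrpObj.inv_comp, Category.assoc _ j r, hjr, Category.comp_id, mul_inv_cancel]
  have h2 := hr H v' hH hv'c h1
  refine ⟨v ≫ r, ?_⟩
  have h3 : v = v ≫ r ≫ j := mul_inv_eq_one.mp h2
  rw [← hj, ← Category.assoc, Category.assoc v r j, ← h3, hv]

end K14.CentMaxTorus
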