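import Groth.Agent.SGA3x.K6.HomLoc
import Groth.Agent.RedSub.K197.Isog
import Groth.Agent.SGA3x.K7.Clopen
import Groth.Agent.SGA3x.K21.Image
import Groth.Agent.SGA3x.K16.PreimMain
import Groth.Agent.SGA3x.K14.CentMaxTorus

/-!
# Products of groups of multiplicative type; central homomorphisms factor through maximal tori

* `isMultTypeFT_tensor`: products of groups of multiplicative type and of finite type.
* `isIso_of_geomFibres`: a homomorphism of groups of multiplicative type which is an isomorphism on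
  geometric fibres is an isomorphism.
* `main`: `G` smooth affine over any base with connected fibres, `T` a maximal torus: every central homomorphism
  from a group of multiplicative type to `G` factors through `T`.
-/

set_option autoImplicit false
universe u
open CategoryTheory MonoidalCategory CartesianMonoidalCategory MonObj GrpObj AlgebraicGeometry Limits

namespace K14.MTProd

open Groth.Agent Groth.Agent.Sga3B

variable {S : Scheme.{u}}

/-- **Products of groups of multiplicative type.** -/
theorem isMultTypeFT_tensor {H T : Over S} [GrpObj H] [GrpObj T] (hH : SGA3x.IsMultTypeFT H)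
    (hT : SGA3x.IsMultTypeFT T) : SGA3x.IsMultTypeFT (H ⊗ T) := by
  refine K10.MTLoc.of_etale_split fun s => ?_
  obtain ⟨B, _, _, v, M, N, _, _, hv, hs, hM, hN, ⟨e⟩, ⟨f⟩⟩ := K6.HomLoc.exists_split_two hH hT s
  have hMN : AddGroup.FG (M × N) := inferInstance
  refine ⟨_, v, M × N, inferInstance, hv, hs, hMN, ⟨?_⟩⟩
  let q : Red.bc v (H ⊗ T) ⟶ Red.bc v H ⊗ Red.bc v T :=
    prodComparison (Over.pullback v) H T
  have hq : IsIso q := inferInstance
  have hqm : IsMonHom q :=
    inferInstanceAs (IsMonHom (lift ((Over.pullback v).map (fst H T)) ((Over.pullback v).map (snd H T))))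
  let e' : Red.bc v H ≅ Red.DS (Spec (CommRingCat.of B)) M := (Grp.forget _).mapIso e
  let f' : Red.bc v T ≅ Red.DS (Spec (CommRingCat.of B)) N := (Grp.forget _).mapIso f
  have he' : IsMonHom e'.hom := e.hom.hom.isMonHom_hom
  have hf' : IsMonHom f'.hom := f.hom.hom.isMonHom_hom
  let w : Red.bc v H ⊗ Red.bc v T ≅ Red.DS (Spec (CommRingCat.of B)) M ⊗ Red.DS (Spec (CommRingCat.of B)) N :=
    tensorIso e' f'
  have hw : IsMonHom w.hom := inferInstanceAs (IsMonHom (e'.hom ⊗ₘ f'.hom))
  let p := K197.Isog.dsProd (Spec (CommRingCat.of B)) M N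
  have hp : IsMonHom p.hom := by
    have h1 : IsMonHom (Red.DSmap (Spec (CommRingCat.of B)) (AddMonoidHom.inl M N)) := BorSpan613.isMonHom_DSmap _ _
    have h2 : IsMonHom (Red.DSmap (Spec (CommRingCat.of B)) (AddMonoidHom.inr M N)) := BorSpan613.isMonHom_DSmap _ _
    exact inferInstanceAs (IsMonHom (lift (Red.DSmap (Spec (CommRingCat.of B)) (AddMonoidHom.inl M N))
      (Red.DSmap (Spec (CommRingCat.of B)) (AddMonoidHom.inr M N))))
  have hp' : IsMonHom p.inv := inferInstance
  let r : Red.bc v (H ⊗ T) ≅ Red.DS (Spec (CommRingCat.of B)) (M × N) := asIso q ≪≫ w ≪≫ p.symm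
  have hr : IsMonHom r.hom := inferInstanceAs (IsMonHom (q ≫ w.hom ≫ p.inv))
  exact Grp.mkIso' r

/-- A homomorphism of groups of multiplicative type which is an isomorphism on geometric fibres is an
isomorphism. -/
theorem isIso_of_geomFibres {H T : Over S} [GrpObj H] [GrpObj T] (hH : SGA3x.IsMultTypeFT H)
    (hT : SGA3x.IsMultTypeFT T) (f : H ⟶ T) [IsMonHom f]
    (h : ∀ s : S, IsIso ((Over.pullback (Red.geomPt s)).map f)) : IsIso f := by
  obtain ⟨U, -, h2, h3⟩ := K7.Clopen.exists_clopen_locus hH hT f (MorphismProperty.isomorphisms Scheme.{u})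
    (fun φ => Function.Bijective φ) (fun φ T hφ => K7.DSProp.isIso_DSmap_left T φ hφ)
    (fun φ K _ h => K7.DSProp.bijective_of_isIso φ h)
  have hU : U = ⊤ := by
    ext s
    refine ⟨fun _ => trivial, fun _ => (h2 s).2 ?_⟩
    obtain ⟨i1, i2, i3⟩ := K7.Clopen.residueField_flat_surj
      (algebraMap (S.residueField s) (AlgebraicClosure (S.residueField s)))
    have h4 : K7.Loc.Has (MorphismProperty.isomorphisms Scheme.{u}) f (Red.geomPt s) := by
      have := h s
      exact inferInstanceAs (IsIso ((Over.forget _).map ((Over.pullback (Red.geomPt s)).map f)))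
    exact K7.Loc.has_of_fpqc _ h4
  subst hU
  have h5 := K7.Loc.isPullback_map (⊤ : S.Opens).ι f
  have h6 : IsIso ((Over.pullback (⊤ : S.Opens).ι).map f).left := h3
  have hi : IsIso (⊤ : S.Opens).ι := inferInstanceAs (IsIso S.topIso.hom)
  have h7 : IsIso (pullback.fst T.hom (⊤ : S.Opens).ι) := pullback_fst_iso_of_right_iso _ _
  have h8 : IsIso (pullback.fst H.hom (⊤ : S.Opens).ι) := pullback_fst_iso_of_right_iso _ _
  have h9 : IsIso f.left := by
    have h10 := h5.w
    have : f.left = inv (pullback.fst H.hom (⊤ : S.Opens).ι) ≫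
        ((Over.pullback (⊤ : S.Opens).ι).map f).left ≫ pullback.fst T.hom (⊤ : S.Opens).ι := by
      rw [IsIso.eq_inv_comp]
      exact h10
    rw [this]
    infer_instance
  have h11 : IsIso ((Over.forget S).map f) := h9
  exact isIso_of_reflects_iso f (Over.forget S)

/-- A monomorphism which becomes surjective as a sheaf is an isomorphism: `f' = m ≫ k` with `f'` an fpqc covering. -/
theorem isIso_of_cover {X T Q : Over S} (k : T ⟶ Q) [Mono k] (f' : X ⟶ Q) [Flat f'.left] [Surjective f'.left]
    [QuasiCompact f'.left] (m : X ⟶ T) (h : m ≫ k = f') : IsIso k := by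
  have hk : Mono k.left := inferInstance
  let s : X.left ⟶ pullback f'.left k.left := pullback.lift (𝟙 _) m.left (by
    rw [Category.id_comp, ← Over.comp_left, h])
  have hs : s ≫ pullback.fst f'.left k.left = 𝟙 _ := pullback.lift_fst _ _ _
  have h1 : IsSplitEpi (pullback.fst f'.left k.left) := IsSplitEpi.mk' ⟨s, hs⟩
  have h2 : IsIso (pullback.fst f'.left k.left) := isIso_of_mono_of_isSplitEpi _
  have h3 : MorphismProperty.isomorphisms Scheme.{u} k.left :=
    MorphismProperty.of_pullback_fst_of_descendsAlong (P := MorphismProperty.isomorphisms Scheme.{u})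
      (Q := @Surjective ⊓ @Flat ⊓ @QuasiCompact) (f := f'.left) (g := k.left)
      ⟨⟨inferInstance, inferInstance⟩, inferInstance⟩ h2
  have h4 : IsIso ((Over.forget S).map k) := h3
  exact isIso_of_reflects_iso k (Over.forget S)

/-- Central homomorphisms remain central after base change. -/
theorem central_bc {S' : Scheme.{u}} (f : S' ⟶ S) {H G : Over S} [GrpObj G] (u : H ⟶ G)
    (hu : ∀ (X : Over S) (x : X ⟶ H) (g : X ⟶ G), (x ≫ u) * g = g * (x ≫ u)) (X : Over S')
    (x : X ⟶ Red.bc f H) (g : X ⟶ Red.bc f G) :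
    (x ≫ (Over.pullback f).map u) * g = g * (x ≫ (Over.pullback f).map u) := by
  apply (BcPts.bcMulEquiv f X G).symm.injective
  rw [map_mul, map_mul]
  have h1 : (BcPts.bcMulEquiv f X G).symm (x ≫ (Over.pullback f).map u) = (BcPts.bcEquiv f X H).symm x ≫ u :=
    BcPts.bcEquiv_symm_comp f x u
  rw [h1, hu]

/-- **Central homomorphisms from groups of multiplicative type factor through every maximal torus.** -/
theorem main (G : Over S) [GrpObj G]
    [Smooth G.hom] [IsAffineHom G.hom] (hconn : ∀ s : S, _root_.IsConnected (G.hom.base ⁻¹' {s}))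
    (T : Over S) [GrpObj T] (i : T ⟶ G) (hT : Red.IsMaximalTorus i)
    (H : Over S) [GrpObj H] (hH : SGA3x.IsMultTypeFT H) (u : H ⟶ G) [IsMonHom u]
    (hc : ∀ (X : Over S) (x : X ⟶ H) (g : X ⟶ G), (x ≫ u) * g = g * (x ≫ u)) :
    ∃ w : H ⟶ T, w ≫ i = u := by
  have him := hT.1
  have himono := hT.2.1
  have hTt := hT.2.2.1
  have hTm : SGA3x.IsMultTypeFT T := K18.MTDesc.isMultTypeFT_of_isTorus hTt
  let ψ : H ⊗ T ⟶ G := (fst H T ≫ u) * (snd H T ≫ i)
  have hψ : ∀ (X : Over S) (x : X ⟶ H ⊗ T), x ≫ ψ = ((x ≫ fst H T) ≫ u) * ((x ≫ snd H T) ≫ i) := by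
    intro X x
    simp only [ψ, MonObj.comp_mul, Category.assoc]
  have hψm : IsMonHom ψ := by
    refine Pts.isMonHom_of_points ψ fun X x y => ?_
    rw [hψ, hψ, hψ, MonObj.mul_comp, MonObj.mul_comp, MonObj.mul_comp, MonObj.mul_comp]
    have h1 : Commute ((y ≫ fst H T) ≫ u) ((x ≫ snd H T) ≫ i) := hc X _ _
    rw [_root_.mul_assoc, ← _root_.mul_assoc ((y ≫ fst H T) ≫ u), h1.eq, _root_.mul_assoc, _root_.mul_assoc]
  obtain ⟨Q, _, j, f', hj, hf', hjcl, hQ, hf'fl, hf's, hfac⟩ :=
    K21.Image.exists_image (K21.MultLoc.isMult_of_isMultTypeFT (isMultTypeFT_tensor hH hTm)) ψ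
  let k : T ⟶ Q := lift 1 (𝟙 T) ≫ f'
  have h1m : IsMonHom (1 : T ⟶ H) :=
    Pts.isMonHom_of_points _ fun X x y => by rw [MonObj.comp_one, MonObj.comp_one, MonObj.comp_one, _root_.mul_one]
  have hkm : IsMonHom k := inferInstanceAs (IsMonHom (lift 1 (𝟙 T) ≫ f'))
  have hk : k ≫ j = i := by
    change (lift 1 (𝟙 T) ≫ f') ≫ j = i
    rw [Category.assoc, hfac, hψ, lift_fst, lift_snd, Category.id_comp, MonObj.one_comp, _root_.one_mul]
  have hkiso : IsIso k := by
    refine isIso_of_geomFibres hTm hQ k fun s => ?_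
    let F := Over.pullback (Red.geomPt s)
    have hGc : ConnectedSpace (Red.geomFibre s G).left := _root_.K16.PreimMain.connectedSpace_geomFibre hconn s
    have hGs : Smooth (Red.geomFibre s G).hom := inferInstanceAs (Smooth (pullback.snd G.hom (Red.geomPt s)))
    have hGh : IsAffineHom (Red.geomFibre s G).hom := inferInstanceAs (IsAffineHom (pullback.snd G.hom (Red.geomPt s)))
    have hGa : IsAffine (Red.geomFibre s G).left := isAffine_of_isAffineHom (Red.geomFibre s G).hom
    have hTs : Red.IsMaximalTorus (F.map i) := by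
      rw [RG.BrMax.isMaximalTorus_iff_abs]
      exact ⟨inferInstance, inferInstance, TorusBc.isTorus_bc _ hTt, fun T' _ j _ _ f hT' hf =>
        hT.2.2.2 s T' j f hT' hf⟩
    obtain ⟨w, hw⟩ := CentMaxTorus.main (F.map i) hTs (K10.MTLoc.bc _ hH) (F.map u)
      (central_bc (Red.geomPt s) u hc)
    let m : F.obj (H ⊗ T) ⟶ F.obj T := (F.map (fst H T) ≫ w) * F.map (snd H T)
    have hm : m ≫ F.map i = F.map ψ := by
      change ((F.map (fst H T) ≫ w) * F.map (snd H T)) ≫ F.map i = F.map ((fst H T ≫ u) * (snd H T ≫ i))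
      rw [MonObj.mul_comp, Category.assoc, hw, Functor.map_mul, Functor.map_comp, Functor.map_comp]
    have hm' : m ≫ F.map k = F.map f' := by
      have hjmono : Mono j := (Over.forget S).mono_of_mono_map (inferInstanceAs (Mono j.left))
      rw [← cancel_mono (F.map j), Category.assoc, ← Functor.map_comp, ← Functor.map_comp, hk, hfac, hm]
    have hpb := K7.Loc.isPullback_map (Red.geomPt s) f'
    have h1 : Flat (F.map f').left := MorphismProperty.of_isPullback hpb hf'fl
    have h2 : Surjective (F.map f').left := MorphismProperty.of_isPullback hpb hf's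
    have hqc : QuasiCompact f'.left := by
      have h3 : QuasiCompact (f'.left ≫ Q.hom) := by
        rw [Over.w]
        have := K10.MTLoc.isAffineHom (isMultTypeFT_tensor hH hTm)
        infer_instance
      have := K10.MTLoc.isAffineHom hQ
      exact QuasiCompact.of_comp _ Q.hom
    have h3 : QuasiCompact (F.map f').left := MorphismProperty.of_isPullback hpb hqc
    have hkmono : Mono k := by
      have : Mono (k ≫ j) := by rw [hk]; exact himono
      exact mono_of_mono k j
    exact isIso_of_cover (F.map k) (F.map f') m hm'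
  refine ⟨lift (𝟙 H) 1 ≫ f' ≫ inv k, ?_⟩
  rw [← hk, Category.assoc, Category.assoc, IsIso.inv_hom_id_assoc, hfac, hψ, lift_fst, lift_snd, Category.id_comp,
    MonObj.one_comp, _root_.mul_one]

end K14.MTProd
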