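import Groth.Agent.SGA3x.K14.MTProd
import Groth.Agent.SGA3x.K15.CentMT
import Groth.Agent.SGA3x.K18.RC
import Groth.Agent.SGA3.K205.Transporter
import Groth.Agent.Sga3.H828.FpqcRep2
import Groth.Agent.Sga3B.CentRep
import Groth.Agent.Sga3B.AlgBc
import Groth.Agent.S4115
import Groth.Agent.SGA3x.K14.PowLift
import Groth.Agent.SGA3x.K15.CentGlob
import Groth.Agent.Sga3.H799.Bc

/-!
# The reductive centre

`G` smooth affine over `S` with connected fibres, `T` a closed subgroup of multiplicative type. The subgroup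
`T ∩ Centr(G)` is of multiplicative type (`isMultTypeFT_inter`). If `T` is a maximal torus this is the reductive
centre of `G` (`exists_isRC`).
-/

set_option autoImplicit false
universe u
open CategoryTheory MonoidalCategory CartesianMonoidalCategory MonObj GrpObj AlgebraicGeometry Limits

namespace K14.RedCentre

open Groth.Agent Groth.Agent.Sga3B Groth.Agent.Sga3B.FreeBC Groth.Agent.Sga3B.DSPts Groth.Agent.Sga3B.AdGrad
  Groth.Agent.Sga3B.AdPts K15.ConjCoact K15.CentSplit K15.CentMT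

/-- `Z` is the intersection of `T` and the centre of `G`. -/
def IsInter {S : Scheme.{u}} {G T Z : Over S} [GrpObj G] (i : T ⟶ G) (j : Z ⟶ G) : Prop :=
  ∀ (X : Over S) (g : X ⟶ G), (∃ x : X ⟶ Z, x ≫ j = g) ↔
    (∃ t : X ⟶ T, t ≫ i = g) ∧ ∀ (Y : Over S) (y : Y ⟶ X) (h : Y ⟶ G), (y ≫ g) * h = h * (y ≫ g)

section main

variable {R A : Type u} [CommRing R] [CommRing A] [Algebra R A] {N : Type} [AddCommGroup N]

variable [GrpObj (DE R A)] (z : Red.DS (Spec (CommRingCat.of R)) N ⟶ DE R A) [IsMonHom z]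

/-- The intersection of a diagonalizable subgroup with the centre. -/
theorem main_split [Smooth (DE R A).hom] [GeometricallyIrreducible (DE R A).hom] [Mono z] (hN : AddGroup.FG N)
    {Z : Over (Spec (CommRingCat.of R))} [GrpObj Z] (j : Z ⟶ DE R A) [IsMonHom j] [Mono j]
    (hj : IsInter z j) : SGA3x.IsMultTypeFT Z := by
  obtain ⟨⟨w, hw⟩, hjc⟩ := (hj Z j).1 ⟨𝟙 Z, Category.id_comp _⟩
  have hw1 : IsMonHom w := by
    refine ⟨?_, ?_⟩
    · rw [← cancel_mono z, Category.assoc, hw, IsMonHom.one_hom, IsMonHom.one_hom]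
    · rw [← cancel_mono z, Category.assoc, hw, IsMonHom.mul_hom, Category.assoc, IsMonHom.mul_hom,
        ← Category.assoc, MonoidalCategory.tensorHom_comp_tensorHom, hw]
  have hw2 : Mono w := by
    have : Mono (w ≫ z) := by rw [hw]; infer_instance
    exact mono_of_mono w z
  refine K10.MTLoc.of_etale fun s => ?_
  obtain ⟨I, hI, hIc⟩ := exists_finset hN (wts z s)
  let N' := AddSubgroup.closure (wts z s)
  obtain ⟨V₁, hs₁, h₁⟩ := exists_nhd_central z s hN N' AddSubgroup.subset_closure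
  obtain ⟨V₂, hs₂, h₂⟩ := exists_nhd_le_finset z s I hI
  let V : (Spec (CommRingCat.of R)).Opens := V₁ ⊓ V₂
  have hk : Mono (Red.DSmap (Spec (CommRingCat.of R)) (QuotientAddGroup.mk' N')) :=
    AdCentre.mono_DSmap _ (QuotientAddGroup.mk'_surjective _)
  have hrange : ∀ Y : Over V.toScheme, Set.range ((Over.map V.ι).obj Y).hom ⊆ (V : Set (Spec (CommRingCat.of R))) := by
    rintro Y _ ⟨y, rfl⟩
    exact (Y.hom y).2
  -- the two factorizations
  obtain ⟨f, hf⟩ : ∃ f : Red.bc V.ι Z ⟶ Red.bc V.ι (Red.DS (Spec (CommRingCat.of R)) (N ⧸ N')),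
      f ≫ (Over.pullback V.ι).map (Red.DSmap _ (QuotientAddGroup.mk' N')) = (Over.pullback V.ι).map w := by
    let x₀ := (BcPts.bcEquiv V.ι (Red.bc V.ι Z) Z).symm (𝟙 _)
    have hx₀ : ∀ (Y : Over (Spec (CommRingCat.of R))) (y : Y ⟶ (Over.map V.ι).obj (Red.bc V.ι Z)) (g : Y ⟶ DE R A),
        cj z (y ≫ (x₀ ≫ w)) g = g := by
      intro Y y g
      have h3 := hjc Y (y ≫ x₀) g
      rw [cj, mul_inv_eq_iff_eq_mul]
      rw [← hw] at h3
      simpa only [Category.assoc] using h3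
    obtain ⟨t₀, ht₀⟩ := exists_lift_of_dsChar (x₀ ≫ w) N' I hIc
      (h₂ _ (fun x hx => (hrange _ hx).2) (x₀ ≫ w) hx₀)
    refine ⟨BcPts.bcEquiv V.ι _ _ t₀, ?_⟩
    rw [← BcPts.bcEquiv_comp, ht₀, BcPts.bcEquiv_comp, Equiv.apply_symm_apply, Category.id_comp]
  obtain ⟨g, hg⟩ : ∃ g : Red.bc V.ι (Red.DS (Spec (CommRingCat.of R)) (N ⧸ N')) ⟶ Red.bc V.ι Z,
      g ≫ (Over.pullback V.ι).map w = (Over.pullback V.ι).map (Red.DSmap _ (QuotientAddGroup.mk' N')) := by
    let x₁ := (BcPts.bcEquiv V.ι (Red.bc V.ι (Red.DS (Spec (CommRingCat.of R)) (N ⧸ N'))) _).symm (𝟙 _)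
    obtain ⟨y, hy⟩ := (hj _ (x₁ ≫ Red.DSmap _ (QuotientAddGroup.mk' N') ≫ z)).2 ⟨⟨_, Category.assoc _ _ _⟩, by
      intro Y y g
      have h3 := h₁ Y (by
        rintro _ ⟨v, rfl⟩
        have h4 : Y.hom v = ((Over.map V.ι).obj (Red.bc V.ι (Red.DS (Spec (CommRingCat.of R)) (N ⧸ N')))).hom (y.left v) := by
          rw [← Scheme.Hom.comp_apply, Over.w]
        rw [h4]
        exact (hrange _ ⟨_, rfl⟩).1) (y ≫ x₁) g
      rw [cj, mul_inv_eq_iff_eq_mul] at h3
      simpa only [Category.assoc] using h3⟩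
    have hy' : y ≫ w = x₁ ≫ Red.DSmap _ (QuotientAddGroup.mk' N') := by
      rw [← cancel_mono z, Category.assoc, hw, hy, Category.assoc]
    refine ⟨BcPts.bcEquiv V.ι _ _ y, ?_⟩
    rw [← BcPts.bcEquiv_comp, hy', BcPts.bcEquiv_comp, Equiv.apply_symm_apply, Category.id_comp]
  obtain ⟨e, he⟩ := exists_iso_of_mono _ _ f hf g hg
  have he' : IsMonHom e.symm.hom := inferInstanceAs (IsMonHom e.inv)
  have hfg : AddGroup.FG (N ⧸ N') := inferInstance
  exact ⟨V.toScheme, V.ι, inferInstance, ⟨⟨s, hs₁, hs₂⟩, rfl⟩,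
    K10.MTLoc.of_iso' e.symm (K10.MTLoc.bc V.ι (K10.MTLoc.of_split hfg ⟨Iso.refl _⟩))⟩

end main

section bc

variable {S S' : Scheme.{u}}

/-- Intersection with the centre and base change. -/
theorem IsInter.bc (f : S' ⟶ S) {G T Z : Over S} [GrpObj G] {i : T ⟶ G} {j : Z ⟶ G} (h : IsInter i j) :
    IsInter ((Over.pullback f).map i) ((Over.pullback f).map j) := by
  have key : ∀ (W : Over S) (k : W ⟶ G) (X : Over S') (g : X ⟶ Red.bc f G),
      (∃ x : X ⟶ Red.bc f W, x ≫ (Over.pullback f).map k = g) ↔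
        ∃ x : (Over.map f).obj X ⟶ W, x ≫ k = (BcPts.bcEquiv f X G).symm g := by
    intro W k X g
    constructor
    · rintro ⟨x, rfl⟩
      exact ⟨(BcPts.bcEquiv f X W).symm x, (BcPts.bcEquiv_symm_comp f x k).symm⟩
    · rintro ⟨x, hx⟩
      refine ⟨BcPts.bcEquiv f X W x, ?_⟩
      rw [← BcPts.bcEquiv_comp, hx, Equiv.apply_symm_apply]
  intro X g
  rw [key, key, h]
  refine and_congr_right fun _ => ?_
  exact (PowLift.isCentralPt_bc_iff f g).symm

theorem IsInter.comp_iso {G T Z : Over S} [GrpObj G] {i : T ⟶ G} {j : Z ⟶ G} (h : IsInter i j) {G' T' : Over S}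
    [GrpObj G'] (e : G ≅ G') [IsMonHom e.hom] (a : T' ≅ T) : IsInter (a.hom ≫ i ≫ e.hom) (j ≫ e.hom) := by
  have he : IsMonHom e.inv := inferInstance
  intro X g
  have h1 : (∃ x : X ⟶ Z, x ≫ j ≫ e.hom = g) ↔ ∃ x : X ⟶ Z, x ≫ j = g ≫ e.inv := by
    refine exists_congr fun x => ?_
    rw [← Category.assoc, Iso.eq_comp_inv]
  have h2 : (∃ x : X ⟶ T', x ≫ a.hom ≫ i ≫ e.hom = g) ↔ ∃ x : X ⟶ T, x ≫ i = g ≫ e.inv := by
    constructor
    · rintro ⟨x, rfl⟩
      exact ⟨x ≫ a.hom, by simp⟩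
    · rintro ⟨x, hx⟩
      refine ⟨x ≫ a.inv, ?_⟩
      rw [Category.assoc, Iso.inv_hom_id_assoc, ← Category.assoc, hx, Category.assoc, Iso.inv_hom_id, Category.comp_id]
  rw [h1, h2, h]
  refine and_congr_right fun _ => ?_
  constructor
  · intro h3 Y y k
    have h4 := congrArg (· ≫ e.hom) (h3 Y y (k ≫ e.inv))
    simpa only [MonObj.mul_comp, Category.assoc, Iso.inv_hom_id, Category.comp_id] using h4
  · intro h3 Y y k
    have h4 := congrArg (· ≫ e.inv) (h3 Y y (k ≫ e.hom))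
    simpa only [MonObj.mul_comp, Category.assoc, Iso.hom_inv_id, Category.comp_id] using h4

/-- **The intersection of a subgroup of multiplicative type with the centre is of multiplicative type.** -/
theorem isMultTypeFT_inter {G T Z : Over S} [GrpObj G] [GrpObj T] [GrpObj Z] [Smooth G.hom] [IsAffineHom G.hom]
    [GeometricallyIrreducible G.hom] (hT : SGA3x.IsMultTypeFT T) (i : T ⟶ G) [IsMonHom i] [Mono i]
    (j : Z ⟶ G) [IsMonHom j] [Mono j] (hj : IsInter i j) : SGA3x.IsMultTypeFT Z := by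
  refine K10.MTLoc.of_etale fun s => ?_
  obtain ⟨B, _, v, M, _, hv, hs, hM, ⟨e⟩⟩ := K10.MTLoc.exists_etale_split hT s
  refine ⟨Spec (CommRingCat.of B), v, inferInstance, hs, ?_⟩
  let a : Red.DS (Spec (CommRingCat.of B)) M ≅ Red.bc v T := ((Grp.forget _).mapIso e).symm
  have ha : IsMonHom a.hom := e.inv.hom.isMonHom_hom
  have h1 : Smooth (Red.bc v G).hom := inferInstanceAs (Smooth (pullback.snd G.hom v))
  have h2 : IsAffineHom (Red.bc v G).hom := inferInstanceAs (IsAffineHom (pullback.snd G.hom v))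
  have h3 : GeometricallyIrreducible (Red.bc v G).hom :=
    inferInstanceAs (GeometricallyIrreducible (pullback.snd G.hom v))
  obtain ⟨A, _, _, ⟨e₁⟩⟩ := AdCentre.exists_specIso (Red.bc v G) inferInstance
  let _ : GrpObj (DE B A) := GrpObj.ofIso e₁
  have he : IsMonHom e₁.hom := by
    refine ⟨?_, ?_⟩
    · rfl
    · change _ = (e₁.hom ⊗ₘ e₁.hom) ≫ (e₁.inv ⊗ₘ e₁.inv) ≫ μ[Red.bc v G] ≫ e₁.hom
      rw [← Category.assoc, MonoidalCategory.tensorHom_comp_tensorHom, e₁.hom_inv_id]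
      simp
  have h4 : Smooth (DE B A).hom := by
    rw [← Over.w e₁.inv]
    infer_instance
  have h5 : GeometricallyIrreducible (DE B A).hom := by
    rw [← Over.w e₁.inv]
    exact (MorphismProperty.cancel_left_of_respectsIso @GeometricallyIrreducible e₁.inv.left (Red.bc v G).hom).2
      inferInstance
  have h6 := (hj.bc v).comp_iso e₁ a
  exact main_split (a.hom ≫ (Over.pullback v).map i ≫ e₁.hom) hM ((Over.pullback v).map j ≫ e₁.hom) h6

/-- The intersection of a closed subgroup with the centre exists. -/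
theorem exists_inter {G T : Over S} [GrpObj G] [GrpObj T] [Smooth G.hom] [IsAffineHom G.hom]
    [GeometricallyIrreducible G.hom] (i : T ⟶ G) [IsMonHom i] [IsClosedImmersion i.left] :
    ∃ (Z : Over S) (_ : GrpObj Z) (j : Z ⟶ G), IsMonHom j ∧ IsClosedImmersion j.left ∧ Mono j ∧ IsInter i j := by
  have h1 : IsClosedImmersion (𝟙 G : G ⟶ G).left := inferInstanceAs (IsClosedImmersion (𝟙 G.left))
  obtain ⟨C, _, c, hc1, hc2, -⟩ := CentRep.exists_centralizer (𝟙 G : G ⟶ G)
  have hcm := hc2.1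
  obtain ⟨Z, j, hj, hZ⟩ := K205.Transporter.exists_inter i c
  have hjm : Mono j := (Over.forget S).mono_of_mono_map (inferInstanceAs (Mono j.left))
  obtain ⟨_, hjh⟩ := K205.Transporter.exists_grpObj_of_mem j
    ((hZ _ _).2 ⟨⟨η[T], IsMonHom.one_hom i⟩, ⟨η[C], IsMonHom.one_hom c⟩⟩)
    (fun g g' h h' => by
      rw [hZ] at h h' ⊢
      obtain ⟨⟨t, rfl⟩, ⟨d, hd⟩⟩ := h
      obtain ⟨⟨t', rfl⟩, ⟨d', hd'⟩⟩ := h'
      exact ⟨⟨t * t', MonObj.mul_comp _ _ _⟩, ⟨d * d', by rw [MonObj.mul_comp, hd, hd']⟩⟩)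
    (fun g h => by
      rw [hZ] at h ⊢
      obtain ⟨⟨t, rfl⟩, ⟨d, hd⟩⟩ := h
      exact ⟨⟨t⁻¹, GrpObj.inv_comp _ _⟩, ⟨d⁻¹, by rw [GrpObj.inv_comp, hd]⟩⟩)
  refine ⟨Z, inferInstance, j, hjh, hj, hjm, fun X g => ?_⟩
  rw [hZ, hc2.2.2]
  refine and_congr_right fun _ => ?_
  simp only [Category.comp_id]

/-- Connectedness of the fibres is stable under base change. -/
theorem isConnected_bc {G : Over S} [GrpObj G] [Smooth G.hom]
    (hconn : ∀ s : S, _root_.IsConnected (G.hom.base ⁻¹' {s})) (f : S' ⟶ S) (s : S') :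
    _root_.IsConnected ((Red.bc f G).hom.base ⁻¹' {s}) := by
  have h0 : GrpObj (Over.mk G.hom) := inferInstanceAs (GrpObj G)
  have h1 : GeometricallyIrreducible G.hom := Sga3C.GrpIrr.geometricallyIrreducible_of_connected_fibres G.hom hconn
  have h5 : Smooth (Red.bc f G).hom := inferInstanceAs (Smooth (pullback.snd G.hom f))
  have h3 : GeometricallyIrreducible (Red.bc f G).hom :=
    inferInstanceAs (GeometricallyIrreducible (pullback.snd G.hom f))
  exact ((Red.bc f G).hom.isIrreducible_preimage (Red.bc f G).hom.isOpenMap isIrreducible_singleton).isConnected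

/-- **The reductive centre of a group with a maximal torus.** -/
theorem exists_isRC {G T : Over S} [GrpObj G] [GrpObj T] [Smooth G.hom] [IsAffineHom G.hom]
    (hconn : ∀ s : S, _root_.IsConnected (G.hom.base ⁻¹' {s})) (i : T ⟶ G) (hi : Red.IsMaximalTorus i) :
    ∃ (Z : Over S) (_ : GrpObj Z) (z : Z ⟶ G), K18.RC.IsRC z ∧ IsClosedImmersion z.left ∧ IsInter i z := by
  have h0 : GrpObj (Over.mk G.hom) := inferInstanceAs (GrpObj G)
  have h1 : GeometricallyIrreducible G.hom := Sga3C.GrpIrr.geometricallyIrreducible_of_connected_fibres G.hom hconn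
  have h2 := hi.1
  have h3 := hi.2.1
  have hT : SGA3x.IsMultTypeFT T := K18.MTDesc.isMultTypeFT_of_isTorus hi.2.2.1
  have h4 : IsClosedImmersion i.left := SGA3x.K5.MTNorm.isClosedImmersion_of_mono i hT
  obtain ⟨Z, _, z, hz1, hz2, hz3, hz⟩ := exists_inter i
  refine ⟨Z, inferInstance, z, ⟨hz1, hz3, isMultTypeFT_inter hT i z hz, ?_, ?_⟩, hz2, hz⟩
  · intro X x g
    have h5 := ((hz X (x ≫ z)).1 ⟨x, rfl⟩).2 X (𝟙 X) g
    rwa [Category.id_comp] at h5
  · intro S' f H _ v _ hH hv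
    have h5 : Smooth (Red.bc f G).hom := inferInstanceAs (Smooth (pullback.snd G.hom f))
    have h6 : IsAffineHom (Red.bc f G).hom := MorphismProperty.pullback_snd (P := @IsAffineHom) G.hom f inferInstance
    obtain ⟨w, hw⟩ := MTProd.main (Red.bc f G) (isConnected_bc hconn f) (Red.bc f T) ((Over.pullback f).map i)
      (Sga3.H799.Bc.isMaximalTorus_bc f hi) H hH v hv
    refine ((hz.bc f) H v).2 ⟨⟨w, hw⟩, fun Y y h => hv Y y h⟩

/-- **The reductive centre of a group with locally constant reductive rank.** -/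
theorem exists_of_redRank {G : Over S} [GrpObj G] [Smooth G.hom] [IsAffineHom G.hom]
    (hconn : ∀ s : S, _root_.IsConnected (G.hom.base ⁻¹' {s})) (hr : SGA3x.RedRankLocallyConstant G) :
    ∃ (Z : Over S) (_ : GrpObj Z) (z : Z ⟶ G), K18.RC.IsRC z := by
  obtain ⟨S', f, hf, hs, T, _, i, hi⟩ := (S4115.result S G).1 hr
  have h5 : Smooth (Red.bc f G).hom := inferInstanceAs (Smooth (pullback.snd G.hom f))
  have h6 : IsAffineHom (Red.bc f G).hom := MorphismProperty.pullback_snd (P := @IsAffineHom) G.hom f inferInstance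
  obtain ⟨Z', _, z', hz', -, -⟩ := exists_isRC (G := Red.bc f G) (isConnected_bc hconn f) i hi
  have hc : ∀ V : S.Opens, IsAffineOpen V → ∃ W : S'.Opens, IsCompact (W : Set S') ∧
      f.base '' (W : Set S') = (V : Set S) := by
    intro V hV
    obtain ⟨W, hW, hWV⟩ := Sga3.H828.FpqcRep2.qc_cover_comp (𝟙 S) f f.isOpenMap
      (fun V hV => ⟨V, hV.isCompact, by simp⟩) V hV
    exact ⟨W, hW, by rwa [Category.comp_id] at hWV⟩
  obtain ⟨Z, _, z, hz, -⟩ := K18.RC.exists_isRC f hc z' hz'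
  exact ⟨Z, inferInstance, z, hz⟩

end bc

end K14.RedCentre
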