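import Groth.Agent.SGA3x.K14.RedCentre
import Groth.Agent.Books.FixSmB
import Groth.Agent.PRed.K543.MultSub
import Groth.Agent.S5255
import Groth.Agent.Sga3B.RG.BrHc

/-!
# The reductive centre is the intersection of the maximal tori
-/

set_option autoImplicit false
universe u
open CategoryTheory MonoidalCategory CartesianMonoidalCategory MonObj GrpObj AlgebraicGeometry Limits

namespace K14.InterTori

open Groth.Agent Groth.Agent.Sga3B

/-- The universal property of the reductive centre over the base itself. -/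
theorem exists_lift_of_up {S : Scheme.{u}} {G Z H : Over S} [GrpObj G] [GrpObj H] {z : Z ⟶ G} (hz : K18.RC.UP z)
    (v : H ⟶ G) [IsMonHom v] (hH : SGA3x.IsMultTypeFT H) (hv : K18.RC.Central v) : ∃ w : H ⟶ Z, w ≫ z = v := by
  obtain ⟨w, hw⟩ := hz S (𝟙 S) (Red.bc (𝟙 S) H) ((Over.pullback (𝟙 S)).map v) (K10.MTLoc.bc _ hH)
    (K18.RC.central_bc (𝟙 S) hv)
  let e : Over.pullback (𝟙 S) ≅ 𝟭 (Over S) := Over.pullbackId
  refine ⟨e.inv.app H ≫ w ≫ e.hom.app Z, ?_⟩
  have h1 : e.hom.app Z ≫ z = (Over.pullback (𝟙 S)).map z ≫ e.hom.app G := (e.hom.naturality z).symm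
  have h2 : (Over.pullback (𝟙 S)).map v ≫ e.hom.app G = e.hom.app H ≫ v := e.hom.naturality v
  rw [Category.assoc, Category.assoc, h1, reassoc_of% hw, h2, Iso.inv_hom_id_app_assoc]

variable {K : Type u} [Field K] [IsAlgClosed K] {G : Over (Spec (CommRingCat.of K))} [GrpObj G]

omit [IsAlgClosed K] in
/-- Conjugation by a rational point. -/
noncomputable def conj (g : 𝟙_ (Over (Spec (CommRingCat.of K))) ⟶ G) : G ≅ G where
  hom := (toUnit G ≫ g) * 𝟙 G * (toUnit G ≫ g)⁻¹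
  inv := (toUnit G ≫ g)⁻¹ * 𝟙 G * (toUnit G ≫ g)
  hom_inv_id := by
    simp only [MonObj.comp_mul, GrpObj.comp_inv, Category.comp_id]
    have h1 : ((toUnit G ≫ g) * 𝟙 G * (toUnit G ≫ g)⁻¹) ≫ toUnit G ≫ g = toUnit G ≫ g := by
      rw [← Category.assoc, Subsingleton.elim ((_ : G ⟶ G) ≫ toUnit G) (toUnit G)]
    rw [h1]
    group
  inv_hom_id := by
    simp only [MonObj.comp_mul, GrpObj.comp_inv, Category.comp_id]
    have h1 : ((toUnit G ≫ g)⁻¹ * 𝟙 G * (toUnit G ≫ g)) ≫ toUnit G ≫ g = toUnit G ≫ g := by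
      rw [← Category.assoc, Subsingleton.elim ((_ : G ⟶ G) ≫ toUnit G) (toUnit G)]
    rw [h1]
    group

omit [IsAlgClosed K] in
lemma comp_conj_hom (g : 𝟙_ (Over (Spec (CommRingCat.of K))) ⟶ G) {X : Over (Spec (CommRingCat.of K))} (x : X ⟶ G) :
    x ≫ (conj g).hom = (toUnit X ≫ g) * x * (toUnit X ≫ g)⁻¹ := by
  simp only [conj, MonObj.comp_mul, GrpObj.comp_inv, Category.comp_id]
  have h1 : x ≫ toUnit G ≫ g = toUnit X ≫ g := by
    rw [← Category.assoc, Subsingleton.elim (x ≫ toUnit G) (toUnit X)]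
  rw [h1]

omit [IsAlgClosed K] in
instance (g : 𝟙_ (Over (Spec (CommRingCat.of K))) ⟶ G) : IsMonHom (conj g).hom := by
  refine Pts.isMonHom_of_points _ fun X x y => ?_
  rw [comp_conj_hom, comp_conj_hom, comp_conj_hom]
  group

omit [IsAlgClosed K] [GrpObj G] in
lemma isConnected_fibre (G : Over (Spec (CommRingCat.of K))) [ConnectedSpace G.left] (s : Spec (CommRingCat.of K)) :
    _root_.IsConnected (G.hom.base ⁻¹' {s}) := by
  have h1 : G.hom.base ⁻¹' {s} = Set.univ :=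
    Set.eq_univ_of_forall fun x => Subsingleton.elim (α := PrimeSpectrum K) _ _
  rw [h1]
  exact isConnected_univ

/-- A point lying in all conjugates of a maximal torus is central. -/
theorem main [Smooth G.hom] [IsAffine G.left] [ConnectedSpace G.left] {T : Over (Spec (CommRingCat.of K))} [GrpObj T]
    (i : T ⟶ G) (hi : Red.IsMaximalTorus i) :
    ∃ (D : Over (Spec (CommRingCat.of K))) (_ : GrpObj D) (d : D ⟶ G), IsMonHom d ∧ Mono d ∧
      SGA3x.IsMultTypeFT D ∧ K18.RC.Central d ∧ ∀ (X : Over (Spec (CommRingCat.of K))) (x : X ⟶ G),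
        (∀ g : 𝟙_ (Over (Spec (CommRingCat.of K))) ⟶ G, ∃ t : X ⟶ T, t ≫ i ≫ (conj g).hom = x) →
        ∃ y : X ⟶ D, y ≫ d = x := by
  have him := hi.1
  have himono := hi.2.1
  have hT : SGA3x.IsMultTypeFT T := K18.MTDesc.isMultTypeFT_of_isTorus hi.2.2.1
  have hGaff : IsAffineHom G.hom := inferInstance
  have hicl : IsClosedImmersion i.left := SGA3x.K5.MTNorm.isClosedImmersion_of_mono i hT
  have hconj : ∀ g : 𝟙_ (Over (Spec (CommRingCat.of K))) ⟶ G, IsClosedImmersion (i ≫ (conj g).hom).left := by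
    intro g
    rw [Over.comp_left]
    infer_instance
  obtain ⟨W, w, hw, hW⟩ := Books.FixSmB.exists_iInter (X := G.left)
    (fun _ : 𝟙_ (Over (Spec (CommRingCat.of K))) ⟶ G => T.left) (fun g => (i ≫ (conj g).hom).left)
  let D : Over (Spec (CommRingCat.of K)) := Over.mk (w ≫ G.hom)
  let d : D ⟶ G := Over.homMk w rfl
  have hdl : IsClosedImmersion d.left := hw
  have hdm : Mono d := (Over.forget _).mono_of_mono_map (inferInstanceAs (Mono d.left))
  have hD : ∀ (X : Over (Spec (CommRingCat.of K))) (x : X ⟶ G), (∃ y : X ⟶ D, y ≫ d = x) ↔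
      ∀ g : 𝟙_ (Over (Spec (CommRingCat.of K))) ⟶ G, ∃ t : X ⟶ T, t ≫ i ≫ (conj g).hom = x := by
    intro X x
    constructor
    · rintro ⟨y, hy⟩ g
      obtain ⟨t, ht⟩ := (hW X.left x.left).1 ⟨y.left, by rw [← hy]; rfl⟩ g
      refine ⟨Over.homMk t ?_, ?_⟩
      · have h1 : t ≫ (i ≫ (conj g).hom).left ≫ G.hom = t ≫ T.hom := by rw [Over.w]
        rw [← h1, reassoc_of% ht, Over.w]
      · ext1
        exact ht
    · intro h
      obtain ⟨y, hy⟩ := (hW X.left x.left).2 fun g => by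
        obtain ⟨t, ht⟩ := h g
        exact ⟨t.left, by rw [← ht]; rfl⟩
      refine ⟨Over.homMk y ?_, ?_⟩
      · change y ≫ w ≫ G.hom = X.hom
        rw [reassoc_of% hy, Over.w]
      · ext1
        exact hy
  obtain ⟨_, hdh⟩ := K205.Transporter.exists_grpObj_of_mem d
    ((hD _ _).2 fun g => ⟨η[T], by rw [← Category.assoc, IsMonHom.one_hom i, IsMonHom.one_hom]⟩)
    (fun x x' h h' => by
      rw [hD] at h h' ⊢
      intro g
      obtain ⟨t, ht⟩ := h g
      obtain ⟨t', ht'⟩ := h' g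
      exact ⟨t * t', by rw [MonObj.mul_comp, ht, ht']⟩)
    (fun x h => by
      rw [hD] at h ⊢
      intro g
      obtain ⟨t, ht⟩ := h g
      exact ⟨t⁻¹, by rw [GrpObj.inv_comp, ht]⟩)
  have hDm : SGA3x.IsMultTypeFT D := by
    obtain ⟨t, ht⟩ := (hD D d).1 ⟨𝟙 D, Category.id_comp d⟩ 1
    have h1 : IsMonHom t := by
      have : IsMonHom (t ≫ i ≫ (conj (1 : 𝟙_ (Over (Spec (CommRingCat.of K))) ⟶ G)).hom) := by rw [ht]; exact hdh
      exact Sga3C.SubGrp.isMonHom_of_comp_mono t (i ≫ (conj (1 : 𝟙_ (Over (Spec (CommRingCat.of K))) ⟶ G)).hom)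
    have h2 : IsClosedImmersion t.left := by
      have h3 : IsClosedImmersion (t.left ≫ (i ≫ (conj (1 : 𝟙_ (Over (Spec (CommRingCat.of K))) ⟶ G)).hom).left) := by
        rw [← Over.comp_left, ht]
        exact hdl
      exact IsClosedImmersion.of_comp _ (i ≫ (conj (1 : 𝟙_ (Over (Spec (CommRingCat.of K))) ⟶ G)).hom).left
    exact K543.MultSub.isMultTypeFT_of_closed hT t
  refine ⟨D, inferInstance, d, hdh, hdm, hDm, ?_, fun X x h => (hD X x).2 h⟩
  -- the normalizer
  obtain ⟨N, _, n, hn, hncl, -⟩ := SGA3x.K5.MTNorm.exists_normalizer d hDm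
  have key : ∀ (h : 𝟙_ (Over (Spec (CommRingCat.of K))) ⟶ G) (X : Over (Spec (CommRingCat.of K))) (x : X ⟶ G),
      (∃ y : X ⟶ D, y ≫ d = x) → ∃ y : X ⟶ D, y ≫ d = x ≫ (conj h).hom := by
    intro h X x hx
    rw [hD] at hx ⊢
    intro g
    obtain ⟨t, ht⟩ := hx (h⁻¹ * g)
    refine ⟨t, ?_⟩
    rw [← ht, ← Category.assoc, comp_conj_hom, comp_conj_hom, ← Category.assoc t i, comp_conj_hom]
    simp only [MonObj.comp_mul, GrpObj.comp_inv]
    group
  have hred : IsReduced G.left := Flat2B.SmoothGeom.isReduced_of_smooth G.hom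
  obtain ⟨r, hr⟩ := RG.BrPts.exists_factor n (𝟙 G) (fun h => by
    refine (hn.2.2 _ (h ≫ 𝟙 G)).2 fun X' x y => ?_
    rw [Category.comp_id, Subsingleton.elim x (toUnit X')]
    constructor
    · obtain ⟨y', hy'⟩ := key h X' (y ≫ d) ⟨y, rfl⟩
      exact ⟨y', by rw [hy', comp_conj_hom]⟩
    · obtain ⟨y', hy'⟩ := key h⁻¹ X' (y ≫ d) ⟨y, rfl⟩
      exact ⟨y', by rw [hy', comp_conj_hom, GrpObj.comp_inv, _root_.inv_inv]⟩)
  have hnorm : AlgGrp.IsNormalHom d := by
    intro T' g m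
    have h1 := ((hn.2.2 T' g).1 ⟨g ≫ r, by rw [Category.assoc, hr, Category.comp_id]⟩ T' (𝟙 _) m).1
    rwa [Category.id_comp] at h1
  have h0 : GrpObj (Over.mk G.hom) := inferInstanceAs (GrpObj G)
  have hirr : GeometricallyIrreducible G.hom :=
    Sga3C.GrpIrr.geometricallyIrreducible_of_connected_fibres G.hom (isConnected_fibre G)
  have hconn : ∀ s : Spec (CommRingCat.of K),
      ConnectedSpace ↥(pullback G.hom ((Spec (CommRingCat.of K)).fromSpecResidueField s)) := by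
    intro s
    have h2 : IrreducibleSpace ↥(pullback G.hom ((Spec (CommRingCat.of K)).fromSpecResidueField s)) :=
      hirr.geometrically_irreducibleSpace _ _ _ (IsPullback.of_hasPullback G.hom _)
    infer_instance
  have hc := S5255.result G D hconn d hDm hnorm
  exact fun X x g => (hc X g x).symm

/-- **The reductive centre is the intersection of the maximal tori.** -/
theorem iff [Smooth G.hom] [IsAffine G.left] [ConnectedSpace G.left] {Z : Over (Spec (CommRingCat.of K))} [GrpObj Z]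
    (z : Z ⟶ G) (hZ : K18.RC.IsRC z) (X : Over (Spec (CommRingCat.of K))) (g : X ⟶ G) :
    (∃ x : X ⟶ Z, x ≫ z = g) ↔
      ∀ (T : Over (Spec (CommRingCat.of K))) [GrpObj T] (i : T ⟶ G), Red.IsMaximalTorus i → ∃ t : X ⟶ T, t ≫ i = g := by
  obtain ⟨hz1, hz2, hz3, hz4, hz5⟩ := hZ
  have hGaff : IsAffineHom G.hom := inferInstance
  constructor
  · rintro ⟨x, rfl⟩ T _ i hi
    obtain ⟨w, hw⟩ := MTProd.main G (isConnected_fibre G) T i hi Z hz3 z hz4
    exact ⟨x ≫ w, by rw [Category.assoc, hw]⟩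
  · intro h
    obtain ⟨T, _, i, hi, -⟩ := RG.BrHc.exists_isMaximalTorus G
    obtain ⟨D, _, d, hd1, hd2, hd3, hd4, hd5⟩ := main i hi
    obtain ⟨w, hw⟩ := exists_lift_of_up hz5 d hd3 hd4
    obtain ⟨y, hy⟩ := hd5 X g fun c => by
      have h1 : Red.IsMaximalTorus (i ≫ (conj c).hom) := by
        rw [RG.BrMax.isMaximalTorus_iff_abs] at hi ⊢
        exact RG.BrMax.isAbsMax_comp_iso i (conj c) hi
      exact h T (i ≫ (conj c).hom) h1
    exact ⟨y ≫ w, by rw [Category.assoc, hw, hy]⟩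

end K14.InterTori
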