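import Groth.Agent.SGA3x.K14.LieWeight
import Groth.Agent.SGA3x.K15.CentMT
import Groth.Agent.LieS.K988.Model
import Groth.Agent.LieS.K988.DiagLie
import Groth.Agent.Sga3B.AdMono
import Groth.Agent.Sga3B.TorusAlgClosed
import Groth.Agent.SGA3x.K7.DSProp
import Groth.Agent.SGA3x.K14.InterTori
import Mathlib.Algebra.Lie.Nilpotent

/-!
# Weights of a torus on the Lie algebra and the bracket
-/

set_option autoImplicit false
universe u
open CategoryTheory MonoidalCategory CartesianMonoidalCategory MonObj GrpObj AlgebraicGeometry Limits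

namespace K14.LieTorus

open Groth.Agent Groth.Agent.Sga3B Groth.Agent.Sga3B.FreeBC Groth.Agent.Sga3B.DSPts Groth.Agent.Sga3B.AdGrad
  Groth.Agent.Sga3B.AdPts Groth.Agent.Sga3B.AdMono K15.ConjCoact LieS K988.LieCalc K988.LieBrk

variable {k A : Type u} [Field k] [CommRing A] [Algebra k A] {N : Type} [AddCommGroup N]

/-- the structure morphism -/
noncomputable abbrev st (k : Type u) [Field k] : Spec (CommRingCat.of k) ⟶ Spec (CommRingCat.of k) :=
  Spec.map (CommRingCat.ofHom (algebraMap k k))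

lemma specPt_appTop {C C' : Type u} [CommRing C] [CommRing C'] (ψ : C →+* C') (x : C) :
    (Spec.map (CommRingCat.ofHom ψ)).appTop ((Scheme.ΓSpecIso (CommRingCat.of C)).inv x) =
      (Scheme.ΓSpecIso (CommRingCat.of C')).inv (ψ x) :=
  congr($(Scheme.ΓSpecIso_inv_naturality (CommRingCat.ofHom ψ)).hom x).symm

lemma fn_of_left {C : Type u} [CommRing C] (h : Spec (CommRingCat.of C) ⟶ Spec (CommRingCat.of k))
    (g : Over.mk h ⟶ DE k A) (ψ : A →+* C) (hg : g.left = Spec.map (CommRingCat.ofHom ψ)) (a : A) :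
    fn g a = (Scheme.ΓSpecIso (CommRingCat.of C)).inv (ψ a) := by
  rw [fn_eq, fn_id_apply, hg]
  exact specPt_appTop ψ a

variable [GrpObj (DE k A)]

variable (k A) in
/-- The augmentation. -/
noncomputable def epsA : A →ₐ[k] k where
  __ := eps k A
  commutes' r := by
    apply (fn_id_bijective (R := k) k).1
    refine (fn_eps _).trans ?_
    rw [fn_algebraMap]
    exact (fn_algebraMap (𝟙 (DE k k)) r).symm

variable (z : Red.DS (Spec (CommRingCat.of k)) N ⟶ DE k A) [IsMonHom z]

/-- The augmentation is invariant under conjugation. -/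
theorem epsA_eq_zero {n : N} {a : A} (hn : n ≠ 0) (ha : (coactC z).IsHom n a) : epsA k A a = 0 := by
  let X : Over (Spec (CommRingCat.of k)) := U k k N
  let t : X ⟶ Red.DS (Spec (CommRingCat.of k)) N := tU k k N
  have h1 : cj z t (1 : X ⟶ DE k A) = 1 := by
    rw [cj, _root_.mul_one, mul_inv_cancel]
  have h2 := fn_cj_of_isHom z (1 : X ⟶ DE k A) t ha
  rw [h1, fn_one, dsChar_tU] at h2
  have h3 : str X (eps k A a) = fn (𝟙 X) (algebraMap k (MonoidAlgebra k (Multiplicative N)) (eps k A a)) :=
    (fn_algebraMap (𝟙 X) (eps k A a)).symm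
  rw [h3, ← _root_.map_mul] at h2
  have h4 := (fn_id_bijective (R := k) (MonoidAlgebra k (Multiplicative N))).1 h2
  have h5 := congrArg (fun x => x.coeff (Multiplicative.ofAdd n)) h4
  rw [← Algebra.smul_def, MonoidAlgebra.smul_single, smul_eq_mul, _root_.mul_one] at h5
  have h6 : (algebraMap k (MonoidAlgebra k (Multiplicative N)) (eps k A a)) =
      MonoidAlgebra.single 1 (eps k A a) := rfl
  rw [h6, MonoidAlgebra.coeff_single, MonoidAlgebra.coeff_single, Finsupp.single_eq_same,
    Finsupp.single_eq_of_ne] at h5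
  · exact h5.symm
  · intro h
    exact hn (Multiplicative.ofAdd.injective h)

section point

variable (δ : A →ₗ[k] k) (hδ : ∀ x y, δ (x * y) = epsA k A x * δ y + δ x * epsA k A y)

include hδ in
lemma δ_one : δ 1 = 0 := by
  have h := hδ 1 1
  rw [_root_.mul_one, map_one (epsA k A), _root_.one_mul, _root_.mul_one] at h
  exact left_eq_add.mp h

/-- the homomorphism attached to a derivation -/
noncomputable def phi : A →+* DualNumber k where
  toFun a := algebraMap k (DualNumber k) (epsA k A a) + algebraMap k (DualNumber k) (δ a) * DualNumber.eps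
  map_one' := by rw [map_one, map_one, δ_one δ hδ, map_zero, zero_mul, add_zero]
  map_zero' := by simp
  map_add' x y := by simp only [map_add]; ring
  map_mul' x y := by
    rw [hδ, map_mul, map_mul, map_add, map_mul, map_mul]
    have h0 : (DualNumber.eps : DualNumber k) * DualNumber.eps = 0 := eps_sq k
    linear_combination (-1 : DualNumber k) * (algebraMap k (DualNumber k) (δ x) * algebraMap k (DualNumber k) (δ y)) * h0

lemma dualHom_phi {C : Type u} [CommRing C] (h : k →+* C) (s : C) (hs : s * s = 0) (a : A) :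
    dualHom h s hs (phi δ hδ a) = h (epsA k A a) + h (δ a) * s := by
  change dualHom h s hs (algebraMap k (DualNumber k) (epsA k A a) + algebraMap k (DualNumber k) (δ a) * DualNumber.eps) = _
  rw [map_add, map_mul]
  simp [dualHom_apply, TrivSqZeroExt.algebraMap_eq_inl']

/-- the point attached to a derivation -/
noncomputable def vpt : dpt k (st k) ⟶ DE k A :=
  Over.homMk (Spec.map (CommRingCat.ofHom (phi δ hδ))) (by
    change Spec.map _ ≫ Spec.map _ = Spec.map _ ≫ Spec.map _
    refine specMap_sq _ _ _ _ fun x => ?_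
    change algebraMap k (DualNumber k) (epsA k A (algebraMap k A x)) +
      algebraMap k (DualNumber k) (δ (algebraMap k A x)) * DualNumber.eps = _
    have hx : δ (algebraMap k A x) = 0 := by
      rw [Algebra.algebraMap_eq_smul_one, map_smul, δ_one δ hδ, smul_zero]
    rw [AlgHom.commutes, hx, map_zero, zero_mul, add_zero])

lemma ev_vpt_left {C : Type u} [CommRing C] (h : k →+* C) (s : C) (hs : s * s = 0) :
    (ev (st k) h s hs ≫ vpt δ hδ).left = Spec.map (CommRingCat.ofHom ((dualHom h s hs).comp (phi δ hδ))) := by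
  rw [Over.comp_left, ev_left]
  exact specMap_comp _ _

lemma fn_ev_vpt {C : Type u} [CommRing C] (h : k →+* C) (s : C) (hs : s * s = 0) (a : A) :
    fn (ev (st k) h s hs ≫ vpt δ hδ) a =
      (Scheme.ΓSpecIso (CommRingCat.of C)).inv (h (epsA k A a) + h (δ a) * s) := by
  rw [← dualHom_phi δ hδ h s hs a]
  exact fn_of_left _ _ _ (ev_vpt_left δ hδ h s hs) a

/-- The point lies in the Lie algebra. -/
lemma vpt_mem : vpt δ hδ ∈ Lie (DE k A) k (st k) := by
  rw [mem_Lie_iff]
  apply fn_injective
  intro a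
  have h1 : (zeroSec k (st k) ≫ vpt δ hδ).left =
      Spec.map (CommRingCat.ofHom ((TrivSqZeroExt.fstHom k k k).toRingHom.comp (phi δ hδ))) := by
    rw [Over.comp_left]
    exact specMap_comp _ _
  rw [fn_of_left _ _ _ h1, fn_one]
  have h2 : ((TrivSqZeroExt.fstHom k k k).toRingHom.comp (phi δ hδ)) a = epsA k A a := by
    change TrivSqZeroExt.fst (algebraMap k (DualNumber k) (epsA k A a) +
      algebraMap k (DualNumber k) (δ a) * DualNumber.eps) = _
    simp [TrivSqZeroExt.algebraMap_eq_inl']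
  rw [h2]
  change _ = ((Scheme.ΓSpecIso (CommRingCat.of k)).inv ≫ (Spec.map (CommRingCat.ofHom (algebraMap k k))).appTop).hom _
  exact (specPt_appTop (algebraMap k k) (epsA k A a)).symm

end point

section torus

variable (lam : N →+ k)

/-- the character `n ↦ 1 + lam(n) ε` -/
noncomputable def tchar : Multiplicative N →* Γ(Spec (CommRingCat.of (DualNumber k)), ⊤) :=
  ((Scheme.ΓSpecIso (CommRingCat.of (DualNumber k))).inv.hom.toMonoidHom).comp (K988.LieDiag.chd N k lam)

/-- the tangent vector of the torus attached to `lam` -/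
noncomputable def tpt : dpt k (st k) ⟶ Red.DS (Spec (CommRingCat.of k)) N :=
  dsEquiv (dpt k (st k)) N (tchar lam)

lemma dsChar_tpt : dsChar (tpt lam) = (tchar lam : Multiplicative N →* Γ((dpt k (st k)).left, ⊤)) :=
  dsChar_dsEquiv _

lemma dsChar_ev_tpt {C : Type u} [CommRing C] (h : k →+* C) (s : C) (hs : s * s = 0) (n : N) :
    dsChar (ev (st k) h s hs ≫ tpt lam) (Multiplicative.ofAdd n) =
      (Scheme.ΓSpecIso (CommRingCat.of C)).inv (1 + h (lam n) * s) := by
  rw [dsChar_comp, dsChar_tpt]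
  change (Spec.map (CommRingCat.ofHom (dualHom h s hs))).appTop
    ((Scheme.ΓSpecIso (CommRingCat.of (DualNumber k))).inv (K988.LieDiag.chd N k lam (Multiplicative.ofAdd n))) = _
  rw [specPt_appTop]
  congr 1
  simp [dualHom_apply, K988.LieDiag.chd]

lemma zeroSec_tpt : zeroSec k (st k) ≫ tpt lam = (1 : pt k (st k) ⟶ Red.DS (Spec (CommRingCat.of k)) N) := by
  have h1 : dsChar (zeroSec k (st k) ≫ tpt lam) = 1 := by
    rw [dsChar_comp, dsChar_tpt]
    refine MonoidHom.ext fun n => ?_
    change (Spec.map (CommRingCat.ofHom (TrivSqZeroExt.fstHom k k k).toRingHom)).appTop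
      ((Scheme.ΓSpecIso (CommRingCat.of (DualNumber k))).inv (K988.LieDiag.chd N k lam n)) = 1
    rw [specPt_appTop]
    have h2 : (TrivSqZeroExt.fstHom k k k).toRingHom (K988.LieDiag.chd N k lam n) = 1 := K988.LieDiag.chd_fst _ _ _ _
    rw [h2, map_one]
  apply (dsEquiv _ N).symm.injective
  rw [map_one]
  exact h1

end torus

/-- the tangent vector of the group attached to `lam` -/
noncomputable def upt (lam : N →+ k) : Lie (DE k A) k (st k) :=
  ⟨tpt lam ≫ z, by rw [mem_Lie_iff, ← Category.assoc, zeroSec_tpt, MonObj.one_comp]⟩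

/-- **The bracket of a tangent vector of the torus and a weight vector.** -/
theorem isBracket (lam : N →+ k) (m : N) (δ : A →ₗ[k] k)
    (hδ : ∀ x y, δ (x * y) = epsA k A x * δ y + δ x * epsA k A y)
    (hm : ∀ (e : N) (b : A), e ≠ m → (coactC z).IsHom e b → δ b = 0) :
    IsBracket (DE k A) k (st k) (upt z lam) ⟨vpt δ hδ, vpt_mem δ hδ⟩
      (lam m • (⟨vpt δ hδ, vpt_mem δ hδ⟩ : Lie (DE k A) k (st k))) := by
  rw [isBracket_iff]
  let c := lam m
  have hs : (E1 k + tD k c * (E1 k * E2 k)) * (E1 k + tD k c * (E1 k * E2 k)) = 0 := by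
    have h1 := E1_sq k
    linear_combination (1 + 2 * tD k c * E2 k + tD k c * tD k c * E2 k * E2 k) * h1
  have hs' : (tD k c * (E1 k * E2 k)) * (tD k c * (E1 k * E2 k)) = 0 := by
    have h1 := E1_sq k
    linear_combination (tD k c * tD k c * E2 k * E2 k) * h1
  have hst : (tD k c * (E1 k * E2 k)) * E1 k = 0 := by
    have h1 := E1_sq k
    linear_combination (tD k c * E2 k) * h1
  have key : cj z (ev2 (st k) ≫ tpt lam) (ev1 (st k) ≫ vpt δ hδ) =
      ev (st k) (tD k) (E1 k + tD k c * (E1 k * E2 k)) hs ≫ vpt δ hδ := by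
    apply fn_injective
    intro a
    obtain ⟨I, b, hb, rfl⟩ := exists_sum z a
    rw [map_sum, map_sum]
    refine Finset.sum_congr rfl fun n _ => ?_
    rw [fn_cj_of_isHom z _ _ (hb n), fn_ev_vpt, fn_ev_vpt, dsChar_ev_tpt, ← _root_.map_mul]
    congr 1
    have h1 : tD k (epsA k A (b n)) * tD k (lam n) = 0 := by
      by_cases hn : n = 0
      · rw [hn, map_zero, map_zero, mul_zero]
      · rw [epsA_eq_zero z hn (hb n), map_zero, zero_mul]
    have h2 : tD k (δ (b n)) * tD k (lam n) = tD k (δ (b n)) * tD k c := by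
      by_cases hn : n = m
      · rw [hn]
      · rw [hm n (b n) hn (hb n), map_zero, zero_mul, zero_mul]
    linear_combination E2 k * h1 + E1 k * E2 k * h2
  have h3 : ev (st k) (tD k) (E1 k + tD k c * (E1 k * E2 k)) hs ≫ vpt δ hδ =
      (ev (st k) (tD k) (tD k c * (E1 k * E2 k)) hs' ≫ vpt δ hδ) * (ev1 (st k) ≫ vpt δ hδ) := by
    refine ev_add (st k) (vpt δ hδ) ?_ (tD k) _ _ hs' (E1_sq k) hst _ hs (add_comm _ _)
    exact vpt_mem δ hδ
  have h4 : ev12 (st k) ≫ (lam m • (⟨vpt δ hδ, vpt_mem δ hδ⟩ : Lie (DE k A) k (st k))).1 =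
      ev (st k) (tD k) (tD k c * (E1 k * E2 k)) hs' ≫ vpt δ hδ := by
    rw [smul_val, ← Category.assoc, ev_scale (st k) (tD k) _ (E12_sq k) (lam m) _ hs' rfl]
  rw [h4]
  have h5 : (ev (st k) (tD k) (tD k c * (E1 k * E2 k)) hs' ≫ vpt δ hδ) =
      (cj z (ev2 (st k) ≫ tpt lam) (ev1 (st k) ≫ vpt δ hδ)) * (ev1 (st k) ≫ vpt δ hδ)⁻¹ := by
    rw [key, h3, mul_inv_cancel_right]
  rw [h5, cj, Category.assoc]
  rfl

/-- A derivation whose point is trivial is zero. -/
theorem eq_zero_of_vpt (δ : A →ₗ[k] k) (hδ : ∀ x y, δ (x * y) = epsA k A x * δ y + δ x * epsA k A y)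
    (h : vpt δ hδ = 1) (a : A) : δ a = 0 := by
  have h1 := fn_ev_vpt δ hδ (algebraMap k (DualNumber k)) DualNumber.eps (eps_sq k) a
  have h2 := fn_ev_vpt δ hδ (algebraMap k (DualNumber k)) 0 (by simp) a
  have e1 : ev (st k) (algebraMap k (DualNumber k)) DualNumber.eps (eps_sq k) ≫ vpt δ hδ = 1 := by
    rw [h, MonObj.comp_one]
  have e2 : ev (st k) (algebraMap k (DualNumber k)) 0 (by simp) ≫ vpt δ hδ = 1 := by
    rw [h, MonObj.comp_one]
  rw [e1] at h1
  rw [e2] at h2
  have h3 := h1.symm.trans h2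
  have h4 : Function.Injective (Scheme.ΓSpecIso (CommRingCat.of (DualNumber k))).inv :=
    (Scheme.ΓSpecIso (CommRingCat.of (DualNumber k))).symm.commRingCatIsoToRingEquiv.injective
  have h5 := h4 h3
  have h6 := congrArg TrivSqZeroExt.snd h5
  simpa [TrivSqZeroExt.algebraMap_eq_inl'] using h6

/-- **Weight vectors of nonzero differential weight do not exist in a nilpotent Lie algebra.** -/
theorem eq_zero_of_nilpotent {G : Over (Spec (CommRingCat.of k))} [GrpObj G] (e : G ≅ DE k A) [IsMonHom e.hom]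
    (L : Type u) [LieRing L] [LieAlgebra k L] (mo : LieS.Model G k (st k) L) (hL : LieRing.IsNilpotent L)
    (lam : N →+ k) (m : N) (hlam : lam m ≠ 0) (δ : A →ₗ[k] k)
    (hδ : ∀ x y, δ (x * y) = epsA k A x * δ y + δ x * epsA k A y)
    (hm : ∀ (e : N) (b : A), e ≠ m → (coactC z).IsHom e b → δ b = 0) (a : A) : δ a = 0 := by
  have he : IsMonHom e.inv := inferInstance
  let F := LieS.map k (st k) e.inv
  have hF : ∀ v : Lie (DE k A) k (st k), (F v).1 = v.1 ≫ e.inv := fun v => rfl
  have hbr := isBracket z lam m δ hδ hm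
  let v : Lie (DE k A) k (st k) := ⟨vpt δ hδ, vpt_mem δ hδ⟩
  let w : Lie (DE k A) k (st k) := upt z lam
  have h1 : IsBracket G k (st k) (F w) (F v) (F (lam m • v)) := by
    rw [isBracket_iff] at hbr ⊢
    rw [hF, hF, hF, ← Category.assoc, ← Category.assoc, ← Category.assoc]
    rw [hbr]
    simp only [cm, MonObj.mul_comp, GrpObj.inv_comp]
    rfl
  have h2 : F (lam m • v) = lam m • F v := by
    apply Subtype.ext
    rw [hF, smul_val, smul_val, hF, Category.assoc]
  let x : L := (mo.e.symm (F w)).toAdd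
  let y : L := (mo.e.symm (F v)).toAdd
  have hx : mo.e (Multiplicative.ofAdd x) = F w := mo.e.apply_symm_apply _
  have hy : mo.e (Multiplicative.ofAdd y) = F v := mo.e.apply_symm_apply _
  have h3 : ⁅x, y⁆ = lam m • y := by
    have h4 := mo.e_lie x y
    rw [hx, hy] at h4
    have h5 := isBracket_unique (st k) G _ _ _ _ h4 h1
    rw [h2, ← hy, ← mo.e_smul] at h5
    exact Multiplicative.ofAdd.injective (mo.e.injective h5)
  have h4 : _root_.IsNilpotent (LieModule.toEnd k L L x) := by
    have : LieModule.IsNilpotent L L := hL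
    exact LieModule.isNilpotent_toEnd_of_isNilpotent k L L x
  obtain ⟨n, hn⟩ := h4
  have h5 : ∀ j : ℕ, (LieModule.toEnd k L L x ^ j) y = (lam m) ^ j • y := by
    intro j
    induction j with
    | zero => simp
    | succ j ih =>
      rw [pow_succ', Module.End.mul_apply, ih, map_smul, LieModule.toEnd_apply_apply, h3, smul_smul, pow_succ]
  have h6 : y = 0 := by
    have h7 := h5 n
    rw [hn, LinearMap.zero_apply] at h7
    exact (smul_eq_zero.mp h7.symm).resolve_left (pow_ne_zero n hlam)
  have h7 : F v = 1 := by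
    rw [← hy, h6, ofAdd_zero, map_one]
  have h8 : vpt δ hδ = 1 := by
    have h9 := congrArg Subtype.val h7
    rw [hF] at h9
    have h10 : vpt δ hδ ≫ e.inv = 1 := h9
    rw [← cancel_mono e.inv, h10, MonObj.one_comp]
  exact eq_zero_of_vpt δ hδ h8 a

/-- A diagonalizable group which is trivial has trivial character group. -/
theorem eq_zero_of_isTrivialGrp (hN : Red.IsTrivialGrp (Red.DS (Spec (CommRingCat.of k)) N)) (n : N) : n = 0 := by
  have h0 : IsIso (Red.DS (Spec (CommRingCat.of k)) N).hom := hN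
  have h1 : Red.DSmap (Spec (CommRingCat.of k)) (AddMonoidHom.id N) = Red.DSmap (Spec (CommRingCat.of k)) 0 := by
    ext1
    rw [← cancel_mono (Red.DS (Spec (CommRingCat.of k)) N).hom, Over.w, Over.w]
  have h2 := K7.DSProp.DSmap_injective (R := k) h1
  exact DFunLike.congr_fun h2 n

end K14.LieTorus

namespace K14.LieTorus

open Groth.Agent Groth.Agent.Sga3B Groth.Agent.Sga3B.FreeBC Groth.Agent.Sga3B.DSPts Groth.Agent.Sga3B.AdGrad
  Groth.Agent.Sga3B.AdPts Groth.Agent.Sga3B.AdMono K15.ConjCoact LieS K988.LieCalc K988.LieBrk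

variable {k : Type u} [Field k] [IsAlgClosed k]

/-- **A group with nilpotent Lie algebra and trivial reductive centre contains no torus.** -/
theorem main (G : Over (Spec (CommRingCat.of k))) [GrpObj G] [Smooth G.hom] [IsAffine G.left]
    [ConnectedSpace ↥G.left]
    (hZ : ∀ (Z : Over (Spec (CommRingCat.of k))) [GrpObj Z] (z : Z ⟶ G) [IsMonHom z] [Mono z], SGA3x.IsMultTypeFT Z →
      (∀ (X : Over (Spec (CommRingCat.of k))) (x : X ⟶ Z) (g : X ⟶ G), (x ≫ z) * g = g * (x ≫ z)) → Red.IsTrivialGrp Z)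
    (L : Type u) [LieRing L] [LieAlgebra k L] (mo : LieS.Model G k (st k) L) (hL : LieRing.IsNilpotent L) :
    Red.HasNoSubtorus k G := by
  intro T _ j _ _ hT
  obtain ⟨r, ⟨eT⟩⟩ := TorusAlgClosed.exists_isSplitTorusWith hT
  let e' : T ≅ Red.DS (Spec (CommRingCat.of k)) (Fin r → ℤ) := (Grp.forget _).mapIso eT
  have he' : IsMonHom e'.hom := eT.hom.hom.isMonHom_hom
  have he'i : IsMonHom e'.inv := inferInstance
  let N := Fin r → ℤ
  have hN : AddGroup.FG N := inferInstance
  let z₀ : Red.DS (Spec (CommRingCat.of k)) N ⟶ G := e'.inv ≫ j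
  have hz₀ : IsMonHom z₀ := inferInstance
  have hz₀m : Mono z₀ := inferInstance
  have hGaff : IsAffineHom G.hom := inferInstance
  have h0 : GrpObj (Over.mk G.hom) := inferInstanceAs (GrpObj G)
  have hirr : GeometricallyIrreducible G.hom :=
    Sga3C.GrpIrr.geometricallyIrreducible_of_connected_fibres G.hom (InterTori.isConnected_fibre G)
  obtain ⟨A, _, _, ⟨e⟩⟩ := AdCentre.exists_specIso G inferInstance
  let _ : GrpObj (DE k A) := GrpObj.ofIso e
  have he : IsMonHom e.hom := by
    refine ⟨?_, ?_⟩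
    · rfl
    · change _ = (e.hom ⊗ₘ e.hom) ≫ (e.inv ⊗ₘ e.inv) ≫ μ[G] ≫ e.hom
      rw [← Category.assoc, MonoidalCategory.tensorHom_comp_tensorHom, e.hom_inv_id]
      simp
  have hei : IsMonHom e.inv := inferInstance
  have hsm : Smooth (DE k A).hom := by
    rw [← Over.w e.inv]
    infer_instance
  have hirr' : GeometricallyIrreducible (DE k A).hom := by
    rw [← Over.w e.inv]
    exact (MorphismProperty.cancel_left_of_respectsIso @GeometricallyIrreducible e.inv.left G.hom).2 inferInstance
  let z : Red.DS (Spec (CommRingCat.of k)) N ⟶ DE k A := z₀ ≫ e.hom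
  have hz : IsMonHom z := inferInstance
  have hzm : Mono z := inferInstance
  -- algebra
  have hfp : Algebra.FiniteType k A := by
    have h2 : LocallyOfFiniteType (Spec.map (CommRingCat.ofHom (algebraMap k A))) :=
      inferInstanceAs (LocallyOfFiniteType (DE k A).hom)
    rw [HasRingHomProperty.Spec_iff (P := @LocallyOfFiniteType)] at h2
    exact (RingHom.finiteType_algebraMap).mp h2
  have hnoeth : IsNoetherianRing A := Algebra.FiniteType.isNoetherianRing k A
  have hdom : IsDomain A := by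
    have hred : IsReduced (DE k A).left := Flat2B.SmoothGeom.isReduced_of_smooth (DE k A).hom
    let s₀ : Spec (CommRingCat.of k) := IsLocalRing.closedPoint k
    have h1 : IsIrreducible ((DE k A).hom ⁻¹' {s₀}) :=
      (DE k A).hom.isIrreducible_preimage (DE k A).hom.isOpenMap isIrreducible_singleton
    have h2 : ((DE k A).hom ⁻¹' {s₀}) = Set.univ :=
      Set.eq_univ_of_forall fun x => Subsingleton.elim (α := PrimeSpectrum k) _ _
    rw [h2] at h1
    have h3 : IrreducibleSpace (DE k A).left := (irreducibleSpace_def _).2 h1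
    have h4 : IsIntegral (DE k A).left := isIntegral_of_irreducibleSpace_of_isReduced _
    exact (affine_isIntegral_iff (CommRingCat.of A)).1 h4
  -- the weights
  let φ : N →+ (Fin r → k) := (Int.castAddHom k).compLeft (Fin r)
  let N' : AddSubgroup N := φ.ker
  let s : Spec (CommRingCat.of k) := IsLocalRing.closedPoint k
  have hwts : K15.CentSplit.wts z s ⊆ N' := by
    rintro n ⟨a, ha, x, hx, hxa⟩
    by_contra hn
    have ha0 : a ≠ 0 := by
      rintro rfl
      rw [map_zero] at hxa
      simp at hxa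
    obtain ⟨m, δ, hm, hδ, hδm, b, hb⟩ := LieWeight.exists_derivation (C := coactC z) (ε := epsA k A)
      (fun n a hn ha => epsA_eq_zero z hn ha) N' hn ha ha0
    obtain ⟨i, hi⟩ : ∃ i, (m i : k) ≠ 0 := by
      by_contra h
      push Not at h
      exact hm (funext h)
    let lam : N →+ k := (Int.castAddHom k).comp (Pi.evalAddMonoidHom (fun _ : Fin r => ℤ) i)
    exact hb (eq_zero_of_nilpotent z e L mo hL lam m hi δ hδ hδm b)
  obtain ⟨V, hsV, hV⟩ := K15.CentSplit.exists_nhd_central z s hN N' hwts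
  have hVall : ∀ X : Over (Spec (CommRingCat.of k)), Set.range X.hom ⊆ (V : Set (Spec (CommRingCat.of k))) := by
    rintro X _ ⟨x, rfl⟩
    have : X.hom x = s := Subsingleton.elim (α := PrimeSpectrum k) _ _
    rw [this]
    exact hsV
  have hk : Mono (Red.DSmap (Spec (CommRingCat.of k)) (QuotientAddGroup.mk' N')) :=
    AdCentre.mono_DSmap _ (QuotientAddGroup.mk'_surjective _)
  have hkm : IsMonHom (Red.DSmap (Spec (CommRingCat.of k)) (QuotientAddGroup.mk' N')) := BorSpan613.isMonHom_DSmap _ _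
  have htriv : Red.IsTrivialGrp (Red.DS (Spec (CommRingCat.of k)) (N ⧸ N')) := by
    refine hZ _ (Red.DSmap (Spec (CommRingCat.of k)) (QuotientAddGroup.mk' N') ≫ z₀)
      (K10.MTLoc.of_split inferInstance ⟨Iso.refl _⟩) fun X x g => ?_
    have h1 := hV X (hVall X) x (g ≫ e.hom)
    rw [cj, mul_inv_eq_iff_eq_mul] at h1
    have h2 := congrArg (· ≫ e.inv) h1
    simp only [MonObj.mul_comp, Category.assoc, z, Iso.hom_inv_id, Category.comp_id] at h2
    exact h2
  have hall : ∀ n : N, n ∈ N' := fun n =>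
    (QuotientAddGroup.eq_zero_iff n).1 (eq_zero_of_isTrivialGrp htriv _)
  have hr : IsEmpty (Fin r) := by
    refine ⟨fun i => ?_⟩
    have h1 : φ (Pi.single i 1) = 0 := hall (Pi.single i 1)
    have h2 := congrFun h1 i
    have h3 : ((Pi.single i 1 : Fin r → ℤ) i : k) = 0 := h2
    rw [Pi.single_eq_same] at h3
    simp at h3
  have hsub : Subsingleton N := inferInstanceAs (Subsingleton (Fin r → ℤ))
  have hsub' : Subsingleton (N ⧸ N') := (QuotientAddGroup.mk'_surjective N').subsingleton
  have hiso : IsIso (Red.DSmap (Spec (CommRingCat.of k)) (QuotientAddGroup.mk' N')) :=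
    K7.DSProp.isIso_DSmap _ _ ⟨Function.injective_of_subsingleton _, QuotientAddGroup.mk'_surjective N'⟩
  have h1 : IsIso (Red.DS (Spec (CommRingCat.of k)) (N ⧸ N')).hom := htriv
  have h2 : IsIso (Red.DS (Spec (CommRingCat.of k)) N).hom := by
    have h3 : IsIso (inv (Red.DSmap (Spec (CommRingCat.of k)) (QuotientAddGroup.mk' N'))).left :=
      inferInstanceAs (IsIso ((Over.forget _).map (inv (Red.DSmap (Spec (CommRingCat.of k)) (QuotientAddGroup.mk' N')))))
    rw [← Over.w (inv (Red.DSmap (Spec (CommRingCat.of k)) (QuotientAddGroup.mk' N')))]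
    exact IsIso.comp_isIso' h3 h1
  change IsIso T.hom
  rw [← Over.w e'.hom]
  infer_instance

end K14.LieTorus
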