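import Groth.Agent.Sga3B.RG.CentralTorus
import Groth.Agent.Sga3B.RG.CentSplit
import Groth.Agent.Sga3B.RG.Trig
import Groth.Agent.Sga3A.ComodBasic
import Groth.Agent.Sga3.H829.RigidGrp
import Mathlib.RingTheory.Bialgebra.MonoidAlgebra

/-!
# Characters of trigonalizable groups and central diagonalisable subgroups

`A` a finitely generated Hopf domain over the algebraically closed field `K` all of whose simple
representations are one-dimensional, `φ : A →ₐc K[M]` a central homomorphism `D(M) → G`.  Every
character of `D(M)` occurring in the image of `φ` extends to a character of `G`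
(`exists_char_of_coeff`). If `φ` is trivial on the characters of `G` it is trivial
(`eq_counit_of_char`).
-/

set_option autoImplicit false

universe u w

open WithConv TensorProduct Coalgebra

namespace K14.CentGL

open Groth.Agent.Sga3B.RG Groth.Agent.Sga3B.RG.K8 Groth.Agent.Sga3B.RG.CentralPt
open Groth.Agent.Sga3A.ComodBasic

variable {K : Type u} [Field K] {A : Type u} [CommRing A] [HopfAlgebra K A] {M : Type} [CommGroup M]

/-- The coefficient of `m`. -/
noncomputable def cf (φ : A →ₐc[K] MonoidAlgebra K M) (m : M) : A →ₗ[K] K where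
  toFun a := (φ a).coeff m
  map_add' a b := by rw [map_add]; rfl
  map_smul' c a := by rw [map_smul]; rfl

lemma cf_apply (φ : A →ₐc[K] MonoidAlgebra K M) (m : M) (a : A) : cf φ m a = (φ a).coeff m := rfl

lemma rTr_eq_T (g : Pt K A) (a : A) : rTr g a = T A g.ofConv.toLinearMap a := by
  rw [rTr, AlgHom.comp_apply, Bialgebra.comulAlgHom_apply, T_apply]
  change _ = TensorProduct.rid K A (LinearMap.lTensor A g.ofConv.toLinearMap (CoalgebraStruct.comul (R := K) a))
  generalize CoalgebraStruct.comul (R := K) (A := A) a = z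
  induction z with
  | zero => simp
  | add x y hx hy => simp only [map_add, AlgHom.comp_apply] at hx hy ⊢; rw [hx, hy]
  | tmul x y => simp

lemma counit_T (f : A →ₗ[K] K) (a : A) : counit (R := K) (T A f a) = f a := by
  rw [T_apply]
  change counit (R := K) (TensorProduct.rid K A (LinearMap.lTensor A f (comul (R := K) a))) = f a
  have h1 : ∀ z : A ⊗[K] A, counit (R := K) (TensorProduct.rid K A (LinearMap.lTensor A f z)) =
      f (TensorProduct.lid K A (LinearMap.rTensor A (counit (R := K)) z)) := by
    intro z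
    induction z with
    | zero => simp
    | add x y hx hy => simp only [map_add, hx, hy]
    | tmul x y => simp [mul_comm]
  rw [h1, Coalgebra.rTensor_counit_comul]
  simp

/-- The coefficient of `m` as a linear form. -/
noncomputable def co (m : M) : MonoidAlgebra K M →ₗ[K] K where
  toFun x := x.coeff m
  map_add' _ _ := rfl
  map_smul' _ _ := rfl

lemma co_apply (m : M) (x : MonoidAlgebra K M) : co m x = x.coeff m := rfl

lemma co_single [DecidableEq M] (m n : M) (r : K) :
    co m (MonoidAlgebra.single n r) = if n = m then r else 0 := by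
  rw [co_apply, MonoidAlgebra.coeff_single, Finsupp.single_apply]

lemma co_conv (m : M) : LinearMap.mul' K K ∘ₗ TensorProduct.map (co m) (co m) ∘ₗ comul (R := K) =
    (co m : MonoidAlgebra K M →ₗ[K] K) := by
  classical
  refine MonoidAlgebra.lhom_ext' fun n => LinearMap.ext fun r => ?_
  change LinearMap.mul' K K (TensorProduct.map (co m) (co m) (comul (R := K) (MonoidAlgebra.single n r))) =
    co m (MonoidAlgebra.single n r)
  rw [MonoidAlgebra.comul_single, CommSemiring.comul_apply, TensorProduct.map_tmul, TensorProduct.map_tmul,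
    LinearMap.mul'_apply]
  change co m (MonoidAlgebra.single n 1) * co m (MonoidAlgebra.single n r) = _
  rw [co_single, co_single]
  split_ifs <;> simp

lemma map_comul (φ : A →ₐc[K] MonoidAlgebra K M) (a : A) :
    TensorProduct.map (φ : A →ₐ[K] MonoidAlgebra K M).toLinearMap (φ : A →ₐ[K] MonoidAlgebra K M).toLinearMap
      (comul (R := K) a) = comul (R := K) (φ a) :=
  CoalgHomClass.map_comp_comul_apply φ a

lemma conv_cf (φ : A →ₐc[K] MonoidAlgebra K M) (m : M) : conv (cf φ m) (cf φ m) = cf φ m := by
  refine LinearMap.ext fun a => ?_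
  have h1 : cf φ m = co m ∘ₗ (φ : A →ₐ[K] MonoidAlgebra K M).toLinearMap := rfl
  have h2 : TensorProduct.map (cf φ m) (cf φ m) (comul (R := K) a) =
      TensorProduct.map (co m) (co m) (comul (R := K) (φ a)) := by
    rw [← map_comul, h1, TensorProduct.map_comp, LinearMap.comp_apply]
  have h3 := LinearMap.congr_fun (co_conv (K := K) m) (φ a)
  rw [LinearMap.comp_apply, LinearMap.comp_apply, ← h2] at h3
  exact h3

/-- The homomorphism `D(M) → G` commutes with the rational points of `G`. -/
def IsCent (φ : A →ₐc[K] MonoidAlgebra K M) : Prop :=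
  ∀ (g : Pt K A) (m : M), conv (cf φ m) g.ofConv.toLinearMap = conv g.ofConv.toLinearMap (cf φ m)

lemma T_groupLike (f : A →ₗ[K] K) {b : A} (hb : IsGroupLikeElem K b) : T A f b = f b • b := by
  rw [T_apply]
  change TensorProduct.rid K A (LinearMap.lTensor A f (comul (R := K) b)) = _
  rw [hb.comul_eq_tmul_self, LinearMap.lTensor_tmul, TensorProduct.rid_tmul]

variable [IsAlgClosed K] [Algebra.FiniteType K A] [IsDomain A]

/-- **Characters of `D(M)` occurring in a central homomorphism to a trigonalizable group extend.** -/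
theorem exists_char_of_coeff (φ : A →ₐc[K] MonoidAlgebra K M) (hφ : IsCent φ)
    (hone : ∀ (V : Type u) [AddCommGroup V] [Module K V] [FiniteDimensional K V]
      (ρ : Representation K (Pt K A) V), IsAlg ρ → IsSimpleRep ρ → Module.finrank K V = 1)
    {a : A} {m : M} (h : (φ a).coeff m ≠ 0) :
    ∃ b : A, IsGroupLikeElem K b ∧ φ b = MonoidAlgebra.of K M m := by
  classical
  obtain ⟨W₀, hW₀, hfin, hs⟩ := CentralPt.exists_finite_stable (K := K) (A := A) {a}
  let f := cf φ m
  let W : Submodule K A := W₀.map (T A f)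
  have hfW : FiniteDimensional K W := inferInstance
  have hst : IsStable (rTrRep K A) W := by
    rintro g _ ⟨w, hw, rfl⟩
    change rTr g (T A f w) ∈ W
    rw [rTr_eq_T, T_T, ← hφ g m, ← T_T, ← rTr_eq_T]
    exact ⟨_, hW₀ g w hw, rfl⟩
  let ρ : Representation K (Pt K A) W := (rTrRep K A).subrepresentation W hst
  have hρ : IsAlg ρ := isAlg_sub K8.isAlg_rTrRep W hst
  have hρv : ∀ g (w : W), ((ρ g w : W) : A) = rTr g (w : A) := fun g w => rfl
  have hne : (⊤ : Submodule K W) ≠ ⊥ := by
    intro htop
    have h1 : (⟨T A f a, ⟨a, hs a (by simp), rfl⟩⟩ : W) ∈ (⊤ : Submodule K W) := trivial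
    rw [htop, Submodule.mem_bot] at h1
    have h2 : T A f a = 0 := congrArg Subtype.val h1
    have h3 := counit_T f a
    rw [h2, map_zero] at h3
    exact h h3.symm
  obtain ⟨v, -, hv0, ψ, hψ⟩ := K8.exists_eigen hρ hone (U := ⊤) (fun g w _ => trivial) hne
  obtain ⟨χ, hχ⟩ := Trig.exists_groupLike hρ hv0 fun g => ⟨ψ g, hψ g⟩
  have hv : (v : A) = counit (R := K) (v : A) • χ.val := by
    apply eq_of_forall_pt (K := K)
    intro g
    have h1 : rTr g (v : A) = (g χ.val) • (v : A) := by
      rw [← hρv, hχ]
      rfl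
    have h2 : counit (R := K) (rTr g (v : A)) = g (v : A) := by
      rw [rTr_eq_T, counit_T]
      rfl
    rw [← h2, h1, map_smul, smul_eq_mul]
    refine Eq.trans ?_ (map_smul g.ofConv _ _).symm
    exact mul_comm _ _
  have hc0 : counit (R := K) (v : A) ≠ 0 := by
    intro h0
    rw [h0, zero_smul] at hv
    exact hv0 (Subtype.ext hv)
  have hTv : T A f (v : A) = v := by
    obtain ⟨w, -, hw⟩ := v.2
    rw [← hw, T_T, conv_cf]
  have hχ0 : χ.val ≠ 0 := χ.2.ne_zero
  have hf1 : f χ.val = 1 := by
    rw [hv, map_smul, T_groupLike f χ.2, smul_smul] at hTv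
    have h1 := smul_left_injective K hχ0 hTv
    exact mul_left_cancel₀ hc0 (h1.trans (mul_one _).symm)
  obtain ⟨n, hn⟩ := MonoidAlgebra.isGroupLikeElem_iff_mem_range_of.1 (χ.2.map φ)
  refine ⟨χ.val, χ.2, ?_⟩
  rw [← hn]
  congr 1
  have h2 : (MonoidAlgebra.of K M n).coeff m = 1 := by
    rw [hn]
    exact hf1
  rw [MonoidAlgebra.of_apply, MonoidAlgebra.coeff_single, Finsupp.single_apply] at h2
  by_contra hnm
  rw [if_neg hnm] at h2
  exact zero_ne_one h2

/-- A central homomorphism `D(M) → G` which is trivial on the characters of the trigonalizable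
group `G` is trivial. -/
theorem eq_counit_of_char (φ : A →ₐc[K] MonoidAlgebra K M) (hφ : IsCent φ)
    (hone : ∀ (V : Type u) [AddCommGroup V] [Module K V] [FiniteDimensional K V]
      (ρ : Representation K (Pt K A) V), IsAlg ρ → IsSimpleRep ρ → Module.finrank K V = 1)
    (hch : ∀ b : A, IsGroupLikeElem K b → φ b = 1) (a : A) : φ a = algebraMap K _ (counit (R := K) a) := by
  classical
  have h1 : ∀ m : M, m ≠ 1 → (φ a).coeff m = 0 := by
    intro m hm
    by_contra h
    obtain ⟨b, hb, hb'⟩ := exists_char_of_coeff φ hφ hone h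
    rw [hch b hb] at hb'
    exact hm (MonoidAlgebra.of_injective ((map_one (MonoidAlgebra.of K M)).trans hb')).symm
  have h2 : φ a = MonoidAlgebra.single 1 ((φ a).coeff 1) := by
    apply MonoidAlgebra.coeff_injective
    ext m
    rw [MonoidAlgebra.coeff_single, Finsupp.single_apply]
    split_ifs with h
    · rw [h]
    · exact h1 m fun h' => h h'.symm
  have h3 : counit (R := K) (φ a) = counit (R := K) a := CoalgHomClass.counit_comp_apply φ a
  rw [h2, MonoidAlgebra.counit_single] at h3
  rw [h2, ← h3]
  rfl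

lemma algHom_ext_of {G : Type*} [Group G] {B : Type*} [CommRing B] [Algebra K B]
    {f g : MonoidAlgebra K G →ₐ[K] B} (h : ∀ m, f (MonoidAlgebra.of K G m) = g (MonoidAlgebra.of K G m)) :
    f = g :=
  MonoidAlgebra.algHom_ext (fun m => h m) (by
    refine AlgHom.ext fun x => ?_
    have e : x = algebraMap K K x := rfl
    rw [e, AlgHom.commutes, AlgHom.commutes])

section torus

variable {n : ℕ} (π : A →ₐc[K] MonoidAlgebra K (Multiplicative (Fin n → ℤ)))

/-- A character of a group with central maximal torus is determined by its restriction to the torus. -/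
theorem eq_of_map_eq (hT : IsMaxTorusSub (Pt.map π).range)
    (hc : (Pt.map π).range ≤ Subgroup.center (Pt K A)) {b b' : A} (hb : IsGroupLikeElem K b)
    (hb' : IsGroupLikeElem K b') (h : π b = π b') : b = b' := by
  have key : ∀ b : A, IsGroupLikeElem K b → ∀ u : Pt K A, IsUnip u → u b = 1 := by
    intro b hb u hu
    refine char_eq_one_of_isUnip (fun g h => Trig.groupLike_mul ⟨b, hb⟩ g h) ?_ hu
    rw [Pt.one_apply, hb.counit_eq_one]
  apply eq_of_forall_pt (K := K)
  intro g
  obtain ⟨_, ⟨t, rfl⟩, u, hu, rfl⟩ := CentralTorus.exists_mul_unip hT hc g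
  rw [Trig.groupLike_mul ⟨b, hb⟩, Trig.groupLike_mul ⟨b', hb'⟩]
  change (Pt.map π t) b * u b = (Pt.map π t) b' * u b'
  rw [key b hb u hu, key b' hb' u hu, Pt.map_apply, Pt.map_apply, h]

/-- Every character of the central maximal torus extends. -/
theorem exists_groupLike_map (hπ : Function.Surjective π) (hT : IsMaxTorusSub (Pt.map π).range)
    (hc : (Pt.map π).range ≤ Subgroup.center (Pt K A)) (m : Multiplicative (Fin n → ℤ)) :
    ∃ b : GroupLike K A, π b.val = MonoidAlgebra.of K _ m := by
  obtain ⟨b, h1, h2, h3⟩ := K8.exists_char π hπ hc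
    (fun V _ _ _ ρ hρ hs => CentralTorus.finrank_eq_one hT hc hρ hs) m
  refine ⟨⟨b, Trig.isGroupLike_of_mul h2 h1⟩, ?_⟩
  apply TorusGen.eq_of_torPt (torChar_injective (K := K) n)
  intro t
  rw [MonoidAlgebra.of_apply, torPt_single, one_mul]
  exact h3 t

/-- **The retraction of a group onto its central maximal torus.** -/
theorem exists_retraction (hπ : Function.Surjective π) (hT : IsMaxTorusSub (Pt.map π).range)
    (hc : (Pt.map π).range ≤ Subgroup.center (Pt K A)) :
    ∃ ρ : MonoidAlgebra K (Multiplicative (Fin n → ℤ)) →ₐc[K] A, (∀ x, π (ρ x) = x) ∧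
      ∀ b : A, IsGroupLikeElem K b → ρ (π b) = b := by
  choose β hβ using exists_groupLike_map π hπ hT hc
  have hinj : ∀ b b' : GroupLike K A, π b.val = π b'.val → b = b' :=
    fun b b' h => GroupLike.ext (eq_of_map_eq π hT hc b.2 b'.2 h)
  let β' : Multiplicative (Fin n → ℤ) →* GroupLike K A :=
    { toFun := β
      map_one' := hinj _ _ (by rw [hβ, map_one]; exact (map_one π).symm)
      map_mul' := fun x y => hinj _ _ (by
        have : (β x * β y).val = (β x).val * (β y).val := rfl
        rw [this, map_mul, hβ, hβ, hβ, map_mul]) }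
  let L : MonoidAlgebra K (Multiplicative (Fin n → ℤ)) →ₐ[K] A :=
    MonoidAlgebra.lift K A _
      { toFun := fun m => (β' m).val
        map_one' := by rw [map_one]; rfl
        map_mul' := fun x y => by rw [map_mul]; rfl }
  have hL : ∀ m, L (MonoidAlgebra.of K _ m) = (β m).val := fun m => MonoidAlgebra.lift_of _ _
  let ρ : MonoidAlgebra K (Multiplicative (Fin n → ℤ)) →ₐc[K] A :=
    .ofAlgHom L (by
      refine algHom_ext_of fun m => ?_
      change counit (R := K) (L (MonoidAlgebra.of K _ m)) = counit (R := K) (MonoidAlgebra.of K _ m)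
      rw [hL, (β m).2.counit_eq_one, MonoidAlgebra.of_apply, MonoidAlgebra.counit_single]
      rfl) (by
      refine algHom_ext_of fun m => ?_
      change TensorProduct.map L.toLinearMap L.toLinearMap (comul (R := K) (MonoidAlgebra.of K _ m)) =
        comul (R := K) (L (MonoidAlgebra.of K _ m))
      rw [hL, (β m).2.comul_eq_tmul_self, (MonoidAlgebra.isGroupLikeElem_of m).comul_eq_tmul_self,
        TensorProduct.map_tmul]
      change L _ ⊗ₜ[K] L _ = _
      rw [hL])
  have hρ : ∀ m, ρ (MonoidAlgebra.of K _ m) = (β m).val := hL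
  refine ⟨ρ, fun x => ?_, fun b hb => ?_⟩
  · have h1 : (π : A →ₐ[K] MonoidAlgebra K (Multiplicative (Fin n → ℤ))).comp
        (ρ : MonoidAlgebra K (Multiplicative (Fin n → ℤ)) →ₐ[K] A) = AlgHom.id K _ := by
      refine algHom_ext_of fun m => ?_
      change π (ρ (MonoidAlgebra.of K _ m)) = MonoidAlgebra.of K _ m
      rw [hρ, hβ]
    exact DFunLike.congr_fun h1 x
  · obtain ⟨m, hm⟩ := MonoidAlgebra.isGroupLikeElem_iff_mem_range_of.1 (hb.map π)
    refine eq_of_map_eq π hT hc ?_ hb ?_
    · rw [← hm, hρ]
      exact (β m).2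
    · rw [← hm, hρ, hβ]

end torus

end K14.CentGL
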