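import Groth.Prelude.Def_Red
import Groth.Agent.SGA3.K203.FibHom

/-!
# Étaleness at a point of a morphism of flat `S`-schemes is tested on a field valued fibre

* `near_etale_of_fib_pt`: étaleness at a point of the fibre over `s`;
* `near_etale_of_field`: étaleness at a point of the fibre over any field valued point `Spec K ⟶ S`.
-/

set_option autoImplicit false
universe u
open CategoryTheory MonoidalCategory CartesianMonoidalCategory MonObj GrpObj AlgebraicGeometry Limits

namespace K14.EtFib

open K203.Loc K203.BC K203.FibHom Groth.Agent.Sga3C Groth.Agent.Sga3C.FlatPt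

variable {S : Scheme.{u}} {G H : Over S}

lemma isPullback_map {S' : Scheme.{u}} (b : S' ⟶ S) (u : G ⟶ H) :
    IsPullback (pullback.fst G.hom b) ((Over.pullback b).map u).left u.left (pullback.fst H.hom b) :=
  (ActBase.isPullback_map_left b u).flip

variable (u : G ⟶ H) [Flat G.hom] [LocallyOfFinitePresentation G.hom] [LocallyOfFiniteType H.hom]

lemma flatAt_of_fib_pt {s : S} (x : G.left) (hx : G.hom x = s)
    (x' : ((Over.pullback (S.fromSpecResidueField s)).obj G).left)
    (hx' : pullback.fst G.hom (S.fromSpecResidueField s) x' = x) (h : IsFlatAt (fib u s) x') :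
    IsFlatAt u.left x := by
  have h0 : LocallyOfFinitePresentation (u.left ≫ H.hom) := by rw [Over.w]; infer_instance
  have h1 := ((Groth.Agent.S1386.result u.left H.hom).1 x).mp
  have hs : H.hom (u.left x) = s := by rw [← Scheme.Hom.comp_apply, Over.w]; exact hx
  subst hs
  rw [isFlatAt_iff_stalkMap]
  refine (h1 ⟨?_, ?_⟩).2
  · rw [← isFlatAt_iff_stalkMap, Over.w]
    exact isFlatAt_of_flat _ _
  · refine (isFlatAt_iff_stalkMap _ _).mp ?_
    let e := (isPullback_fiberMap u (H.hom (u.left x))).isoIsPullback _ _ (isPullback_fib u (H.hom (u.left x)))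
    have he : e.hom ≫ fib u (H.hom (u.left x)) = MoreMor.fiberMap u.left H.hom (H.hom (u.left x)) :=
      IsPullback.isoIsPullback_hom_snd _ _ _ _
    have he1 : e.hom ≫ pullback.fst G.hom (S.fromSpecResidueField _) =
        (u.left ≫ H.hom).fiberι (H.hom (u.left x)) :=
      IsPullback.isoIsPullback_hom_fst _ _ _ _
    have hpt : e.hom ((u.left ≫ H.hom).asFiber x) = x' := by
      have hinj : Function.Injective (pullback.fst G.hom (S.fromSpecResidueField (H.hom (u.left x)))) :=
        (pullback.fst G.hom (S.fromSpecResidueField (H.hom (u.left x)))).injective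
      apply hinj
      rw [hx', ← Scheme.Hom.comp_apply, he1]
      exact (u.left ≫ H.hom).fiberι_asFiber x
    rw [← he]
    refine (isFlatAt_of_flat e.hom _).comp ?_
    rw [hpt]
    exact h

theorem near_etale_of_fib_pt {s : S} (x : G.left) (hx : G.hom x = s)
    (x' : ((Over.pullback (S.fromSpecResidueField s)).obj G).left)
    (hx' : pullback.fst G.hom (S.fromSpecResidueField s) x' = x) (h : Near @Etale (fib u s) x') :
    Near @Etale u.left x := by
  have h0 : LocallyOfFinitePresentation u.left := lfp_left u
  have h0' : LocallyOfFinitePresentation (fib u s) :=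
    MorphismProperty.of_isPullback (isPullback_fib u s) h0
  obtain ⟨W, hW, hE⟩ := h
  have hfl : IsFlatAt (fib u s) x' := flatAt_of_near_flat ⟨W, hW, inferInstance⟩
  have hun : Near @FormallyUnramified (fib u s) x' := ⟨W, hW, inferInstance⟩
  have h1 : Near @Flat u.left x := (near_flat_iff u x).2 (flatAt_of_fib_pt u x hx x' hx' hfl)
  have h2 : Near @FormallyUnramified u.left x := by
    rw [← hx']
    exact (unramified_iff (isPullback_fib u s) x').1 hun
  obtain ⟨U, hxU, hU⟩ := h1
  obtain ⟨V, hxV, hV⟩ := h2
  refine ⟨U ⊓ V, ⟨hxU, hxV⟩, ?_⟩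
  have h3 : Flat ((U ⊓ V).ι ≫ u.left) := restrict inf_le_left hU
  have h4 : FormallyUnramified ((U ⊓ V).ι ≫ u.left) := restrict inf_le_right hV
  rw [Etale.iff_flat_and_formallyUnramified]
  exact ⟨h3, h4, inferInstance⟩

lemma flat_of_field {k Ω : Type u} [Field k] [Field Ω]
    (b : Spec (CommRingCat.of Ω) ⟶ Spec (CommRingCat.of k)) : Flat b := by
  obtain ⟨ψ, rfl⟩ := Spec.map_surjective b
  rw [Flat.SpecMap_iff]
  algebraize [ψ.hom]
  change Module.Flat k Ω
  infer_instance

/-- The comparison `G_K ⟶ G_s`. -/
noncomputable def cmp {T S' : Scheme.{u}} (c : T ⟶ S') (g : S' ⟶ S) (X : Over S) :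
    pullback X.hom (c ≫ g) ⟶ pullback X.hom g :=
  pullback.lift (pullback.fst _ _) (pullback.snd _ _ ≫ c) (by
    rw [pullback.condition, Category.assoc])

lemma cmp_fst {T S' : Scheme.{u}} (c : T ⟶ S') (g : S' ⟶ S) (X : Over S) :
    cmp c g X ≫ pullback.fst X.hom g = pullback.fst X.hom (c ≫ g) := pullback.lift_fst _ _ _

lemma cmp_snd {T S' : Scheme.{u}} (c : T ⟶ S') (g : S' ⟶ S) (X : Over S) :
    cmp c g X ≫ pullback.snd X.hom g = pullback.snd X.hom (c ≫ g) ≫ c := pullback.lift_snd _ _ _

lemma isPullback_cmp {T S' : Scheme.{u}} (c : T ⟶ S') (g : S' ⟶ S) (X : Over S) :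
    IsPullback (cmp c g X) (pullback.snd X.hom (c ≫ g)) (pullback.snd X.hom g) c := by
  refine IsPullback.of_right (h₁₂ := pullback.fst X.hom g) (h₂₂ := g) (v₁₃ := X.hom) ?_ (cmp_snd c g X)
    (IsPullback.of_hasPullback _ _)
  rw [cmp_fst]
  exact IsPullback.of_hasPullback _ _

omit [Flat G.hom] [LocallyOfFinitePresentation G.hom] [LocallyOfFiniteType H.hom] in
lemma isPullback_cmp_map {T S' : Scheme.{u}} (c : T ⟶ S') (g : S' ⟶ S) :
    IsPullback (cmp c g G) ((Over.pullback (c ≫ g)).map u).left ((Over.pullback g).map u).left (cmp c g H) := by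
  have h1 := isPullback_map g u
  have h2 := isPullback_map (c ≫ g) u
  refine IsPullback.of_right (h₁₂ := pullback.fst G.hom g) (h₂₂ := pullback.fst H.hom g) (v₁₃ := u.left) ?_ ?_ h1
  · rw [cmp_fst, cmp_fst]
    exact h2
  · apply pullback.hom_ext
    · rw [Category.assoc, Category.assoc, cmp_fst]
      have e1 := h1.w
      have e2 := h2.w
      refine (congrArg (cmp c g G ≫ ·) e1.symm).trans ?_
      rw [← Category.assoc, cmp_fst]
      exact e2
    · rw [Category.assoc, Category.assoc, cmp_snd]
      have e1 : ((Over.pullback g).map u).left ≫ pullback.snd H.hom g = pullback.snd G.hom g :=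
        Over.w ((Over.pullback g).map u)
      have e2 : ((Over.pullback (c ≫ g)).map u).left ≫ pullback.snd H.hom (c ≫ g) =
          pullback.snd G.hom (c ≫ g) :=
        Over.w ((Over.pullback (c ≫ g)).map u)
      refine (congrArg (cmp c g G ≫ ·) e1).trans ?_
      rw [cmp_snd, ← Category.assoc, e2]

/-- Étaleness at a point can be tested on the fibre over a field valued point of the base. -/
theorem near_etale_of_field {K : Type u} [Field K] (b : Spec (CommRingCat.of K) ⟶ S)
    (x : (Red.bc b G).left) (h : Near @Etale ((Over.pullback b).map u).left x) :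
    Near @Etale u.left (pullback.fst G.hom b x) := by
  have h0 : LocallyOfFinitePresentation u.left := lfp_left u
  let s : S := b (IsLocalRing.closedPoint K)
  obtain ⟨c, hc⟩ : ∃ c : Spec (CommRingCat.of K) ⟶ Spec (S.residueField s), c ≫ S.fromSpecResidueField s = b :=
    ⟨_, Scheme.descResidueField_stalkClosedPointTo_fromSpecResidueField K S b⟩
  have hs : ∀ y : (Red.bc b G).left, G.hom (pullback.fst G.hom b y) = s := by
    intro y
    rw [← Scheme.Hom.comp_apply, pullback.condition, Scheme.Hom.comp_apply]
    exact congrArg _ (Subsingleton.elim (α := PrimeSpectrum K) _ _)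
  clear_value s
  subst hc
  have hcf : Flat c := flat_of_field (k := S.residueField s) c
  have hpb := isPullback_cmp_map u c (S.fromSpecResidueField s)
  have hlfp : LocallyOfFinitePresentation ((Over.pullback (S.fromSpecResidueField s)).map u).left :=
    MorphismProperty.of_isPullback (isPullback_fib u s) h0
  have hfl : Flat (cmp c (S.fromSpecResidueField s) H) :=
    MorphismProperty.of_isPullback (isPullback_cmp c (S.fromSpecResidueField s) H).flip hcf
  have h2 := (etale_iff hpb x (isFlatAt_of_flat _ _)).1 h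
  refine near_etale_of_fib_pt u _ (hs x) (cmp c (S.fromSpecResidueField s) G x) ?_ h2
  rw [← Scheme.Hom.comp_apply, cmp_fst]

end K14.EtFib
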