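import Groth.Agent.Sga3B.AdGrad
import Mathlib.RingTheory.Filtration
import Mathlib.LinearAlgebra.Dual.Lemmas

/-!
# Weights on a graded algebra and weights of its cotangent space at a fixed point

`A` a graded noetherian domain over a field `k` with an augmentation `ε` trivial on the homogeneous elements of
nonzero degree. If every homogeneous `ε`-derivation `A → k` has degree in the subgroup `N'` then `A` is concentrated
in degrees in `N'` (`exists_derivation`).
-/

set_option autoImplicit false
universe u

namespace K14.LieWeight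

open Groth.Agent.Sga3B.AdGrad

variable {k A : Type u} [Field k] [CommRing A] [Algebra k A] {N : Type} [AddCommGroup N] (C : Coact k A N)
  (ε : A →ₐ[k] k)

lemma comp_add (m : N) (a b : A) : C.comp m (a + b) = C.comp m a + C.comp m b := map_add (C.compL m) a b

lemma comp_sum {ι : Type*} (s : Finset ι) (m : N) (f : ι → A) : C.comp m (∑ i ∈ s, f i) = ∑ i ∈ s, C.comp m (f i) :=
  map_sum (C.compL m) f s

lemma comp_smul (m : N) (c : k) (a : A) : C.comp m (c • a) = c • C.comp m a := by
  rw [Algebra.smul_def, Algebra.smul_def]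
  exact C.comp_mul_of_mem_A0 m a (C.isHom_algebraMap c)

lemma comp_mul (m : N) (a b : A) : C.comp m (a * b) = ∑ e ∈ C.degs b, C.comp (m - e) a * C.comp e b := by
  conv_lhs => rw [← C.sum_comp b (C.degs b) subset_rfl, Finset.mul_sum, comp_sum]
  exact Finset.sum_congr rfl fun e _ => C.comp_mul_of_isHom m a (C.isHom_comp e b)

variable {C ε} (hε : ∀ (n : N) (a : A), n ≠ 0 → C.IsHom n a → ε a = 0)

include hε in
/-- The augmentation ideal is graded. -/
lemma comp_mem_ker (m : N) {a : A} (ha : ε a = 0) : ε (C.comp m a) = 0 := by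
  classical
  by_cases hm : m = 0
  · subst hm
    have h1 := C.sum_comp a (insert 0 (C.degs a)) (Finset.subset_insert _ _)
    rw [← h1, map_sum, Finset.sum_eq_single (0 : N)] at ha
    · exact ha
    · intro b _ hb
      exact hε b _ hb (C.isHom_comp b a)
    · intro h
      exact absurd (Finset.mem_insert_self _ _) h
  · exact hε m _ hm (C.isHom_comp m a)

include hε in
/-- The step: homogeneous elements of degree outside `N'` lie deeper and deeper. -/
theorem step (N' : AddSubgroup N) (h2 : ∀ (m : N) (a : A), m ∉ N' → C.IsHom m a → a ∈ (RingHom.ker ε) ^ 2) (j : ℕ)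
    (hj : ∀ (m : N) (a : A), m ∉ N' → C.IsHom m a → a ∈ (RingHom.ker ε) ^ j) (m : N) (a : A) (hm : m ∉ N')
    (ha : C.IsHom m a) : a ∈ (RingHom.ker ε) ^ (j + 1) := by
  have key : ∀ x ∈ (RingHom.ker ε) * (RingHom.ker ε), C.comp m x ∈ (RingHom.ker ε) ^ (j + 1) := by
    intro x hx
    induction hx using Submodule.mul_induction_on' with
    | mem_mul_mem b hb c hc =>
      rw [comp_mul]
      refine Ideal.sum_mem _ fun e _ => ?_
      by_cases he : e ∈ N'
      · have hme : m - e ∉ N' := fun h => hm (by
          have := N'.add_mem h he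
          rwa [sub_add_cancel] at this)
        rw [pow_succ]
        exact Ideal.mul_mem_mul (hj _ _ hme (C.isHom_comp _ _)) (comp_mem_ker hε e hc)
      · rw [pow_succ']
        exact Ideal.mul_mem_mul (comp_mem_ker hε _ hb) (hj _ _ he (C.isHom_comp _ _))
    | add x _ y _ hx hy =>
      rw [comp_add]
      exact Ideal.add_mem _ hx hy
  have h3 := h2 m a hm ha
  rw [pow_two] at h3
  have h4 := key a h3
  rwa [C.comp_of_isHom ha] at h4

include hε in
/-- **Existence of homogeneous derivations.** -/
theorem exists_derivation [IsNoetherianRing A] [IsDomain A] (N' : AddSubgroup N) {n : N} (hn : n ∉ N') {a : A}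
    (ha : C.IsHom n a) (ha0 : a ≠ 0) :
    ∃ (m : N) (δ : A →ₗ[k] k), m ∉ N' ∧ (∀ x y, δ (x * y) = ε x * δ y + δ x * ε y) ∧
      (∀ (e : N) (b : A), e ≠ m → C.IsHom e b → δ b = 0) ∧ ∃ b, δ b ≠ 0 := by
  by_cases h2 : ∀ (m : N) (a : A), m ∉ N' → C.IsHom m a → a ∈ (RingHom.ker ε) ^ 2
  · exfalso
    have hall : ∀ (j : ℕ) (m : N) (a : A), m ∉ N' → C.IsHom m a → a ∈ (RingHom.ker ε) ^ j := by
      intro j
      induction j with
      | zero => intro m a _ _; rw [pow_zero, Ideal.one_eq_top]; trivial
      | succ j ih => exact fun m a hm ha => step hε N' h2 j ih m a hm ha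
    have hne : RingHom.ker ε ≠ ⊤ := RingHom.ker_ne_top _
    have h3 := Ideal.iInf_pow_eq_bot_of_isDomain (RingHom.ker ε) hne
    have h4 : a ∈ (⨅ i : ℕ, (RingHom.ker ε) ^ i) := by
      rw [Ideal.mem_iInf]
      exact fun j => hall j n a hn ha
    rw [h3] at h4
    exact ha0 h4
  · push Not at h2
    obtain ⟨m, a', hm, ha', hna⟩ := h2
    have hm0 : m ≠ 0 := fun h => hm (h ▸ N'.zero_mem)
    let I2 : Submodule k A := ((RingHom.ker ε) ^ 2).restrictScalars k
    let cm : A →ₗ[k] A :=
      { toFun := C.comp m
        map_add' := comp_add C m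
        map_smul' := fun c x => comp_smul C m c x }
    let q : A →ₗ[k] A ⧸ I2 := I2.mkQ ∘ₗ cm
    have hq : q a' ≠ 0 := by
      intro h
      have h3 : C.comp m a' ∈ I2 := (Submodule.Quotient.mk_eq_zero I2).1 h
      rw [C.comp_of_isHom ha'] at h3
      exact hna h3
    obtain ⟨η, hη⟩ : ∃ η : Module.Dual k (A ⧸ I2), η (q a') ≠ 0 := by
      by_contra h
      push Not at h
      exact hq ((Module.forall_dual_apply_eq_zero_iff k (q a')).1 h)
    have hq0 : ∀ x, C.comp m x ∈ (RingHom.ker ε) ^ 2 → η (q x) = 0 := by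
      intro x hx
      have : q x = 0 := (Submodule.Quotient.mk_eq_zero I2).2 hx
      rw [this, map_zero]
    have hhom : ∀ (e : N) (b : A), e ≠ m → C.IsHom e b → η (q b) = 0 := by
      intro e b he hb
      apply hq0
      rw [C.comp_of_isHom_of_ne hb he]
      exact Ideal.zero_mem _
    have hprod : ∀ x y : A, ε x = 0 → ε y = 0 → η (q (x * y)) = 0 := by
      intro x y hx hy
      apply hq0
      rw [comp_mul, pow_two]
      exact Ideal.sum_mem _ fun e _ => Ideal.mul_mem_mul (comp_mem_ker hε _ hx) (comp_mem_ker hε _ hy)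
    refine ⟨m, η ∘ₗ q, hm, fun x y => ?_, hhom, a', hη⟩
    have h1 : η (q 1) = 0 := hhom 0 1 hm0.symm (by
      have := C.isHom_algebraMap (1 : k)
      rwa [map_one] at this)
    have e1 : x * y = (x - algebraMap k A (ε x)) * (y - algebraMap k A (ε y)) + ε x • y + ε y • x -
        (ε x * ε y) • (1 : A) := by
      simp only [Algebra.smul_def, map_mul]
      ring
    have e2 : η (q ((x - algebraMap k A (ε x)) * (y - algebraMap k A (ε y)))) = 0 := by
      apply hprod
      · rw [map_sub, AlgHom.commutes]; exact sub_self _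
      · rw [map_sub, AlgHom.commutes]; exact sub_self _
    simp only [LinearMap.comp_apply] at e2 h1 ⊢
    rw [e1, map_sub, map_add, map_add, map_sub, map_add, map_add, e2, map_smul, map_smul, map_smul, map_smul,
      map_smul, map_smul, h1]
    simp only [smul_eq_mul, mul_zero, sub_zero, zero_add]
    ring

end K14.LieWeight
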