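import Groth.Agent.SGA3x.K14.HomGa
import Groth.Agent.Sga3B.BcPts
import Groth.Agent.Sga3.H793.UnipPart
import Groth.Agent.Sga3B.BcIso

/-!
# Homomorphisms from a group of multiplicative type to a unipotent group are trivial, over any base
-/

set_option autoImplicit false
universe u
open CategoryTheory MonoidalCategory CartesianMonoidalCategory MonObj GrpObj AlgebraicGeometry Limits
open TensorProduct

namespace K14.MultUnip

open Groth.Agent.Sga3B Groth.Agent.Books.AffBridge DSAff AffPts
open Groth.Agent.Sga3A.ComodUnip Groth.Agent.Sga3A.ComodBasic Groth.Agent.Sga3.H793.UnipPart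
open WithConv

section algebra

variable {k R A : Type u} [Field k] [CommRing R] [Algebra k R] [CommRing A] [HopfAlgebra k A]
  {M : Type} [AddCommGroup M]

/-- A family of points `A →ₐ[k] R[M]` which is multiplicative on characters kills the augmentation ideal
of the unipotent part. -/
theorem eq_counit_of_mem_soc (φ : A →ₐ[k] MonoidAlgebra R (Multiplicative M))
    (h : ∀ (C : Type u) [CommRing C] [Algebra R C] [Algebra k C] [IsScalarTower k R C]
      (χ ψ : Multiplicative M →* C),
      toConv (((chAlg (R := R) (χ * ψ)).restrictScalars k).comp φ) =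
        toConv (((chAlg (R := R) χ).restrictScalars k).comp φ) *
          toConv (((chAlg (R := R) ψ).restrictScalars k).comp φ))
    (n : ℕ) (a : A) (ha : a ∈ soc k A A n) : φ a = algebraMap k _ (Coalgebra.counit (R := k) a) := by
  induction n generalizing a with
  | zero => rw [mem_soc_zero] at ha; rw [ha, map_zero, map_zero, map_zero]
  | succ n ih =>
    rw [← sub_eq_zero]
    apply HomGa.eq_zero_of_additive
    intro C _ _ χ ψ
    let _ : Algebra k C := Algebra.compHom C (algebraMap k R)
    have : IsScalarTower k R C := IsScalarTower.of_algebraMap_eq fun _ => rfl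
    have h1 := congrArg (fun z : WithConv (A →ₐ[k] C) => z.ofConv a) (h C χ ψ)
    let fχ : A →ₐ[k] C := ((chAlg (R := R) χ).restrictScalars k).comp φ
    let fψ : A →ₐ[k] C := ((chAlg (R := R) ψ).restrictScalars k).comp φ
    let L : A ⊗[k] A →ₗ[k] C := LinearMap.mul' k C ∘ₗ TensorProduct.map fχ.toLinearMap fψ.toLinearMap
    have h2 : chAlg (R := R) (χ * ψ) (φ a) = L (Coalgebra.comul (R := k) a) := h1
    obtain ⟨z, hz⟩ := (mem_soc_succ_iff n a).mp ha
    -- the counit on the first factor
    let L' : A ⊗[k] A →ₗ[k] C := LinearMap.mul' k C ∘ₗ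
      TensorProduct.map ((Algebra.linearMap k C) ∘ₗ Coalgebra.counit (R := k) (A := A)) fψ.toLinearMap
    have h3 : ∀ z : (soc k A A n) ⊗[k] A, L ((soc k A A n).subtype.rTensor A z) =
        L' ((soc k A A n).subtype.rTensor A z) := by
      intro z
      induction z with
      | zero => simp
      | add x y hx hy => rw [map_add, map_add, map_add, hx, hy]
      | tmul x y =>
        have hx := ih x.1 x.2
        have hx' : fχ x.1 = algebraMap k C (Coalgebra.counit (R := k) x.1) := by
          change chAlg (R := R) χ (φ x.1) = _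
          rw [hx]
          exact ((chAlg (R := R) χ).restrictScalars k).commutes _
        simp only [L, L', LinearMap.rTensor_tmul, Submodule.subtype_apply, LinearMap.comp_apply,
          TensorProduct.map_tmul, LinearMap.mul'_apply, AlgHom.toLinearMap_apply, Algebra.linearMap_apply]
        rw [hx']
    have h4 : L (Coalgebra.comul (R := k) a) = fχ a + L' (Coalgebra.comul (R := k) a - a ⊗ₜ[k] (1 : A)) := by
      rw [← hz, ← h3 z, hz, map_sub]
      have : L (a ⊗ₜ[k] (1 : A)) = fχ a := by
        simp [L]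
      rw [this]
      ring
    have h5 : L' (Coalgebra.comul (R := k) a) = fψ a := by
      have h6 : L' = fψ.toLinearMap ∘ₗ (TensorProduct.lid k A).toLinearMap ∘ₗ
          ((Coalgebra.counit (R := k) (A := A)).rTensor A) := by
        refine TensorProduct.ext' fun x y => ?_
        simp [L', Algebra.smul_def]
      rw [h6]
      simp [Coalgebra.rTensor_counit_comul]
    have h6 : L' (a ⊗ₜ[k] (1 : A)) = algebraMap k C (Coalgebra.counit (R := k) a) := by
      simp [L']
    rw [map_sub, h5, h6] at h4
    have e1 : chAlg (R := R) (χ * ψ) (algebraMap k _ (Coalgebra.counit (R := k) a)) =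
        algebraMap k C (Coalgebra.counit (R := k) a) := ((chAlg (R := R) (χ * ψ)).restrictScalars k).commutes _
    have e2 : chAlg (R := R) χ (algebraMap k _ (Coalgebra.counit (R := k) a)) =
        algebraMap k C (Coalgebra.counit (R := k) a) := ((chAlg (R := R) χ).restrictScalars k).commutes _
    have e3 : chAlg (R := R) ψ (algebraMap k _ (Coalgebra.counit (R := k) a)) =
        algebraMap k C (Coalgebra.counit (R := k) a) := ((chAlg (R := R) ψ).restrictScalars k).commutes _
    rw [map_sub, map_sub, map_sub, h2, h4, e1, e2, e3]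
    change fχ a + (fψ a - _) - _ = fχ a - _ + (fψ a - _)
    ring

end algebra

section affine

variable (k R : Type u) [Field k] [CommRing R] [Algebra k R]

/-- The structure morphism `Spec R ⟶ Spec k`. -/
noncomputable abbrev sp : Spec (CommRingCat.of R) ⟶ Spec (CommRingCat.of k) :=
  Spec.map (CommRingCat.ofHom (algebraMap k R))

variable {R}

/-- An `R`-algebra as a `k`-scheme. -/
noncomputable def strIso (C : Type u) [CommRing C] [Algebra R C] [Algebra k C] [IsScalarTower k R C] :
    (Over.map (sp k R)).obj (SpecOver R C) ≅ SpecOver k C :=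
  Over.isoMk (Iso.refl _) (by
    change 𝟙 _ ≫ Spec.map (CommRingCat.ofHom (algebraMap k C)) =
      Spec.map (CommRingCat.ofHom (algebraMap R C)) ≫ Spec.map (CommRingCat.ofHom (algebraMap k R))
    rw [Category.id_comp, ← Spec.map_comp, ← CommRingCat.ofHom_comp, ← IsScalarTower.algebraMap_eq])

variable {k}

lemma strIso_naturality {C D : Type u} [CommRing C] [Algebra R C] [Algebra k C] [IsScalarTower k R C]
    [CommRing D] [Algebra R D] [Algebra k D] [IsScalarTower k R D] (f : C →ₐ[R] D) :
    (strIso k D).inv ≫ (Over.map (sp k R)).map (specMap R f) = specMap k (f.restrictScalars k) ≫ (strIso k C).inv := by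
  ext1
  change 𝟙 _ ≫ Spec.map _ = Spec.map _ ≫ 𝟙 _
  rw [Category.id_comp, Category.comp_id]
  rfl

/-- A point of a base change with values in an affine scheme. -/
noncomputable def ev {Z : Over (Spec (CommRingCat.of k))} [GrpObj Z] {C : Type u} [CommRing C] [Algebra R C]
    [Algebra k C] [IsScalarTower k R C] (x : SpecOver R C ⟶ Red.bc (sp k R) Z) : SpecOver k C ⟶ Z :=
  (strIso k C).inv ≫ (BcPts.bcEquiv (sp k R) _ Z).symm x

lemma ev_mul {Z : Over (Spec (CommRingCat.of k))} [GrpObj Z] {C : Type u} [CommRing C] [Algebra R C]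
    [Algebra k C] [IsScalarTower k R C] (x y : SpecOver R C ⟶ Red.bc (sp k R) Z) :
    ev (x * y) = ev x * ev y := by
  have h := (BcPts.bcMulEquiv (sp k R) (SpecOver R C) Z).symm.map_mul x y
  rw [ev, ev, ev, ← MonObj.comp_mul]
  exact congrArg (fun t => (strIso k C).inv ≫ t) h

lemma ev_comp {Z : Over (Spec (CommRingCat.of k))} [GrpObj Z] {C D : Type u} [CommRing C] [Algebra R C]
    [Algebra k C] [IsScalarTower k R C] [CommRing D] [Algebra R D] [Algebra k D] [IsScalarTower k R D]
    (f : C →ₐ[R] D) (x : SpecOver R C ⟶ Red.bc (sp k R) Z) :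
    ev (specMap R f ≫ x) = specMap k (f.restrictScalars k) ≫ ev x := by
  rw [ev, ev, BcPts.comp_bcEquiv_symm, ← Category.assoc, ← Category.assoc, strIso_naturality]

variable {A : Type u} [CommRing A] [HopfAlgebra k A] {M : Type} [AddCommGroup M]

lemma point_mul {C : Type u} [CommRing C] [Algebra R C] (χ ψ : Multiplicative M →* C) :
    specMap R (chAlg (R := R) (χ * ψ)) = specMap R (chAlg (R := R) χ) * specMap R (chAlg (R := R) ψ) := by
  have h := chAlg_mul (R := R) χ ψ
  have h2 := specMap_mul R (toConv (chAlg (R := R) χ)) (toConv (chAlg (R := R) ψ))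
  rw [← h] at h2
  exact h2

/-- Homomorphisms `D(M)_R ⟶ (Spec A)_R` send the unipotent part to constants. -/
theorem ev_eq (w : SpecOver R (MonoidAlgebra R (Multiplicative M)) ⟶ Red.bc (sp k R) (SpecOver k A))
    [IsMonHom w] (n : ℕ) (a : A) (ha : a ∈ soc k A A n) :
    specPreimage k (ev w) a = algebraMap k _ (Coalgebra.counit (R := k) a) := by
  refine eq_counit_of_mem_soc (specPreimage k (ev w)) (fun C _ _ _ _ χ ψ => ?_) n a ha
  apply WithConv.ofConv_injective
  apply specMap_injective k
  rw [specMap_mul]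
  have e : ∀ χ : Multiplicative M →* C, specMap k (((chAlg (R := R) χ).restrictScalars k).comp
      (specPreimage k (ev w))) = ev (specMap R (chAlg (R := R) χ) ≫ w) := by
    intro χ
    rw [ev_comp, specMap_comp, specMap_specPreimage]
  rw [ofConv_toConv, ofConv_toConv, ofConv_toConv, e, e, e, ← ev_mul, ← MonObj.mul_comp, ← point_mul]

end affine

section bc

variable {S S' S'' : Scheme.{u}}

lemma pullbackComp_left (q : S'' ⟶ S') (g : S' ⟶ S) (X : Over S) :
    ((Over.pullbackComp q g).hom.app X).left ≫ pullback.fst (pullback.snd X.hom g) q ≫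
      pullback.fst X.hom g = pullback.fst X.hom (q ≫ g) := by
  have h := conjugateEquiv_counit (Over.mapPullbackAdj (q ≫ g))
    ((Over.mapPullbackAdj q).comp (Over.mapPullbackAdj g)) (Over.mapComp q g).inv X
  have h2 := congrArg (fun z => z.left) h
  simp at h2
  exact h2

lemma bcCompIso_left (q : S'' ⟶ S') (g : S' ⟶ S) (G : Over S) [GrpObj G] :
    (BcIso.bcCompIso q g G).hom.hom.hom.left ≫ pullback.fst (Red.bc g G).hom q ≫
      pullback.fst G.hom g = pullback.fst G.hom (q ≫ g) := by
  have h1 : (BcIso.bcCompIso q g G).hom.hom.hom.left = ((Over.pullbackComp q g).hom.app G).left := by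
    change ((Over.pullbackComp q g).hom.app G).left ≫ 𝟙 _ = _
    rw [Category.comp_id]
  rw [h1]
  exact pullbackComp_left q g G

lemma bcCompIso_inv_left (q : S'' ⟶ S') (g : S' ⟶ S) (G : Over S) [GrpObj G] :
    (BcIso.bcCompIso q g G).inv.hom.hom.left ≫ pullback.fst G.hom (q ≫ g) =
      pullback.fst (Red.bc g G).hom q ≫ pullback.fst G.hom g := by
  have h : (BcIso.bcCompIso q g G).inv.hom.hom ≫ (BcIso.bcCompIso q g G).hom.hom.hom = 𝟙 _ :=
    congr(($((BcIso.bcCompIso q g G).inv_hom_id)).hom.hom)
  rw [← bcCompIso_left, ← Category.assoc, ← Over.comp_left, h]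
  exact Category.id_comp _

end bc

section bc

variable {S S' : Scheme.{u}}

lemma bcEquiv_symm_left (f : S' ⟶ S) {T : Over S'} {X : Over S} (x : T ⟶ Red.bc f X) :
    ((BcPts.bcEquiv f T X).symm x).left = x.left ≫ pullback.fst X.hom f := by
  simp [BcPts.bcEquiv, Adjunction.homEquiv_counit]

lemma bcEquiv_symm_one (f : S' ⟶ S) {T : Over S'} {G : Over S} [GrpObj G] :
    (BcPts.bcEquiv f T G).symm 1 = 1 := by
  rw [Equiv.symm_apply_eq, BcPts.bcEquiv_one]

end bc

section general

variable {k : Type u} [Field k] {A : Type u} [CommRing A] [HopfAlgebra k A]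

theorem ds {R : Type u} [CommRing R] {M : Type} [AddCommGroup M] (h : Spec (CommRingCat.of R) ⟶ Spec (CommRingCat.of k))
    {Z : Over (Spec (CommRingCat.of k))} [GrpObj Z] (e : Z ≅ SpecOver k A) [IsMonHom e.hom]
    (w : Red.DS (Spec (CommRingCat.of R)) M ⟶ Red.bc h Z) [IsMonHom w]
    {U : Type u} [CommRing U] [Algebra k U] (q : U →ₐ[k] A) (hU : ∀ x, ∃ n, q x ∈ soc k A A n) :
    (BcPts.bcEquiv h _ Z).symm w ≫ e.hom ≫ specMap k q = 1 ≫ e.hom ≫ specMap k q := by
  obtain ⟨φ, rfl⟩ := Spec.map_surjective h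
  let _ : Algebra k R := φ.hom.toAlgebra
  change (BcPts.bcEquiv (sp k R) _ Z).symm w ≫ e.hom ≫ specMap k q = 1 ≫ e.hom ≫ specMap k q
  let w' : SpecOver R (MonoidAlgebra R (Multiplicative M)) ⟶ Red.bc (sp k R) (SpecOver k A) :=
    dsFrom R M ≫ w ≫ (Over.pullback (sp k R)).map e.hom
  have hw' : IsMonHom w' := inferInstanceAs (IsMonHom (dsFrom R M ≫ w ≫ (Over.pullback (sp k R)).map e.hom))
  let I : SpecOver k (MonoidAlgebra R (Multiplicative M)) ⟶ (Over.map (sp k R)).obj (Red.DS (Spec (CommRingCat.of R)) M) :=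
    (strIso k (MonoidAlgebra R (Multiplicative M))).inv ≫ (Over.map (sp k R)).map (dsFrom R M)
  have hI : IsIso I := inferInstance
  have h0 : (BcPts.bcEquiv (sp k R) _ (SpecOver k A)).symm w' =
      (Over.map (sp k R)).map (dsFrom R M) ≫ (BcPts.bcEquiv (sp k R) _ Z).symm w ≫ e.hom := by
    change (BcPts.bcEquiv (sp k R) _ (SpecOver k A)).symm (dsFrom R M ≫ w ≫ (Over.pullback (sp k R)).map e.hom) = _
    rw [BcPts.comp_bcEquiv_symm, BcPts.bcEquiv_symm_comp]
  have h1 : I ≫ (BcPts.bcEquiv (sp k R) _ Z).symm w ≫ e.hom = ev w' := by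
    rw [ev, h0, Category.assoc]
  rw [← cancel_epi I, ← Category.assoc _ e.hom, ← Category.assoc I, h1, ← Category.assoc I, MonObj.comp_one,
    ← Category.assoc, MonObj.one_comp]
  rw [← specMap_specPreimage k (ev w'), ← specMap_comp, ← specMap_one, ← specMap_comp]
  congr 1
  refine AlgHom.ext fun x => ?_
  obtain ⟨n, hn⟩ := hU x
  exact ev_eq w' n (q x) hn

/-- **Homomorphisms from a group of multiplicative type to a base change of an affine group over a field
are trivial on the unipotent part.** -/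
theorem main {S' : Scheme.{u}} (f : S' ⟶ Spec (CommRingCat.of k))
    {Z : Over (Spec (CommRingCat.of k))} [GrpObj Z] (e : Z ≅ SpecOver k A) [IsMonHom e.hom]
    {H : Over S'} [GrpObj H] (hH : SGA3x.IsMultTypeFT H) (u : H ⟶ Red.bc f Z) [IsMonHom u]
    {U : Type u} [CommRing U] [Algebra k U] (q : U →ₐ[k] A) (hU : ∀ x, ∃ n, q x ∈ soc k A A n) :
    (BcPts.bcEquiv f _ Z).symm u ≫ e.hom ≫ specMap k q = 1 ≫ e.hom ≫ specMap k q := by
  let t : Z ⟶ SpecOver k U := e.hom ≫ specMap k q
  have key : u ≫ (Over.pullback f).map t = (1 : H ⟶ Red.bc f Z) ≫ (Over.pullback f).map t := by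
    apply FpqcExt.eq_of_flat_cover
    intro s
    obtain ⟨R, _, g, hg, hs, M, _, hM, ⟨c⟩⟩ := MTFlat.exists_flat_split hH s
    refine ⟨_, g, hg, hs, FpqcExt.map_eq_of_fst ?_⟩
    let w : Red.DS (Spec (CommRingCat.of R)) M ⟶ Red.bc (g ≫ f) Z :=
      c.inv.hom.hom ≫ (Over.pullback g).map u ≫ (BcIso.bcCompIso g f Z).inv.hom.hom
    have i1 : IsMonHom c.inv.hom.hom := c.inv.hom.isMonHom_hom
    have i2 : IsMonHom (BcIso.bcCompIso g f Z).inv.hom.hom := (BcIso.bcCompIso g f Z).inv.hom.isMonHom_hom
    have hw : IsMonHom w := inferInstanceAs (IsMonHom (c.inv.hom.hom ≫ (Over.pullback g).map u ≫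
      (BcIso.bcCompIso g f Z).inv.hom.hom))
    have hc : IsIso c.inv.hom.hom.left := inferInstanceAs (IsIso ((Over.forget _).map ((Grp.forget _).map c.inv)))
    let m : (Over.map (g ≫ f)).obj (Red.DS (Spec (CommRingCat.of R)) M) ⟶ (Over.map f).obj H :=
      Over.homMk (c.inv.hom.hom.left ≫ pullback.fst H.hom g) (by
        change (c.inv.hom.hom.left ≫ pullback.fst H.hom g) ≫ H.hom ≫ f = (Red.DS (Spec (CommRingCat.of R)) M).hom ≫ g ≫ f
        have e1 : c.inv.hom.hom.left ≫ pullback.snd H.hom g = (Red.DS (Spec (CommRingCat.of R)) M).hom :=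
          Over.w c.inv.hom.hom
        rw [Category.assoc, pullback.condition_assoc, ← Category.assoc, e1])
    have h2 : m ≫ (BcPts.bcEquiv f H Z).symm u = (BcPts.bcEquiv (g ≫ f) _ Z).symm w := by
      ext1
      rw [Over.comp_left, bcEquiv_symm_left, bcEquiv_symm_left]
      change _ = (c.inv.hom.hom.left ≫ ((Over.pullback g).map u).left ≫
        (BcIso.bcCompIso g f Z).inv.hom.hom.left) ≫ pullback.fst Z.hom (g ≫ f)
      rw [Category.assoc, Category.assoc, bcCompIso_inv_left]
      change (c.inv.hom.hom.left ≫ pullback.fst H.hom g) ≫ _ = _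
      rw [Category.assoc]
      congr 1
      rw [← Category.assoc, ← Category.assoc]
      congr 1
      exact (pullback.lift_fst _ _ _).symm
    have h3 : m ≫ (BcPts.bcEquiv f H Z).symm u ≫ t = m ≫ 1 ≫ t := by
      rw [← Category.assoc, h2, ← Category.assoc m, MonObj.comp_one]
      exact ds (g ≫ f) e w q hU
    have h4 : ∀ x : H ⟶ Red.bc f Z, (pullback.fst H.hom g ≫ (x ≫ (Over.pullback f).map t).left) ≫
        pullback.fst (SpecOver k U).hom f = pullback.fst H.hom g ≫ ((BcPts.bcEquiv f H Z).symm x ≫ t).left := by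
      intro x
      rw [← BcPts.bcEquiv_symm_comp, bcEquiv_symm_left, Category.assoc]
    rw [← cancel_epi c.inv.hom.hom.left]
    apply pullback.hom_ext
    · have h5 := congr(($h3).left)
      change (c.inv.hom.hom.left ≫ pullback.fst H.hom g) ≫ ((BcPts.bcEquiv f H Z).symm u ≫ t).left =
        (c.inv.hom.hom.left ≫ pullback.fst H.hom g) ≫ ((1 : (Over.map f).obj H ⟶ Z) ≫ t).left at h5
      rw [← bcEquiv_symm_one] at h5
      simp only [Category.assoc] at h4 h5 ⊢
      rw [h4, h4]
      exact h5
    · have h6 : ∀ x : H ⟶ Red.bc f (SpecOver k U), x.left ≫ pullback.snd (SpecOver k U).hom f = H.hom :=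
        fun x => Over.w x
      simp only [Category.assoc]
      rw [h6, h6]
  have h2 := congrArg (BcPts.bcEquiv f H (SpecOver k U)).symm key
  rw [BcPts.bcEquiv_symm_comp, BcPts.bcEquiv_symm_comp] at h2
  rw [bcEquiv_symm_one] at h2
  exact h2

end general

end K14.MultUnip
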