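import Mathlib.Algebra.MonoidAlgebra.Basic
import Mathlib.RingTheory.Bialgebra.MonoidAlgebra
import Mathlib.RingTheory.Ideal.Quotient.Basic
import Mathlib.LinearAlgebra.TensorProduct.Basis
import Mathlib.LinearAlgebra.Dimension.Finite

/-!
# Compatible families of measures on a pro-finite group: finiteness and integrality of the support

`Z → Γ k` is a tower of sets separating finite subsets of `Z`, `f k : Γ k →₀ K` a compatible family
(a measure on the limit).

* `exists_limit`: if the supports of the `f k` are bounded, the values are integral over `V` up to one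
  denominator, and modulo every power of the ideal `𝔪` the family comes from a finitely supported function on `Z`,
  then `f` comes from a finitely supported function on `Z`.
* `card_support_le`: the support of an element of a group algebra over a field is bounded by the length of an
  expression of its comultiplication as a sum of tensors.
-/

set_option autoImplicit false

open TensorProduct

namespace K14.TorGenAlg

section limit

variable {K V Z : Type*} {Γ : ℕ → Type*} [Field K] [CommRing V] [Algebra V K]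

/-- Once the supports have maximal size, the transition maps are bijective on the supports. -/
lemma stable {p : ∀ {j k : ℕ}, j ≤ k → Γ k → Γ j} (f : ∀ k, Γ k →₀ K)
    (hf : ∀ {j k} (h : j ≤ k), Finsupp.mapDomain (p h) (f k) = f j) {j k : ℕ} (h : j ≤ k)
    (hc : (f k).support.card ≤ (f j).support.card) :
    Set.InjOn (p h) (f k).support ∧ ∀ γ ∈ (f k).support, f j (p h γ) = f k γ := by
  classical
  have h1 : (f j).support ⊆ (f k).support.image (p h) := by
    rw [← hf h]
    exact Finsupp.mapDomain_support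
  have h2 : ((f k).support.image (p h)).card = (f k).support.card := by
    refine le_antisymm Finset.card_image_le ?_
    exact hc.trans (Finset.card_le_card h1)
  have h3 : Set.InjOn (p h) (f k).support := Finset.card_image_iff.mp h2
  refine ⟨h3, fun γ hγ => ?_⟩
  rw [← hf h]
  exact Finsupp.mapDomain_apply' (S := (f k).support) (f k) (Set.Subset.rfl) h3 hγ

theorem exists_limit (𝔪 : Ideal V) (h𝔪 : ∀ x : V, (∀ i : ℕ, x ∈ 𝔪 ^ i) → x = 0)
    (hK : Function.Injective (algebraMap V K))
    (p : ∀ {j k : ℕ}, j ≤ k → Γ k → Γ j) (π : ∀ k, Z → Γ k)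
    (hπ : ∀ {j k} (h : j ≤ k) z, p h (π k z) = π j z)
    (hsep : ∀ S : Finset Z, ∃ k, Set.InjOn (π k) S)
    (f : ∀ k, Γ k →₀ K) (hf : ∀ {j k} (h : j ≤ k), Finsupp.mapDomain (p h) (f k) = f j)
    (N : ℕ) (hN : ∀ k, (f k).support.card ≤ N)
    (c : V) (hc : c ≠ 0) (g : ∀ k, Γ k →₀ V)
    (hg : ∀ k γ, algebraMap V K (g k γ) = algebraMap V K c * f k γ)
    (φ : ∀ i : ℕ, Z →₀ V ⧸ 𝔪 ^ i)
    (hφ : ∀ i k γ, Finsupp.mapDomain (π k) (φ i) γ = Ideal.Quotient.mk (𝔪 ^ i) (g k γ)) :
    ∃ F : Z →₀ K, ∀ k, Finsupp.mapDomain (π k) F = f k := by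
  classical
  -- a stage with maximal support
  obtain ⟨k₀, hk₀⟩ : ∃ k₀, ∀ k, (f k).support.card ≤ (f k₀).support.card := by
    let F : ℕ → ℕ := fun k => N - (f k).support.card
    refine ⟨Function.argmin F, fun k => ?_⟩
    have h1 : N - (f (Function.argmin F)).support.card ≤ N - (f k).support.card := Function.argmin_le F k
    have h2 := hN k
    have h3 := hN (Function.argmin F)
    omega
  have hmono : ∀ {j k} (h : j ≤ k), (f j).support ⊆ (f k).support.image (p h) := by
    intro j k h
    rw [← hf h]
    exact Finsupp.mapDomain_support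
  have hcard : ∀ {j k} (h : j ≤ k), (f j).support.card ≤ (f k).support.card := fun h =>
    (Finset.card_le_card (hmono h)).trans Finset.card_image_le
  have hst : ∀ {j k} (_ : k₀ ≤ j) (h : j ≤ k),
      Set.InjOn (p h) (f k).support ∧ ∀ γ ∈ (f k).support, f j (p h γ) = f k γ := fun h0 h =>
    stable f hf h ((hk₀ _).trans (hcard h0))
  have hgv : ∀ {k} (h : k₀ ≤ k), ∀ γ ∈ (f k).support, g k γ = g k₀ (p h γ) := by
    intro k h γ hγ
    apply hK
    rw [hg, hg, (hst le_rfl h).2 γ hγ]
  -- a power of `𝔪` containing no value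
  obtain ⟨i, hi⟩ : ∃ i : ℕ, ∀ γ ∈ (f k₀).support, g k₀ γ ∉ 𝔪 ^ i := by
    have h1 : ∀ γ ∈ (f k₀).support, ∃ i : ℕ, g k₀ γ ∉ 𝔪 ^ i := by
      intro γ hγ
      by_contra hcon
      have h2 : g k₀ γ = 0 := h𝔪 _ fun i => by
        by_contra h3
        exact hcon ⟨i, h3⟩
      have h3 := hg k₀ γ
      rw [h2, map_zero] at h3
      rcases mul_eq_zero.1 h3.symm with h4 | h4
      · exact hc (hK (h4.trans (map_zero _).symm))
      · exact (Finsupp.mem_support_iff.1 hγ) h4
    choose! I hI using h1
    refine ⟨(f k₀).support.sup I, fun γ hγ hcon => hI γ hγ ?_⟩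
    exact Ideal.pow_le_pow_right (Finset.le_sup (f := I) hγ) hcon
  set S := (φ i).support with hS
  obtain ⟨k₂, hk₂⟩ := hsep S
  let k₁ := max k₀ k₂
  have h01 : k₀ ≤ k₁ := le_max_left _ _
  have hinj : ∀ {k}, k₁ ≤ k → Set.InjOn (π k) S := by
    intro k hk z hz z' hz' hzz
    apply hk₂ hz hz'
    have h2 : k₂ ≤ k := (le_max_right _ _).trans hk
    rw [← hπ h2, ← hπ h2, hzz]
  have hsupp : ∀ {k}, k₁ ≤ k → ∀ γ ∈ (f k).support, ∃ z ∈ S, π k z = γ := by
    intro k hk γ hγ
    have h1 : (f k₀) (p (h01.trans hk) γ) = f k γ := (hst le_rfl (h01.trans hk)).2 γ hγ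
    have h2 : p (h01.trans hk) γ ∈ (f k₀).support := by
      rw [Finsupp.mem_support_iff, h1]
      exact Finsupp.mem_support_iff.1 hγ
    have h3 : g k γ ∉ 𝔪 ^ i := by
      rw [hgv (h01.trans hk) γ hγ]
      exact hi _ h2
    have h4 : Finsupp.mapDomain (π k) (φ i) γ ≠ 0 := by
      rw [hφ]
      intro h5
      exact h3 (Ideal.Quotient.eq_zero_iff_mem.1 h5)
    have h5 := Finsupp.mapDomain_support (Finsupp.mem_support_iff.2 h4)
    obtain ⟨z, hz, rfl⟩ := Finset.mem_image.1 h5
    exact ⟨z, hz, rfl⟩
  let F : Z →₀ K := Finsupp.onFinset S (fun z => if z ∈ S then f k₁ (π k₁ z) else 0) (by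
    intro z hz
    by_contra h
    exact hz (if_neg h))
  have hFS : ∀ z ∈ S, F z = f k₁ (π k₁ z) := fun z hz => by
    simp only [F, Finsupp.onFinset_apply, if_pos hz]
  have hFsup : (F.support : Set Z) ⊆ S := by
    intro z hz
    by_contra h
    exact (Finsupp.mem_support_iff.1 hz) (by simp only [F, Finsupp.onFinset_apply]; exact if_neg h)
  have key : ∀ {k}, k₁ ≤ k → Finsupp.mapDomain (π k) F = f k := by
    intro k hk
    have hval : ∀ z ∈ S, f k (π k z) = f k₁ (π k₁ z) := by
      intro z hz
      by_cases h1 : π k z ∈ (f k).support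
      · rw [← (hst h01 hk).2 _ h1, hπ]
      · have h2 : f k (π k z) = 0 := by
          by_contra h3
          exact h1 (Finsupp.mem_support_iff.2 h3)
        rw [h2]
        by_contra h3
        have h4 : π k₁ z ∈ (f k₁).support := Finsupp.mem_support_iff.2 fun h => h3 h.symm
        obtain ⟨γ', hγ', h5⟩ := Finset.mem_image.1 (hmono hk h4)
        obtain ⟨z', hz', rfl⟩ := hsupp hk γ' hγ'
        rw [hπ] at h5
        have h6 : z' = z := hinj le_rfl hz' hz h5
        exact h1 (h6 ▸ hγ')
    ext γ
    by_cases hγ : ∃ z ∈ S, π k z = γ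
    · obtain ⟨z, hz, rfl⟩ := hγ
      rw [Finsupp.mapDomain_apply' (S := (S : Set Z)) F hFsup (hinj hk) hz, hFS z hz, hval z hz]
    · have h1 : f k γ = 0 := by
        by_contra h2
        exact hγ (hsupp hk γ (Finsupp.mem_support_iff.2 h2))
      rw [h1]
      by_contra h2
      obtain ⟨z, hz, rfl⟩ := Finset.mem_image.1 (Finsupp.mapDomain_support (Finsupp.mem_support_iff.2 h2))
      exact hγ ⟨z, hFsup hz, rfl⟩
  refine ⟨F, fun k => ?_⟩
  rcases le_total k₁ k with hk | hk
  · exact key hk
  · rw [← hf hk, ← key le_rfl, ← Finsupp.mapDomain_comp]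
    congr 1
    funext z
    exact (hπ hk z).symm

end limit

section rank

variable {K G : Type*} [Field K]

/-- The coefficient at `γ`, as a linear form. -/
noncomputable def cf (γ : G) : MonoidAlgebra K G →ₗ[K] K :=
  (Finsupp.lapply γ).comp (MonoidAlgebra.coeffLinearEquiv K).toLinearMap

lemma cf_apply (γ : G) (f : MonoidAlgebra K G) : cf γ f = f.coeff γ := rfl

/-- Apply the coefficient at `γ` in the first factor. -/
noncomputable def contr (γ : G) : MonoidAlgebra K G ⊗[K] MonoidAlgebra K G →ₗ[K] MonoidAlgebra K G :=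
  (TensorProduct.lid K _).toLinearMap.comp ((cf γ).rTensor _)

lemma contr_tmul (γ : G) (x y : MonoidAlgebra K G) : contr γ (x ⊗ₜ[K] y) = x.coeff γ • y := by
  simp [contr, cf_apply]

lemma contr_comul (γ : G) (f : MonoidAlgebra K G) :
    contr γ (Coalgebra.comul (R := K) f) = MonoidAlgebra.single γ (f.coeff γ) := by
  classical
  induction f using MonoidAlgebra.induction_linear with
  | zero => simp
  | add f g hf hg => rw [map_add, map_add, hf, hg, MonoidAlgebra.coeff_add, Finsupp.add_apply, MonoidAlgebra.single_add]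
  | single m a =>
    rw [MonoidAlgebra.comul_single, CommSemiring.comul_apply, TensorProduct.map_tmul, contr_tmul]
    simp only [MonoidAlgebra.lsingle_apply, MonoidAlgebra.coeff_single, MonoidAlgebra.smul_single]
    by_cases h : m = γ
    · subst h
      simp
    · simp [Finsupp.single_eq_of_ne (Ne.symm h)]

/-- The support of `f` in a group algebra is bounded by the length of an expression of its comultiplication. -/
theorem card_support_le {ι : Type*} (s : Finset ι) (f : MonoidAlgebra K G) (b c : ι → MonoidAlgebra K G)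
    (h : Coalgebra.comul (R := K) f = ∑ i ∈ s, b i ⊗ₜ[K] c i) : f.coeff.support.card ≤ s.card := by
  classical
  let w : Finset (MonoidAlgebra K G) := s.image c
  let v : f.coeff.support → MonoidAlgebra K G := fun γ => MonoidAlgebra.single (γ : G) (1 : K)
  have hv : LinearIndependent K v := by
    have h1 : LinearIndependent K (fun γ : G => (MonoidAlgebra.single γ (1 : K) : MonoidAlgebra K G)) := by
      have h2 := (Finsupp.linearIndependent_single_one K G).map'
        (MonoidAlgebra.coeffLinearEquiv K : MonoidAlgebra K G ≃ₗ[K] (G →₀ K)).symm.toLinearMap (LinearEquiv.ker _)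
      exact h2
    exact h1.comp _ Subtype.val_injective
  have hs : Set.range v ≤ Submodule.span K (w : Set (MonoidAlgebra K G)) := by
    rintro _ ⟨γ, rfl⟩
    have h1 := contr_comul (γ : G) f
    rw [h, map_sum] at h1
    have h2 : MonoidAlgebra.single (γ : G) (f.coeff γ) ∈ Submodule.span K (w : Set (MonoidAlgebra K G)) := by
      rw [← h1]
      refine Submodule.sum_mem _ fun i hi => ?_
      rw [contr_tmul]
      exact Submodule.smul_mem _ _ (Submodule.subset_span (Finset.mem_coe.2 (Finset.mem_image_of_mem c hi)))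
    have h3 : f.coeff γ ≠ 0 := Finsupp.mem_support_iff.1 γ.2
    have h4 : v γ = (f.coeff γ)⁻¹ • MonoidAlgebra.single (γ : G) (f.coeff γ) := by
      rw [MonoidAlgebra.smul_single, smul_eq_mul, inv_mul_cancel₀ h3]
    rw [h4]
    exact Submodule.smul_mem _ _ h2
  have h1 := linearIndependent_le_span_aux' v hv (w : Set (MonoidAlgebra K G)) hs
  rw [Fintype.card_coe] at h1
  refine h1.trans ?_
  have h2 : Fintype.card (w : Set (MonoidAlgebra K G)) = w.card := Fintype.card_coe w
  rw [h2]
  exact Finset.card_image_le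

end rank

end K14.TorGenAlg
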