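import Groth.Agent.SGA3x.K14.TorGenAlg
import Mathlib.RingTheory.Bialgebra.Hom
import Mathlib.RingTheory.Bialgebra.MonoidAlgebra
import Mathlib.LinearAlgebra.DirectSum.Finsupp

/-!
# Bialgebras inside a product of group algebras of finite groups

`D` a bialgebra over a field `K` embedded in the product of the group algebras `K[Γ k]` by bialgebra maps. If the
elements of `D` satisfy the integrality condition of `K14.TorGenAlg.exists_limit`, `D` embeds in `K[M]`.
-/

set_option autoImplicit false
universe u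

open TensorProduct

namespace K14.TorGenHopf

open K14.TorGenAlg

section sep

variable {K : Type*} [CommRing K]

/-- `x ↦ π x` on group algebras as a linear map. -/
noncomputable def mD {G G' : Type*} (π : G → G') : MonoidAlgebra K G →ₗ[K] MonoidAlgebra K G' where
  toFun := MonoidAlgebra.mapDomain π
  map_add' := MonoidAlgebra.mapDomain_add π
  map_smul' c x := by
    apply MonoidAlgebra.coeff_injective
    rw [MonoidAlgebra.coeff_mapDomain, MonoidAlgebra.coeff_smul, RingHom.id_apply, MonoidAlgebra.coeff_smul,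
      MonoidAlgebra.coeff_mapDomain, Finsupp.mapDomain_smul]

lemma mD_apply {G G' : Type*} (π : G → G') (x : MonoidAlgebra K G) : mD π x = MonoidAlgebra.mapDomain π x := rfl

lemma mapDomain_sep {G : Type*} {Γ : ℕ → Type*} (π : ∀ k, G → Γ k) (hsep : ∀ S : Finset G, ∃ k, Set.InjOn (π k) S)
    (x : G →₀ K) (hx : ∀ k, Finsupp.mapDomain (π k) x = 0) : x = 0 := by
  classical
  obtain ⟨k, hk⟩ := hsep x.support
  ext m
  by_cases hm : m ∈ x.support
  · have h1 := Finsupp.mapDomain_apply' (S := (x.support : Set G)) x Set.Subset.rfl hk hm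
    rw [hx k] at h1
    exact h1.symm
  · rw [Finsupp.notMem_support_iff.1 hm]
    rfl

lemma sep {G : Type*} {Γ : ℕ → Type*} (π : ∀ k, G → Γ k) (hsep : ∀ S : Finset G, ∃ k, Set.InjOn (π k) S)
    (x : MonoidAlgebra K G) (hx : ∀ k, MonoidAlgebra.mapDomain (π k) x = 0) : x = 0 := by
  apply MonoidAlgebra.coeff_injective
  refine mapDomain_sep π hsep _ fun k => ?_
  rw [← MonoidAlgebra.coeff_mapDomain, hx k]
  rfl

lemma sep_eq {G : Type*} {Γ : ℕ → Type*} (π : ∀ k, G → Γ k) (hsep : ∀ S : Finset G, ∃ k, Set.InjOn (π k) S)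
    (x y : MonoidAlgebra K G) (hx : ∀ k, MonoidAlgebra.mapDomain (π k) x = MonoidAlgebra.mapDomain (π k) y) :
    x = y := by
  rw [← sub_eq_zero]
  refine sep π hsep _ fun k => ?_
  have h := (mD (K := K) (π k)).map_sub x y
  rw [mD_apply, mD_apply, mD_apply] at h
  rw [h, hx, sub_self]

/-- The tensor square of a group algebra. -/
noncomputable def tE (G : Type*) : MonoidAlgebra K G ⊗[K] MonoidAlgebra K G ≃ₗ[K] (G × G →₀ K) :=
  (TensorProduct.congr (MonoidAlgebra.coeffLinearEquiv K) (MonoidAlgebra.coeffLinearEquiv K)).trans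
    (finsuppTensorFinsupp' K G G)

lemma tE_single {G : Type*} (a b : G) (r s : K) :
    tE G (MonoidAlgebra.single a r ⊗ₜ[K] MonoidAlgebra.single b s) = Finsupp.single (a, b) (r * s) := by
  rw [tE, LinearEquiv.trans_apply, TensorProduct.congr_tmul]
  exact finsuppTensorFinsupp'_single_tmul_single K G G a b r s

lemma tE_map {G G' : Type*} (π : G → G') (x : MonoidAlgebra K G ⊗[K] MonoidAlgebra K G) :
    tE G' (TensorProduct.map (mD π) (mD π) x) = Finsupp.mapDomain (Prod.map π π) (tE G x) := by
  have h : (tE (K := K) G').toLinearMap.comp (TensorProduct.map (mD π) (mD π)) =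
      (Finsupp.lmapDomain K K (Prod.map π π)).comp (tE G).toLinearMap := by
    refine TensorProduct.ext ?_
    refine MonoidAlgebra.lhom_ext' fun a => LinearMap.ext fun r => ?_
    refine MonoidAlgebra.lhom_ext' fun b => LinearMap.ext fun s => ?_
    change tE G' (TensorProduct.map (mD π) (mD π) (MonoidAlgebra.single a r ⊗ₜ[K] MonoidAlgebra.single b s)) =
      Finsupp.mapDomain (Prod.map π π) (tE G (MonoidAlgebra.single a r ⊗ₜ[K] MonoidAlgebra.single b s))
    rw [TensorProduct.map_tmul, mD_apply, mD_apply, MonoidAlgebra.mapDomain_single, MonoidAlgebra.mapDomain_single,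
      tE_single, tE_single, Finsupp.mapDomain_single, Prod.map_apply]
  exact LinearMap.congr_fun h x

lemma sep_prod {G : Type*} {Γ : ℕ → Type*} (π : ∀ k, G → Γ k) (hsep : ∀ S : Finset G, ∃ k, Set.InjOn (π k) S)
    (S : Finset (G × G)) : ∃ k, Set.InjOn (Prod.map (π k) (π k)) S := by
  classical
  obtain ⟨k, hk⟩ := hsep (S.image Prod.fst ∪ S.image Prod.snd)
  refine ⟨k, fun x hx y hy h => ?_⟩
  have h1 : ∀ z ∈ S, z.1 ∈ (S.image Prod.fst ∪ S.image Prod.snd : Finset G) := fun z hz =>
    Finset.mem_union_left _ (Finset.mem_image_of_mem _ hz)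
  have h2 : ∀ z ∈ S, z.2 ∈ (S.image Prod.fst ∪ S.image Prod.snd : Finset G) := fun z hz =>
    Finset.mem_union_right _ (Finset.mem_image_of_mem _ hz)
  exact Prod.ext (hk (h1 x hx) (h1 y hy) (congrArg Prod.fst h)) (hk (h2 x hx) (h2 y hy) (congrArg Prod.snd h))

lemma sep_tensor {G : Type*} {Γ : ℕ → Type*} (π : ∀ k, G → Γ k) (hsep : ∀ S : Finset G, ∃ k, Set.InjOn (π k) S)
    (x y : MonoidAlgebra K G ⊗[K] MonoidAlgebra K G)
    (h : ∀ k, TensorProduct.map (mD (π k)) (mD (π k)) x = TensorProduct.map (mD (π k)) (mD (π k)) y) : x = y := by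
  rw [← sub_eq_zero]
  apply (tE (K := K) G).injective
  rw [map_zero]
  refine mapDomain_sep (fun k => Prod.map (π k) (π k)) (sep_prod π hsep) _ fun k => ?_
  rw [← tE_map, map_sub, h, sub_self, map_zero]

end sep

variable {K V : Type u} [Field K] [CommRing V] [Algebra V K] {M : Type} [AddCommGroup M] {Γ : ℕ → Type}
  [∀ k, AddCommGroup (Γ k)]

/-- **A bialgebra with integral measures embeds in the group algebra of `M`.** -/
theorem exists_rho (𝔪 : Ideal V) (h𝔪 : ∀ x : V, (∀ i : ℕ, x ∈ 𝔪 ^ i) → x = 0)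
    (hK : Function.Injective (algebraMap V K))
    (p : ∀ {j k : ℕ}, j ≤ k → Γ k →+ Γ j) (π : ∀ k, M →+ Γ k) (hπ : ∀ {j k} (h : j ≤ k) z, p h (π k z) = π j z)
    (hsep : ∀ S : Finset M, ∃ k, Set.InjOn (π k) S)
    {D : Type u} [CommRing D] [Bialgebra K D] (ε : ∀ k, D →ₐc[K] MonoidAlgebra K (Multiplicative (Γ k)))
    (hε : ∀ b, (∀ k, ε k b = 0) → b = 0)
    (hεp : ∀ {j k} (h : j ≤ k) b,
      MonoidAlgebra.mapDomain (AddMonoidHom.toMultiplicative (p h)) (ε k b) = ε j b)
    (hint : ∀ b : D, ∃ (c : V) (_ : c ≠ 0) (a : ∀ k, MonoidAlgebra V (Multiplicative (Γ k)))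
      (x : ∀ i : ℕ, MonoidAlgebra (V ⧸ 𝔪 ^ i) (Multiplicative M)),
      (∀ k, MonoidAlgebra.mapRingHom _ (algebraMap V K) (a k) = algebraMap V K c • ε k b) ∧
      ∀ i k, MonoidAlgebra.mapDomain (AddMonoidHom.toMultiplicative (π k)) (x i) =
        MonoidAlgebra.mapRingHom _ (Ideal.Quotient.mk (𝔪 ^ i)) (a k)) :
    ∃ ρ : D →ₐc[K] MonoidAlgebra K (Multiplicative M), Function.Injective ρ ∧
      ∀ k b, MonoidAlgebra.mapDomain (AddMonoidHom.toMultiplicative (π k)) (ρ b) = ε k b := by
  classical
  have hsep' : ∀ S : Finset (Multiplicative M), ∃ k, Set.InjOn (AddMonoidHom.toMultiplicative (π k)) S := by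
    intro S
    obtain ⟨k, hk⟩ := hsep (S.image Multiplicative.toAdd)
    refine ⟨k, fun x hx y hy h => ?_⟩
    exact congrArg Multiplicative.ofAdd (hk (Finset.mem_coe.2 (Finset.mem_image_of_mem _ hx))
      (Finset.mem_coe.2 (Finset.mem_image_of_mem _ hy)) (congrArg Multiplicative.toAdd h))
  have hF : ∀ b : D, ∃ F : MonoidAlgebra K (Multiplicative M),
      ∀ k, MonoidAlgebra.mapDomain (AddMonoidHom.toMultiplicative (π k)) F = ε k b := by
    intro b
    obtain ⟨c, hc, a, x, ha, hx⟩ := hint b
    obtain ⟨s, hs⟩ := TensorProduct.exists_finset (Coalgebra.comul (R := K) b)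
    have hN : ∀ k, (ε k b).coeff.support.card ≤ s.card := by
      intro k
      refine card_support_le s (ε k b) (fun i => ε k i.1) (fun i => ε k i.2) ?_
      rw [← CoalgHomClass.map_comp_comul_apply (ε k) b, hs, map_sum]
      exact Finset.sum_congr rfl fun i _ => rfl
    obtain ⟨F, hF⟩ := exists_limit 𝔪 h𝔪 hK (Z := Multiplicative M) (Γ := fun k => Multiplicative (Γ k))
      (fun h => AddMonoidHom.toMultiplicative (p h)) (fun k => AddMonoidHom.toMultiplicative (π k))
      (fun h z => congrArg Multiplicative.ofAdd (hπ h z.toAdd)) hsep' (fun k => (ε k b).coeff)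
      (fun {j k} h => by rw [← hεp h b, MonoidAlgebra.coeff_mapDomain]) s.card hN c hc (fun k => (a k).coeff)
      (fun k γ => by
        have h1 := congrArg (fun y => MonoidAlgebra.coeff y γ) (ha k)
        simp only [MonoidAlgebra.coeff_mapRingHom, MonoidAlgebra.coeff_smul] at h1
        rw [h1]
        rfl)
      (fun i => (x i).coeff) (fun i k γ => by
        have h1 := congrArg (fun y => MonoidAlgebra.coeff y γ) (hx i k)
        simp only [MonoidAlgebra.coeff_mapRingHom] at h1
        rw [← h1, MonoidAlgebra.coeff_mapDomain])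
    refine ⟨MonoidAlgebra.ofCoeff F, fun k => ?_⟩
    apply MonoidAlgebra.coeff_injective
    rw [MonoidAlgebra.coeff_mapDomain]
    exact hF k
  choose F hF using hF
  let P : ∀ k, MonoidAlgebra K (Multiplicative M) →ₐ[K] MonoidAlgebra K (Multiplicative (Γ k)) := fun k =>
    MonoidAlgebra.mapDomainAlgHom K K (AddMonoidHom.toMultiplicative (π k))
  have hP : ∀ k x, P k x = MonoidAlgebra.mapDomain (AddMonoidHom.toMultiplicative (π k)) x := fun k x => rfl
  have key : ∀ x y : MonoidAlgebra K (Multiplicative M), (∀ k, P k x = P k y) → x = y := fun x y h =>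
    sep_eq _ hsep' x y h
  have hF' : ∀ k b, P k (F b) = ε k b := fun k b => hF b k
  let ρ₀ : D →ₐ[K] MonoidAlgebra K (Multiplicative M) :=
    { toFun := F
      map_one' := key _ _ fun k => by rw [hF', map_one, map_one]
      map_mul' := fun x y => key _ _ fun k => by rw [hF', map_mul, map_mul, hF', hF']
      map_zero' := key _ _ fun k => by rw [hF', map_zero, map_zero]
      map_add' := fun x y => key _ _ fun k => by rw [hF', map_add, map_add, hF', hF']
      commutes' := fun r => key _ _ fun k => by rw [hF', AlgHom.commutes, AlgHomClass.commutes] }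
  have hρ₀ : ∀ k b, P k (ρ₀ b) = ε k b := hF'
  have hcounit : ∀ x : MonoidAlgebra K (Multiplicative M), ∀ k,
      Coalgebra.counit (R := K) (P k x) = Coalgebra.counit (R := K) x := by
    intro x k
    have h : (Coalgebra.counit (R := K)).comp (P k).toLinearMap =
        (Coalgebra.counit (R := K) (A := MonoidAlgebra K (Multiplicative M))) := by
      refine MonoidAlgebra.lhom_ext' fun a => LinearMap.ext fun r => ?_
      simp [P]
    exact LinearMap.congr_fun h x
  have hcomul : ∀ x : MonoidAlgebra K (Multiplicative M), ∀ k,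
      TensorProduct.map (mD (AddMonoidHom.toMultiplicative (π k))) (mD (AddMonoidHom.toMultiplicative (π k)))
        (Coalgebra.comul (R := K) x) = Coalgebra.comul (R := K) (P k x) := by
    intro x k
    have h : (TensorProduct.map (mD (AddMonoidHom.toMultiplicative (π k)))
        (mD (AddMonoidHom.toMultiplicative (π k)))).comp (Coalgebra.comul (R := K)) =
        (Coalgebra.comul (R := K) (A := MonoidAlgebra K (Multiplicative (Γ k)))).comp (P k).toLinearMap := by
      refine MonoidAlgebra.lhom_ext' fun a => LinearMap.ext fun r => ?_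
      simp [P, mD_apply]
    exact LinearMap.congr_fun h x
  let ρ : D →ₐc[K] MonoidAlgebra K (Multiplicative M) := .ofAlgHom ρ₀ (by
      ext b
      change Coalgebra.counit (R := K) (ρ₀ b) = Coalgebra.counit (R := K) b
      rw [← hcounit _ 0, hρ₀]
      exact CoalgHomClass.counit_comp_apply (ε 0) b) (by
      ext b
      change Algebra.TensorProduct.map ρ₀ ρ₀ (Coalgebra.comul (R := K) b) = Coalgebra.comul (R := K) (ρ₀ b)
      refine sep_tensor _ hsep' _ _ fun k => ?_
      rw [hcomul, hρ₀, ← CoalgHomClass.map_comp_comul_apply (ε k) b]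
      generalize Coalgebra.comul (R := K) b = t
      induction t with
      | zero => simp
      | add x y hx hy => rw [map_add, map_add, hx, hy, map_add]
      | tmul x y =>
        rw [Algebra.TensorProduct.map_tmul, TensorProduct.map_tmul, mD_apply, mD_apply, ← hP, ← hP, hρ₀, hρ₀]
        rfl)
  refine ⟨ρ, ?_, fun k b => hF b k⟩
  rw [injective_iff_map_eq_zero]
  intro b hb
  refine hε b fun k => ?_
  rw [← hρ₀ k b]
  have h1 : ρ₀ b = 0 := hb
  rw [h1, map_zero]

end K14.TorGenHopf
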