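import Groth.Agent.Sga3.H280.FlatClosure
import Groth.Agent.Sga3B.AffDvrHopf789

/-!
# Functions on the schematic closure of a closed affine subscheme of the generic fibre

`V` a domain with fraction field `K`, `X` a scheme over `V`, `Spec D` a closed subscheme of the generic fibre of `X`
and `H` its schematic closure in `X`.

* `exists_factor`: factorisation through a closed subscheme is tested on a jointly injective family of ring maps;
* `exists_ext`: every function on `Spec D` extends to `H` after multiplication with an element of `V`;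
* `exists_integral`: values of the functions of `Spec D` at a compatible system of points of `X`.
-/

set_option autoImplicit false
universe u

open CategoryTheory CategoryTheory.Limits AlgebraicGeometry

namespace K14.TorGenInt

open Groth.Agent.Sga3B.AffDvrHopf789 Groth.Agent.Sga3.H280.FlatClosure

/-- A morphism `Spec R ⟶ X` factors through a closed subscheme if it does after composition with a jointly injective
family of ring maps. -/
theorem exists_factor {R : Type u} [CommRing R] {ι : Type*} {R' : ι → Type u} [∀ i, CommRing (R' i)]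
    (ψ : ∀ i, R →+* R' i) (hψ : ∀ x, (∀ i, ψ i x = 0) → x = 0) {H X : Scheme.{u}} (z : H ⟶ X)
    [IsClosedImmersion z] (f : Spec (.of R) ⟶ X)
    (h : ∀ i, ∃ a, a ≫ z = Spec.map (CommRingCat.ofHom (ψ i)) ≫ f) : ∃ a, a ≫ z = f := by
  let p : pullback z f ⟶ Spec (.of R) := pullback.snd z f
  have hp : IsClosedImmersion p := inferInstance
  obtain ⟨I, e, he⟩ := IsClosedImmersion.Spec_iff.1 hp
  have hI : I = ⊥ := by
    rw [eq_bot_iff]
    intro x hx
    refine hψ x fun i => ?_
    obtain ⟨a, ha⟩ := h i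
    let b : Spec (.of (R' i)) ⟶ pullback z f := pullback.lift a (Spec.map (CommRingCat.ofHom (ψ i))) ha
    have hb : b ≫ e.hom ≫ Spec.map (CommRingCat.ofHom (Ideal.Quotient.mk I)) =
        Spec.map (CommRingCat.ofHom (ψ i)) := by
      rw [← he]
      exact pullback.lift_snd _ _ _
    have hb2 : CommRingCat.ofHom (Ideal.Quotient.mk I) ≫ Spec.preimage (b ≫ e.hom) = CommRingCat.ofHom (ψ i) := by
      apply Spec.map_injective
      rw [Spec.map_comp, Spec.map_preimage, Category.assoc, hb]
    have h3 := congrArg (fun φ => φ.hom x) hb2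
    have h4 : (Spec.preimage (b ≫ e.hom)).hom (Ideal.Quotient.mk I x) = ψ i x := h3
    rw [← h4, Ideal.Quotient.eq_zero_iff_mem.2 hx, map_zero]
  subst hI
  have hbij : Function.Bijective (Ideal.Quotient.mk (⊥ : Ideal R)) :=
    ⟨by rw [RingHom.injective_iff_ker_eq_bot, Ideal.mk_ker], Ideal.Quotient.mk_surjective⟩
  have hiso : IsIso (CommRingCat.ofHom (Ideal.Quotient.mk (⊥ : Ideal R))) := by
    rw [ConcreteCategory.isIso_iff_bijective]
    exact hbij
  have h5 : IsIso p := by
    rw [show p = _ from he]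
    infer_instance
  refine ⟨inv p ≫ pullback.fst z f, ?_⟩
  rw [Category.assoc, pullback.condition, IsIso.inv_hom_id_assoc]

variable {V K D : Type u} [CommRing V] [IsDomain V] [Field K] [Algebra V K] [IsFractionRing V K] [CommRing D]
  [Algebra K D] [Algebra V D] [IsScalarTower V K D]
  {X : Scheme.{u}} (q : X ⟶ Spec (.of V)) [CompactSpace X] [QuasiSeparatedSpace X]
  (j : Spec (.of D) ⟶ X)

/-- The generic point. -/
noncomputable abbrev gen (V K : Type u) [CommRing V] [CommRing K] [Algebra V K] : Spec (.of K) ⟶ Spec (.of V) :=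
  Spec.map (CommRingCat.ofHom (algebraMap V K))

/-- **Functions extend to the closure up to a denominator.** -/
theorem exists_ext [Flat (gen V K)] [Mono (gen V K)]
    (w : j ≫ q = Spec.map (CommRingCat.ofHom (algebraMap K D)) ≫ gen V K)
    [IsClosedImmersion (pullback.lift j _ w)] (b : D) :
    ∃ (c : V) (_ : c ≠ 0) (h : Γ(j.image, ⊤)), ev j.toImage h = algebraMap V D c * b := by
  have hqc : QuasiCompact j := by
    rw [← pullback.lift_fst j _ w]
    infer_instance
  have hP := isPullback_image (gen V K) q (Spec.map (CommRingCat.ofHom (algebraMap K D))) j w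
  have hcomp : CompactSpace j.image := QuasiCompact.compactSpace_of_compactSpace j.imageι
  have hqs : QuasiSeparatedSpace j.image := quasiSeparatedSpace_of_quasiSeparated j.imageι
  -- all elements are values of functions on the fibre product
  let P := pullback (gen V K) (j.imageι ≫ q)
  let l : Spec (.of D) ⟶ P := pullback.lift (Spec.map (CommRingCat.ofHom (algebraMap K D)) ≫ 𝟙 _) j.toImage (by
    rw [Category.comp_id]; exact hP.w.symm)
  have hl : IsIso l := by
    have h1 : l = (hP.flip.isoPullback).hom := by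
      apply pullback.hom_ext
      · rw [pullback.lift_fst, Category.comp_id, IsPullback.isoPullback_hom_fst]
      · rw [pullback.lift_snd, IsPullback.isoPullback_hom_snd]
    rw [h1]
    infer_instance
  have hcl : b ∈ Subring.closure (Set.range (algebraMap K D) ∪ Set.range (ev j.toImage)) := by
    obtain ⟨s, hs⟩ : ∃ s : Γ(P, ⊤), ev l s = b := by
      let s' : Γ(Spec (.of D), ⊤) := (Scheme.ΓSpecIso (CommRingCat.of D)).inv.hom b
      refine ⟨(inv l).appTop.hom s', ?_⟩
      rw [← ev_comp, IsIso.hom_inv_id]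
      have h1 := ev_specMap (RingHom.id D) s'
      have h2 : Spec.map (CommRingCat.ofHom (RingHom.id D)) = 𝟙 (Spec (.of D)) := Spec.map_id _
      rw [h2] at h1
      rw [h1]
      exact congrArg (fun φ => φ.hom b) (Scheme.ΓSpecIso (CommRingCat.of D)).inv_hom_id
    have hfl : Flat (𝟙 (Spec (.of K)) ≫ gen V K) := by
      rw [Category.id_comp]; infer_instance
    have h1 := ev_mem_closure (gen V K) (j.imageι ≫ q) (𝟙 (Spec (.of K))) hfl (algebraMap K D) j.toImage
      (by rw [Category.comp_id]; exact hP.w.symm) s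
    rw [← hs]
    exact h1
  -- constants
  let r : V →+* Γ(j.image, ⊤) :=
    (j.imageι ≫ q).appTop.hom.comp (Scheme.ΓSpecIso (CommRingCat.of V)).inv.hom
  have hr : ∀ c : V, ev j.toImage (r c) = algebraMap V D c := by
    intro c
    have h0 : ev j.toImage (r c) = ev (j.toImage ≫ j.imageι ≫ q)
        ((Scheme.ΓSpecIso (CommRingCat.of V)).inv.hom c) := (ev_comp _ _ _).symm
    have h1 : j.toImage ≫ j.imageι ≫ q = Spec.map (CommRingCat.ofHom (algebraMap V D)) := by
      rw [Scheme.Hom.toImage_imageι_assoc, w, gen, ← Spec.map_comp, ← CommRingCat.ofHom_comp,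
        ← IsScalarTower.algebraMap_eq]
    rw [h0, h1, ev_specMap]
    have h2 : (Scheme.ΓSpecIso (CommRingCat.of V)).hom.hom ((Scheme.ΓSpecIso (CommRingCat.of V)).inv.hom c) = c :=
      congrArg (fun φ => φ.hom c) (Scheme.ΓSpecIso (CommRingCat.of V)).inv_hom_id
    rw [h2]
  induction hcl using Subring.closure_induction with
  | mem x hx =>
    rcases hx with ⟨k, rfl⟩ | ⟨h, rfl⟩
    · obtain ⟨c, a, hc, rfl⟩ := IsFractionRing.div_surjective (A := V) k
      have hc0 : a ≠ 0 := nonZeroDivisors.ne_zero hc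
      refine ⟨a, hc0, r c, ?_⟩
      rw [hr, IsScalarTower.algebraMap_apply V K D a, ← map_mul, mul_div_cancel₀,
        ← IsScalarTower.algebraMap_apply]
      intro h3
      exact hc0 ((IsFractionRing.injective V K) (h3.trans (map_zero _).symm))
    · exact ⟨1, one_ne_zero, h, by rw [map_one, one_mul]⟩
  | zero => exact ⟨1, one_ne_zero, 0, by rw [map_zero, mul_zero]⟩
  | one => exact ⟨1, one_ne_zero, 1, by rw [map_one, map_one, mul_one]⟩
  | neg x _ hx =>
    obtain ⟨c, hc, h, hh⟩ := hx
    exact ⟨c, hc, -h, by rw [map_neg, hh, mul_neg]⟩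
  | add x y _ _ hx hy =>
    obtain ⟨c, hc, h, hh⟩ := hx
    obtain ⟨c', hc', h', hh'⟩ := hy
    refine ⟨c * c', mul_ne_zero hc hc', r c' * h + r c * h', ?_⟩
    rw [map_add, map_mul, map_mul, hr, hr, hh, hh', map_mul]
    ring
  | mul x y _ _ hx hy =>
    obtain ⟨c, hc, h, hh⟩ := hx
    obtain ⟨c', hc', h', hh'⟩ := hy
    refine ⟨c * c', mul_ne_zero hc hc', h * h', ?_⟩
    rw [map_mul, hh, hh', map_mul]
    ring

/-- **Values of the functions of `Spec D` at a compatible system of points.** -/
theorem exists_integral [Flat (gen V K)] [Mono (gen V K)]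
    (w : j ≫ q = Spec.map (CommRingCat.ofHom (algebraMap K D)) ≫ gen V K)
    [IsClosedImmersion (pullback.lift j _ w)]
    {A A' C : ℕ → Type u} {B : ℕ → ℕ → Type u} [∀ k, CommRing (A k)] [∀ k, CommRing (A' k)] [∀ i, CommRing (C i)]
    [∀ i k, CommRing (B i k)]
    (α : ∀ k, A k →+* A' k) (hα : ∀ k, Function.Injective (α k)) (u : ∀ k, Spec (.of (A k)) ⟶ X)
    (ε : ∀ k, D →+* A' k)
    (hu : ∀ k, Spec.map (CommRingCat.ofHom (α k)) ≫ u k = Spec.map (CommRingCat.ofHom (ε k)) ≫ j)
    (φ : ∀ i, Spec (.of (C i)) ⟶ X) (β : ∀ i k, C i →+* B i k) (δ : ∀ i k, A k →+* B i k)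
    (hβ : ∀ i x, (∀ k, β i k x = 0) → x = 0)
    (hφ : ∀ i k, Spec.map (CommRingCat.ofHom (β i k)) ≫ φ i = Spec.map (CommRingCat.ofHom (δ i k)) ≫ u k)
    (b : D) :
    ∃ (c : V) (_ : c ≠ 0) (a : ∀ k, A k) (x : ∀ i, C i), (∀ k, α k (a k) = ε k (algebraMap V D c * b)) ∧
      ∀ i k, β i k (x i) = δ i k (a k) := by
  obtain ⟨c, hc, h, hh⟩ := exists_ext q j w b
  -- the points factor through the closure
  have hu' : ∀ k, ∃ u' : Spec (.of (A k)) ⟶ j.image, u' ≫ j.imageι = u k := by
    intro k
    refine exists_factor (ι := Unit) (R' := fun _ => A' k) (fun _ => α k)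
      (fun x hx => (injective_iff_map_eq_zero (α k)).1 (hα k) x (hx ())) _ _ fun _ => ?_
    refine ⟨Spec.map (CommRingCat.ofHom (ε k)) ≫ j.toImage, ?_⟩
    rw [Category.assoc, Scheme.Hom.toImage_imageι, hu]
  choose u' hu' using hu'
  have hφ' : ∀ i, ∃ φ' : Spec (.of (C i)) ⟶ j.image, φ' ≫ j.imageι = φ i := by
    intro i
    refine exists_factor (ι := ℕ) (R' := fun k => B i k) (β i) (hβ i) _ _ fun k => ?_
    refine ⟨Spec.map (CommRingCat.ofHom (δ i k)) ≫ u' k, ?_⟩
    rw [Category.assoc, hu', hφ]
  choose φ' hφ' using hφ'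
  refine ⟨c, hc, fun k => ev (u' k) h, fun i => ev (φ' i) h, fun k => ?_, fun i k => ?_⟩
  · rw [← ev_specMap_comp, ← hh, ← ev_specMap_comp]
    congr 2
    rw [← cancel_mono j.imageι, Category.assoc, Category.assoc, Scheme.Hom.toImage_imageι, hu', hu]
  · rw [← ev_specMap_comp, ← ev_specMap_comp]
    congr 2
    rw [← cancel_mono j.imageι, Category.assoc, Category.assoc, hφ', hu', hφ]

end K14.TorGenInt
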