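import Groth.Agent.S0618
import Groth.Agent.SGA3b.K202.FieldSub
import Groth.Agent.Sga3A.FibTorus
import Groth.Agent.AlgGrp.K409.TorsTorus
import Groth.Agent.SGA3x.K19.DSKit
import Mathlib.LinearAlgebra.FreeModule.PID

/-!
# Quotients of split tori over a field
-/

set_option autoImplicit false
universe u

open CategoryTheory AlgebraicGeometry MonObj MonoidalCategory CartesianMonoidalCategory

namespace K14.TorGenSplit

/-- **A Hopf algebra of finite type embedded in `K[ℤ^r]` is isomorphic to `K[ℤ^m]` with `m ≤ r`.** -/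
theorem exists_split {K : Type u} [Field K] {D : Type u} [CommRing D] [HopfAlgebra K D] [Algebra.FiniteType K D]
    {r : ℕ} (ρ : D →ₐc[K] MonoidAlgebra K (Multiplicative (Fin r → ℤ))) (hρ : Function.Injective ρ) :
    ∃ m : ℕ, m ≤ r ∧ Nonempty (D ≃ₐc[K] MonoidAlgebra K (Multiplicative (Fin m → ℤ))) := by
  have h1 := Groth.Agent.S0618.result ρ hρ
  obtain ⟨N, _, ⟨e⟩⟩ := K202.FieldSub.isDiag_of_span h1
  let f : MonoidAlgebra K N →ₐc[K] MonoidAlgebra K (Multiplicative (Fin r → ℤ)) := ρ.comp (e.symm : _ →ₐc[K] D)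
  have hf : Function.Injective f := hρ.comp e.symm.injective
  let ψ : N →* Multiplicative (Fin r → ℤ) := MonoidAlgebra.mapDomainOfBialgHom f
  have hψ : Function.Injective ψ := by
    intro a b hab
    have h2 : ∀ n : N, f (MonoidAlgebra.single n 1) = MonoidAlgebra.single (ψ n) 1 := fun n =>
      (MonoidAlgebra.single_mapDomainOfBialgHom f n 1).symm
    have h3 : f (MonoidAlgebra.single a 1) = f (MonoidAlgebra.single b 1) := by rw [h2, h2, hab]
    exact MonoidAlgebra.of_injective (hf h3)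
  let ψ' : Additive N →+ (Fin r → ℤ) := MonoidHom.toAdditiveLeft ψ
  have hψ' : Function.Injective ψ' := fun a b hab => hψ hab
  let P : Submodule ℤ (Fin r → ℤ) := AddSubgroup.toIntSubmodule (AddMonoidHom.range ψ')
  have hm : Module.finrank ℤ P ≤ r := by
    have := Submodule.finrank_le P
    rwa [Module.finrank_fin_fun] at this
  refine ⟨Module.finrank ℤ P, hm, ?_⟩
  let b : Module.Basis (Fin (Module.finrank ℤ P)) ℤ P := Module.finBasis ℤ P
  let a1 : Additive N ≃+ AddMonoidHom.range ψ' := AddMonoidHom.ofInjective hψ'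
  let a2 : (AddMonoidHom.range ψ') ≃+ P := AddEquiv.refl _
  let a3 : P ≃+ (Fin (Module.finrank ℤ P) → ℤ) := b.equivFun.toAddEquiv
  let θ : N ≃* Multiplicative (Fin (Module.finrank ℤ P) → ℤ) :=
    AddEquiv.toMultiplicativeRight ((a1.trans a2).trans a3)
  obtain ⟨c⟩ := Groth.Agent.Sga3A.FibTorus.exists_congr K θ
  exact ⟨e.trans c⟩

end K14.TorGenSplit
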