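import Groth.Agent.SGA3x.K14.TorGenTriv
import Groth.Agent.SGA3x.K14.TorGenHopf
import Groth.Agent.SGA3x.K14.TorGenInt
import Groth.Agent.SGA3x.K14.TorGenSplit
import Groth.Agent.SGA3x.K14.CentMaxTorus

/-!
# Generisation of a torus: the functions on the closure of the torsion

`V` a local domain, separated for the adic topology, `K` its fraction field, `u k : D((ℤ/q^k)^r) ⟶ G` a coherent family
over `V` which extends to `φ i : D(ℤ^r) ⟶ G` over every `V/𝔪^(i+1)`. A closed affine subgroup `Spec D` of `G_K`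
containing the `u k` as a dense family satisfies `D ⊆ K[ℤ^r]`.
-/

set_option autoImplicit false
universe u
open CategoryTheory MonoidalCategory CartesianMonoidalCategory MonObj GrpObj AlgebraicGeometry Limits

namespace K14.TorGenCore

open Groth.Agent Groth.Agent.Sga3B Groth.Agent.Sga3B.DSPts Groth.Agent.Sga3B.RG.BrDiag Groth.Agent.Books.AffBridge
open K211.TorsQ K14.TorGenTriv K14.TorGenInt

section diag

variable {R C : Type u} [CommRing R] [CommRing C] [Algebra R C] {M N : Type} [AddCommGroup M] [AddCommGroup N]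

lemma toSpecΓ_inv (A : CommRingCat.{u}) : (Spec A).toSpecΓ ≫ Spec.map (Scheme.ΓSpecIso A).inv = 𝟙 _ := by
  have h := InfConj.toSpecΓ_SpecMap_eq (C := A) (𝟙 (Spec A))
  rw [Scheme.Hom.id_appTop, Category.comp_id] at h
  exact h

lemma toSpecΓ_map (A B : CommRingCat.{u}) (f : B ⟶ A) (g : B ⟶ Γ(Spec A, ⊤)) (h : g = f ≫ (Scheme.ΓSpecIso A).inv) :
    (Spec A).toSpecΓ ≫ Spec.map g = Spec.map f := by
  rw [h, Spec.map_comp, ← Category.assoc, toSpecΓ_inv, Category.id_comp]

lemma dsFst_diagTo (R : Type u) [CommRing R] (N : Type) [AddCommGroup N] :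
    dsFst (diagTo R N) = Spec.map (CommRingCat.ofHom (charHom (MonoidAlgebra.of R (Multiplicative N)))) := by
  rw [diagTo, dsFst_dsEquiv]
  have h1 : charHom ((gEquiv R (MonoidAlgebra R (Multiplicative N))).toRingHom.toMonoidHom.comp
      (MonoidAlgebra.of R (Multiplicative N))) =
      (Scheme.ΓSpecIso (CommRingCat.of (MonoidAlgebra R (Multiplicative N)))).inv.hom.comp
        (charHom (MonoidAlgebra.of R (Multiplicative N))) := by
    rw [comp_charHom]
    rfl
  exact toSpecΓ_map (CommRingCat.of (MonoidAlgebra R (Multiplicative N)))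
    (CommRingCat.of (MonoidAlgebra (ULift.{u} ℤ) (Multiplicative N)))
    (CommRingCat.ofHom (charHom (MonoidAlgebra.of R (Multiplicative N)))) _ (CommRingCat.hom_ext h1)

lemma dsL_fst {S S' : Scheme.{u}} (v : S' ⟶ S) (N : Type) [AddCommGroup N] :
    dsL v N ≫ pullback.fst (Red.diag (ULift.{u} ℤ) N).hom (specULiftZIsTerminal.from S) =
      pullback.fst (Red.diag (ULift.{u} ℤ) N).hom (specULiftZIsTerminal.from S') := by
  rw [dsL, Category.assoc]
  exact Parab.DynBc998.dsBcIso_left v N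

lemma dsL_hom {S S' : Scheme.{u}} (v : S' ⟶ S) (N : Type) [AddCommGroup N] :
    dsL v N ≫ (Red.DS S N).hom = (Red.DS S' N).hom ≫ v := by
  rw [dsL, Category.assoc, pullback.condition, ← Category.assoc]
  exact congrArg (fun z => z ≫ v) (Over.w (dsI v N))

/-- Base change of the group algebra. -/
theorem diagTo_dsL (R C : Type u) [CommRing R] [CommRing C] [Algebra R C] (N : Type) [AddCommGroup N] :
    (diagTo C N).left ≫ dsL (gen R C) N =
      Spec.map (CommRingCat.ofHom (MonoidAlgebra.mapRingHom (Multiplicative N) (algebraMap R C))) ≫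
        (diagTo R N).left := by
  apply pullback.hom_ext
  · rw [Category.assoc]
    refine (congrArg (fun z => (diagTo C N).left ≫ z) (dsL_fst (gen R C) N)).trans ?_
    have h1 := dsFst_diagTo C N
    have h2 := dsFst_diagTo R N
    refine Eq.trans h1 ?_
    refine Eq.trans ?_ ((congrArg (fun z => Spec.map (CommRingCat.ofHom
      (MonoidAlgebra.mapRingHom (Multiplicative N) (algebraMap R C))) ≫ z) h2).symm.trans (Category.assoc _ _ _).symm)
    rw [← Spec.map_comp, ← CommRingCat.ofHom_comp, comp_charHom]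
    congr 3
    refine MonoidHom.ext fun m => ?_
    simp
  · have h1 := Over.w (diagTo C N)
    have h2 := Over.w (diagTo R N)
    rw [Category.assoc]
    refine (congrArg (fun z => (diagTo C N).left ≫ z) (dsL_hom (gen R C) N)).trans ?_
    refine Eq.trans ?_ ((congrArg (fun z => Spec.map (CommRingCat.ofHom
      (MonoidAlgebra.mapRingHom (Multiplicative N) (algebraMap R C))) ≫ z) h2).symm.trans (Category.assoc _ _ _).symm)
    rw [← Category.assoc]
    refine (congrArg (fun z => z ≫ gen R C) h1).trans ?_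
    change Spec.map (CommRingCat.ofHom (algebraMap C (MonoidAlgebra C (Multiplicative N)))) ≫ gen R C =
      Spec.map _ ≫ Spec.map (CommRingCat.ofHom (algebraMap R (MonoidAlgebra R (Multiplicative N))))
    rw [gen, ← Spec.map_comp, ← Spec.map_comp, ← CommRingCat.ofHom_comp, ← CommRingCat.ofHom_comp]
    congr 2
    refine RingHom.ext fun x => ?_
    simp

/-- The map of group algebras. -/
noncomputable abbrev mdA (R : Type u) [CommRing R] (φ : M →+ N) :
    MonoidAlgebra R (Multiplicative M) →ₐ[R] MonoidAlgebra R (Multiplicative N) :=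
  MonoidAlgebra.mapDomainAlgHom R R (AddMonoidHom.toMultiplicative φ)

lemma diagTo_DSmap (R : Type u) [CommRing R] (φ : M →+ N) :
    diagTo R N ≫ Red.DSmap (Spec (CommRingCat.of R)) φ = specMap R (mdA R φ) ≫ diagTo R M := by
  rw [specMap_diagTo, diagTo, dsEquiv_DSmap]
  change _ = DSPts.dsEquiv _ M _
  congr 1
  refine MonoidHom.ext fun m => ?_
  simp [mdA]

/-- `Spec R[N]` over `Spec R`. -/
noncomputable def SG (R : Type u) [CommRing R] (N : Type) [AddCommGroup N] : Over (Spec (CommRingCat.of R)) :=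
  SpecOver R (MonoidAlgebra R (Multiplicative N))

/-- `Spec R[N] ⟶ D(N)`. -/
noncomputable def dTo (R : Type u) [CommRing R] (N : Type) [AddCommGroup N] :
    SG R N ⟶ Red.DS (Spec (CommRingCat.of R)) N := diagTo R N

/-- The map `Spec R[N] ⟶ Spec D`. -/
noncomputable def sMap {D : Type u} [CommRing D] [Algebra R D] (ε : D →ₐ[R] MonoidAlgebra R (Multiplicative N)) :
    SG R N ⟶ SpecOver R D := specMap R ε

/-- The map `Spec R[N] ⟶ Spec R[M]`. -/
noncomputable def gMap (R : Type u) [CommRing R] (φ : M →+ N) : SG R N ⟶ SG R M := specMap R (mdA R φ)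

lemma dTo_DSmap (R : Type u) [CommRing R] (φ : M →+ N) :
    dTo R N ≫ Red.DSmap (Spec (CommRingCat.of R)) φ = gMap R φ ≫ dTo R M := diagTo_DSmap R φ

lemma gMap_sMap {D : Type u} [CommRing D] [Algebra R D] (ε : D →ₐ[R] MonoidAlgebra R (Multiplicative M)) (φ : M →+ N) :
    sMap ((mdA R φ).comp ε) = gMap R φ ≫ sMap ε := specMap_comp R ε (mdA R φ)

lemma sMap_injective {D : Type u} [CommRing D] [Algebra R D] {ε ε' : D →ₐ[R] MonoidAlgebra R (Multiplicative N)}
    (h : sMap ε = sMap ε') : ε = ε' := specMap_injective R h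

lemma dTo_dsL (R C : Type u) [CommRing R] [CommRing C] [Algebra R C] (N : Type) [AddCommGroup N] :
    (dTo C N).left ≫ dsL (gen R C) N =
      Spec.map (CommRingCat.ofHom (MonoidAlgebra.mapRingHom (Multiplicative N) (algebraMap R C))) ≫ (dTo R N).left :=
  diagTo_dsL R C N

end diag

section field

lemma exists_field {K : Type u} [inst : CommRing K] (hF : IsField K) : ∃ F : Field K, F.toCommRing = inst :=
  ⟨hF.toField, rfl⟩

theorem exists_rho {K V : Type u} [inst : CommRing K] (hF : IsField K) [CommRing V] [Algebra V K] {M : Type} [AddCommGroup M]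
    {Γ : ℕ → Type} [∀ k, AddCommGroup (Γ k)] (𝔪 : Ideal V) (h𝔪 : ∀ x : V, (∀ i : ℕ, x ∈ 𝔪 ^ i) → x = 0)
    (hK : Function.Injective (algebraMap V K))
    (p : ∀ {j k : ℕ}, j ≤ k → Γ k →+ Γ j) (π : ∀ k, M →+ Γ k) (hπ : ∀ {j k} (h : j ≤ k) z, p h (π k z) = π j z)
    (hsep : ∀ S : Finset M, ∃ k, Set.InjOn (π k) S)
    {D : Type u} [CommRing D] [Bialgebra K D] (ε : ∀ k, D →ₐc[K] MonoidAlgebra K (Multiplicative (Γ k)))
    (hε : ∀ b, (∀ k, ε k b = 0) → b = 0)
    (hεp : ∀ {j k} (h : j ≤ k) b,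
      MonoidAlgebra.mapDomain (AddMonoidHom.toMultiplicative (p h)) (ε k b) = ε j b)
    (hint : ∀ b : D, ∃ (c : V) (_ : c ≠ 0) (a : ∀ k, MonoidAlgebra V (Multiplicative (Γ k)))
      (x : ∀ i : ℕ, MonoidAlgebra (V ⧸ 𝔪 ^ i) (Multiplicative M)),
      (∀ k, MonoidAlgebra.mapRingHom _ (algebraMap V K) (a k) = algebraMap V K c • ε k b) ∧
      ∀ i k, MonoidAlgebra.mapDomain (AddMonoidHom.toMultiplicative (π k)) (x i) =
        MonoidAlgebra.mapRingHom _ (Ideal.Quotient.mk (𝔪 ^ i)) (a k)) :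
    ∃ ρ : D →ₐc[K] MonoidAlgebra K (Multiplicative M), Function.Injective ρ := by
  obtain ⟨F, rfl⟩ := exists_field hF
  obtain ⟨ρ, h1, -⟩ := K14.TorGenHopf.exists_rho 𝔪 h𝔪 hK p π hπ hsep ε hε hεp hint
  exact ⟨ρ, h1⟩

theorem exists_integral_ring {V K D : Type u} [CommRing V] [IsDomain V] [inst : CommRing K] (hF : IsField K)
    [Algebra V K] [IsFractionRing V K] [CommRing D] [Algebra K D] [Algebra V D] [IsScalarTower V K D]
    {X : Scheme.{u}} (q : X ⟶ Spec (.of V)) [CompactSpace X] [QuasiSeparatedSpace X]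
    (j : Spec (.of D) ⟶ X) [Flat (gen V K)] [Mono (gen V K)]
    (w : j ≫ q = Spec.map (CommRingCat.ofHom (algebraMap K D)) ≫ gen V K)
    [IsClosedImmersion (pullback.lift j _ w)]
    {A A' C : ℕ → Type u} {B : ℕ → ℕ → Type u} [∀ k, CommRing (A k)] [∀ k, CommRing (A' k)] [∀ i, CommRing (C i)]
    [∀ i k, CommRing (B i k)]
    (α : ∀ k, A k →+* A' k) (hα : ∀ k, Function.Injective (α k)) (u : ∀ k, Spec (.of (A k)) ⟶ X)
    (ε : ∀ k, D →+* A' k)
    (hu : ∀ k, Spec.map (CommRingCat.ofHom (α k)) ≫ u k = Spec.map (CommRingCat.ofHom (ε k)) ≫ j)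
    (φ : ∀ i, Spec (.of (C i)) ⟶ X) (β : ∀ i k, C i →+* B i k) (δ : ∀ i k, A k →+* B i k)
    (hβ : ∀ i x, (∀ k, β i k x = 0) → x = 0)
    (hφ : ∀ i k, Spec.map (CommRingCat.ofHom (β i k)) ≫ φ i = Spec.map (CommRingCat.ofHom (δ i k)) ≫ u k)
    (b : D) :
    ∃ (c : V) (_ : c ≠ 0) (a : ∀ k, A k) (x : ∀ i, C i), (∀ k, α k (a k) = ε k (algebraMap V D c * b)) ∧
      ∀ i k, β i k (x i) = δ i k (a k) := by
  obtain ⟨F, rfl⟩ := exists_field hF
  exact exists_integral q j w α hα u ε hu φ β δ hβ hφ b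

theorem exists_split {K : Type u} [inst : CommRing K] (hF : IsField K) {D : Type u} [CommRing D] [HopfAlgebra K D] [Algebra.FiniteType K D]
    {r : ℕ} (ρ : D →ₐc[K] MonoidAlgebra K (Multiplicative (Fin r → ℤ))) (hρ : Function.Injective ρ) :
    ∃ m : ℕ, m ≤ r ∧ Nonempty (D ≃ₐc[K] MonoidAlgebra K (Multiplicative (Fin m → ℤ))) := by
  obtain ⟨F, rfl⟩ := exists_field hF
  exact K14.TorGenSplit.exists_split ρ hρ

end field

section core

variable {V : Type u} [CommRing V] [IsDomain V] [IsLocalRing V] {K : Type u} [CommRing K] [Algebra V K]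
  [IsFractionRing V K]

omit [IsDomain V] [IsLocalRing V] in
lemma flat_gen : Flat (gen V K) := by
  rw [HasRingHomProperty.Spec_iff (P := @Flat)]
  change (algebraMap V K).Flat
  rw [RingHom.flat_algebraMap_iff]
  exact IsLocalization.flat _ (nonZeroDivisors V)

omit [IsDomain V] [IsLocalRing V] in
lemma mono_gen : Mono (gen V K) := by
  have h1 : Epi (CommRingCat.ofHom (algebraMap V K)) := IsLocalization.epi (nonZeroDivisors V) K
  have h2 : Epi (gen V K).appTop := by
    have h3 := Scheme.ΓSpecIso_naturality (CommRingCat.ofHom (algebraMap V K))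
    have h4 : (gen V K).appTop = (Scheme.ΓSpecIso (CommRingCat.of V)).hom ≫ CommRingCat.ofHom (algebraMap V K) ≫
        (Scheme.ΓSpecIso (CommRingCat.of K)).inv := by
      rw [← Category.assoc, ← h3, Category.assoc, Iso.hom_inv_id, Category.comp_id]
    rw [h4]
    infer_instance
  refine ⟨fun {Z} a b h => ext_of_isAffine ?_⟩
  have h5 := congrArg (fun f => f.appTop) h
  simp only [Scheme.Hom.comp_appTop] at h5
  exact (cancel_epi _).1 h5

/-- the ring `V/𝔪^(i+1)` -/
abbrev Qi (V : Type u) [CommRing V] [IsLocalRing V] (i : ℕ) : Type u := V ⧸ IsLocalRing.maximalIdeal V ^ (i + 1)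

lemma mapRingHom_injective {R C : Type*} [CommRing R] [CommRing C] (f : R →+* C) (hf : Function.Injective f) (G : Type*)
    [Monoid G] : Function.Injective (MonoidAlgebra.mapRingHom G f) := by
  intro x y h
  apply MonoidAlgebra.coeff_injective
  ext g
  have h1 := congrArg (fun z => MonoidAlgebra.coeff z g) h
  simp only [MonoidAlgebra.coeff_mapRingHom] at h1
  exact hf h1

lemma hsep' (r : ℕ) {q : ℕ} (hq : 1 < q) (S : Finset (Multiplicative (Fin r → ℤ))) :
    ∃ k, Set.InjOn (AddMonoidHom.toMultiplicative (cz r (q ^ k))) (S : Set (Multiplicative (Fin r → ℤ))) := by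
  classical
  obtain ⟨k, hk⟩ := exists_injOn r hq (S.image Multiplicative.toAdd)
  refine ⟨k, fun x hx y hy h => ?_⟩
  exact congrArg Multiplicative.ofAdd (hk k le_rfl (Finset.mem_coe.2 (Finset.mem_image_of_mem _ hx))
    (Finset.mem_coe.2 (Finset.mem_image_of_mem _ hy)) (congrArg Multiplicative.toAdd h))

/-- Points of `G` over `C` given by a homomorphism over `V`. -/
lemma point_eq {V C : Type u} [CommRing V] [CommRing C] [Algebra V C] {N : Type} [AddCommGroup N]
    {G : Over (Spec (CommRingCat.of V))} (u : Red.DS (Spec (CommRingCat.of V)) N ⟶ G) :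
    Spec.map (CommRingCat.ofHom (MonoidAlgebra.mapRingHom (Multiplicative N) (algebraMap V C))) ≫
      (dTo V N).left ≫ u.left = (dTo C N ≫ bcD (gen V C) u).left ≫ pullback.fst G.hom (gen V C) := by
  have h1 := dTo_dsL V C N
  have h2 := bcD_left (gen V C) u
  refine (Category.assoc _ _ _).symm.trans ?_
  refine (congrArg (fun z => z ≫ u.left) h1.symm).trans ?_
  refine (Category.assoc _ _ _).trans ?_
  refine (congrArg (fun z => (dTo C N).left ≫ z) h2.symm).trans ?_
  exact (Category.assoc _ _ _).symm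

lemma hsep (r : ℕ) {q : ℕ} (hq : 1 < q) (S : Finset (Fin r → ℤ)) : ∃ k, Set.InjOn (cz r (q ^ k)) S := by
  obtain ⟨k, hk⟩ := exists_injOn r hq S
  exact ⟨k, hk k le_rfl⟩

variable {M : Type} [AddCommGroup M] {Γ : ℕ → Type} [∀ k, AddCommGroup (Γ k)] (π : ∀ k, M →+ Γ k)

omit [IsDomain V] [IsLocalRing V] in
lemma point_eq₂ {Vi : Type u} [CommRing Vi] [Algebra V Vi] {N : Type} [AddCommGroup N] (π : M →+ N)
    {G : Over (Spec (CommRingCat.of V))} (u : Red.DS (Spec (CommRingCat.of V)) N ⟶ G)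
    (φ : Red.DS (Spec (CommRingCat.of Vi)) M ⟶ Red.bc (gen V Vi) G)
    (hφ : Red.DSmap _ π ≫ φ = bcD (gen V Vi) u) :
    (gMap Vi π).left ≫ (dTo Vi M).left ≫ φ.left ≫ pullback.fst G.hom (gen V Vi) =
      Spec.map (CommRingCat.ofHom (MonoidAlgebra.mapRingHom (Multiplicative N) (algebraMap V Vi))) ≫
      (dTo V N).left ≫ u.left := by
  rw [point_eq]
  have h1 : gMap Vi π ≫ dTo Vi M ≫ φ = dTo Vi N ≫ bcD (gen V Vi) u := by
    rw [← hφ, ← Category.assoc, ← dTo_DSmap, Category.assoc]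
  rw [← h1]
  simp only [Over.comp_left, Category.assoc]

omit [IsDomain V] [IsLocalRing V] [IsFractionRing V K] in
lemma point_eq₁ {N : Type} [AddCommGroup N] {G : Over (Spec (CommRingCat.of V))}
    (u : Red.DS (Spec (CommRingCat.of V)) N ⟶ G)
    {D : Type u} [CommRing D] [Algebra K D] (j : SpecOver K D ⟶ Red.bc (gen V K) G)
    (ε : D →ₐ[K] MonoidAlgebra K (Multiplicative N)) (hε : sMap ε ≫ j = dTo K N ≫ bcD (gen V K) u) :
    Spec.map (CommRingCat.ofHom (MonoidAlgebra.mapRingHom (Multiplicative N) (algebraMap V K))) ≫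
      (dTo V N).left ≫ u.left = Spec.map (CommRingCat.ofHom ε.toRingHom) ≫ j.left ≫ pullback.fst G.hom (gen V K) := by
  refine (point_eq (C := K) u).trans ?_
  rw [← hε]
  exact Category.assoc _ _ _

theorem exists_integral' (hF : IsField K)
    (hsep : ∀ S : Finset (Multiplicative M), ∃ k, Set.InjOn (AddMonoidHom.toMultiplicative (π k)) (S : Set _))
    {G : Over (Spec (CommRingCat.of V))} [CompactSpace G.left] [QuasiSeparatedSpace G.left]
    (u : ∀ k, Red.DS (Spec (CommRingCat.of V)) (Γ k) ⟶ G)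
    (φ : ∀ i : ℕ, Red.DS (Spec (CommRingCat.of (Qi V i))) M ⟶ Red.bc (gen V (Qi V i)) G)
    (hφ : ∀ i k, Red.DSmap _ (π k) ≫ φ i = bcD (gen V (Qi V i)) (u k))
    {D : Type u} [CommRing D] [Algebra K D]
    (j : SpecOver K D ⟶ Red.bc (gen V K) G) [IsClosedImmersion j.left]
    (ε : ∀ k, D →ₐ[K] MonoidAlgebra K (Multiplicative (Γ k)))
    (hεj : ∀ k, sMap (ε k) ≫ j = dTo K _ ≫ bcD (gen V K) (u k)) (b : D) :
    ∃ (c : V) (_ : c ≠ 0) (a : ∀ k, MonoidAlgebra V (Multiplicative (Γ k)))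
      (x : ∀ i, MonoidAlgebra (Qi V i) (Multiplicative M)),
      (∀ k, MonoidAlgebra.mapRingHom _ (algebraMap V K) (a k) = algebraMap V K c • ε k b) ∧
      ∀ i k, MonoidAlgebra.mapDomain (AddMonoidHom.toMultiplicative (π k)) (x i) =
        MonoidAlgebra.mapRingHom _ (algebraMap V (Qi V i)) (a k) := by
  have i1 : Flat (gen V K) := flat_gen
  have i2 : Mono (gen V K) := mono_gen
  let alg : Algebra V D := ((algebraMap K D).comp (algebraMap V K)).toAlgebra
  have hst : IsScalarTower V K D := IsScalarTower.of_algebraMap_eq fun x => rfl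
  let jj : Spec (CommRingCat.of D) ⟶ G.left := j.left ≫ pullback.fst G.hom (gen V K)
  have w : jj ≫ G.hom = Spec.map (CommRingCat.ofHom (algebraMap K D)) ≫ gen V K := by
    change (j.left ≫ pullback.fst G.hom (gen V K)) ≫ G.hom = _
    rw [Category.assoc, pullback.condition, ← Category.assoc]
    exact congrArg (fun z => z ≫ gen V K) (Over.w j)
  have hl : pullback.lift jj _ w = j.left := by
    apply pullback.hom_ext
    · rw [pullback.lift_fst]
    · rw [pullback.lift_snd]
      exact (Over.w j).symm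
  have hcl : IsClosedImmersion (pullback.lift jj _ w) := by
    rw [hl]; exact ‹IsClosedImmersion j.left›
  have hinj : Function.Injective (algebraMap V K) := IsFractionRing.injective V K
  obtain ⟨c, hc, a, x, h1, h2⟩ := exists_integral_ring hF G.hom jj w
    (A := fun k => MonoidAlgebra V (Multiplicative (Γ k)))
    (A' := fun k => MonoidAlgebra K (Multiplicative (Γ k)))
    (C := fun i => MonoidAlgebra (Qi V i) (Multiplicative M))
    (B := fun i k => MonoidAlgebra (Qi V i) (Multiplicative (Γ k)))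
    (fun k => MonoidAlgebra.mapRingHom _ (algebraMap V K))
    (fun k => mapRingHom_injective _ hinj _)
    (fun k => (dTo V (Γ k)).left ≫ (u k).left)
    (fun k => (ε k).toRingHom)
    (fun k => point_eq₁ (u k) j (ε k) (hεj k))
    (fun i => (dTo (Qi V i) M).left ≫ (φ i).left ≫ pullback.fst G.hom (gen V (Qi V i)))
    (fun i k => (mdA (Qi V i) (π k)).toRingHom)
    (fun i k => MonoidAlgebra.mapRingHom _ (algebraMap V (Qi V i)))
    (fun i x hx => K14.TorGenHopf.sep _ hsep x hx)
    (fun i k => point_eq₂ (π k) (u k) (φ i) (hφ i k)) b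
  refine ⟨c, hc, a, x, fun k => ?_, h2⟩
  rw [h1]
  change ε k (algebraMap V D c * b) = _
  rw [IsScalarTower.algebraMap_apply V K D, ← Algebra.smul_def, map_smul]

omit [IsDomain V] in
/-- Reindexing of the elements `x i`. -/
lemma exists_reindex (a : ∀ k, MonoidAlgebra V (Multiplicative (Γ k)))
    (x : ∀ i, MonoidAlgebra (Qi V i) (Multiplicative M))
    (h : ∀ i k, MonoidAlgebra.mapDomain (AddMonoidHom.toMultiplicative (π k)) (x i) =
        MonoidAlgebra.mapRingHom _ (algebraMap V (Qi V i)) (a k)) :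
    ∃ x' : ∀ i : ℕ, MonoidAlgebra (V ⧸ IsLocalRing.maximalIdeal V ^ i) (Multiplicative M),
      ∀ i k, MonoidAlgebra.mapDomain (AddMonoidHom.toMultiplicative (π k)) (x' i) =
        MonoidAlgebra.mapRingHom _ (Ideal.Quotient.mk (IsLocalRing.maximalIdeal V ^ i)) (a k) := by
  have key : ∀ i, ∃ y : MonoidAlgebra (V ⧸ IsLocalRing.maximalIdeal V ^ i) (Multiplicative M),
      ∀ k, MonoidAlgebra.mapDomain (AddMonoidHom.toMultiplicative (π k)) y =
        MonoidAlgebra.mapRingHom _ (Ideal.Quotient.mk (IsLocalRing.maximalIdeal V ^ i)) (a k) := by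
    intro i
    cases i with
    | zero =>
      have hs : Subsingleton (V ⧸ IsLocalRing.maximalIdeal V ^ 0) := by
        rw [Ideal.Quotient.subsingleton_iff, pow_zero, Ideal.one_eq_top]
      refine ⟨0, fun k => ?_⟩
      apply MonoidAlgebra.coeff_injective
      ext g
      exact Subsingleton.elim _ _
    | succ i => exact ⟨x i, h i⟩
  choose x' hx' using key
  exact ⟨x', hx'⟩

omit [IsDomain V] [IsLocalRing V] [IsFractionRing V K] in
lemma bcD_eq {N N' : Type} [AddCommGroup N] [AddCommGroup N'] {G : Over (Spec (CommRingCat.of V))}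
    (u : Red.DS (Spec (CommRingCat.of V)) N ⟶ G) (u' : Red.DS (Spec (CommRingCat.of V)) N' ⟶ G) (φ : N →+ N')
    (h : Red.DSmap _ φ ≫ u = u') :
    bcD (gen V K) u' = Red.DSmap _ φ ≫ bcD (gen V K) u := by
  subst h
  exact bcD_DSmap _ _ _

omit [IsDomain V] [IsLocalRing V] [IsFractionRing V K] in
lemma compat_one {N N' : Type} [AddCommGroup N] [AddCommGroup N'] {G : Over (Spec (CommRingCat.of V))}
    (u : Red.DS (Spec (CommRingCat.of V)) N ⟶ G) (u' : Red.DS (Spec (CommRingCat.of V)) N' ⟶ G) (φ : N →+ N')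
    (h : Red.DSmap _ φ ≫ u = u') :
    dTo K N' ≫ bcD (gen V K) u' = gMap K φ ≫ dTo K N ≫ bcD (gen V K) u := by
  rw [bcD_eq u u' φ h, ← Category.assoc, dTo_DSmap, Category.assoc]

omit [IsDomain V] [IsLocalRing V] [IsFractionRing V K] in
/-- Compatibility of the evaluations. -/
lemma exists_compat {N N' : Type} [AddCommGroup N] [AddCommGroup N'] (p : N →+ N') {G : Over (Spec (CommRingCat.of V))}
    (u : Red.DS (Spec (CommRingCat.of V)) N ⟶ G) (u' : Red.DS (Spec (CommRingCat.of V)) N' ⟶ G)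
    (hcoh : Red.DSmap _ p ≫ u = u')
    {D : Type u} [CommRing D] [Algebra K D] (j : SpecOver K D ⟶ Red.bc (gen V K) G) [Mono j]
    (ε : D →ₐ[K] MonoidAlgebra K (Multiplicative N)) (ε' : D →ₐ[K] MonoidAlgebra K (Multiplicative N'))
    (hε : sMap ε ≫ j = dTo K N ≫ bcD (gen V K) u)
    (hε' : sMap ε' ≫ j = dTo K N' ≫ bcD (gen V K) u') (b : D) :
    MonoidAlgebra.mapDomain (AddMonoidHom.toMultiplicative p) (ε b) = ε' b := by
  have h1 : (mdA K p).comp ε = ε' := by
    apply sMap_injective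
    rw [gMap_sMap, ← cancel_mono j, Category.assoc, hε, hε', compat_one u u' p hcoh]
  exact congrArg (fun f => f b) h1

/-- **The functions of `D` form a subbialgebra of `K[M]`.** -/
theorem exists_emb' (hF : IsField K) (h𝔪 : ∀ x : V, (∀ i : ℕ, x ∈ IsLocalRing.maximalIdeal V ^ i) → x = 0)
    (p : ∀ {j k : ℕ}, j ≤ k → Γ k →+ Γ j) (hπ : ∀ {j k} (h : j ≤ k) z, p h (π k z) = π j z)
    (hsep : ∀ S : Finset M, ∃ k, Set.InjOn (π k) S)
    (hsep' : ∀ S : Finset (Multiplicative M), ∃ k, Set.InjOn (AddMonoidHom.toMultiplicative (π k)) (S : Set _))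
    {G : Over (Spec (CommRingCat.of V))} [CompactSpace G.left] [QuasiSeparatedSpace G.left]
    (u : ∀ k, Red.DS (Spec (CommRingCat.of V)) (Γ k) ⟶ G)
    (hcoh : ∀ j k (h : j ≤ k), Red.DSmap _ (p h) ≫ u k = u j)
    (φ : ∀ i : ℕ, Red.DS (Spec (CommRingCat.of (Qi V i))) M ⟶ Red.bc (gen V (Qi V i)) G)
    (hφ : ∀ i k, Red.DSmap _ (π k) ≫ φ i = bcD (gen V (Qi V i)) (u k))
    {D : Type u} [CommRing D] [Bialgebra K D]
    (j : SpecOver K D ⟶ Red.bc (gen V K) G) [IsClosedImmersion j.left]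
    (ε : ∀ k, D →ₐc[K] MonoidAlgebra K (Multiplicative (Γ k)))
    (hε : ∀ b, (∀ k, ε k b = 0) → b = 0)
    (ε' : ∀ k, D →ₐ[K] MonoidAlgebra K (Multiplicative (Γ k)))
    (hεε : ∀ k b, ε' k b = ε k b)
    (hεj : ∀ k, sMap (ε' k) ≫ j = dTo K (Γ k) ≫ bcD (gen V K) (u k)) :
    ∃ ρ : D →ₐc[K] MonoidAlgebra K (Multiplicative M), Function.Injective ρ := by
  have hjm : Mono j := Over.mono_of_mono_left j
  have hεp : ∀ {i k : ℕ} (h : i ≤ k) b, MonoidAlgebra.mapDomain
      (AddMonoidHom.toMultiplicative (p h)) (ε k b) = ε i b := by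
    intro i k h b
    rw [← hεε, ← hεε]
    exact exists_compat (p h) (u k) (u i) (hcoh i k h) j (ε' k) (ε' i) (hεj k) (hεj i) b
  have hint : ∀ b : D, ∃ (c : V) (_ : c ≠ 0) (a : ∀ k, MonoidAlgebra V (Multiplicative (Γ k)))
      (x : ∀ i : ℕ, MonoidAlgebra (V ⧸ IsLocalRing.maximalIdeal V ^ i) (Multiplicative M)),
      (∀ k, MonoidAlgebra.mapRingHom _ (algebraMap V K) (a k) = algebraMap V K c • ε k b) ∧
      ∀ i k, MonoidAlgebra.mapDomain (AddMonoidHom.toMultiplicative (π k)) (x i) =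
        MonoidAlgebra.mapRingHom _ (Ideal.Quotient.mk (IsLocalRing.maximalIdeal V ^ i)) (a k) := by
    intro b
    obtain ⟨c, hc, a, x, h1, h2⟩ := exists_integral' π hF hsep' u φ hφ j ε' hεj b
    obtain ⟨x', hx'⟩ := exists_reindex π a x h2
    exact ⟨c, hc, a, x', fun k => by rw [h1, hεε], hx'⟩
  exact exists_rho hF (IsLocalRing.maximalIdeal V) h𝔪 (IsFractionRing.injective V K) (fun {j k} h => p h) π hπ hsep ε hε
    hεp hint

end core

end K14.TorGenCore
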