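import Groth.Agent.Flat2C.AffineThickening
import Groth.Agent.AlgSp.K610.RedInd
import Groth.Agent.Desc.MorDescent
import Groth.Agent.Red.K217.QPatchGeo
import Groth.Agent.Sga3C.SubGrp
import Groth.Agent.Sga3B.RG.BrDiag
import Groth.Agent.SGA3x.K14.TorGenInt
import Groth.Prelude.Def_Red

/-!
# The closed subgroup generated by an increasing sequence of affine reduced groups over a field

* `exists_closure`: `G` a group scheme over a field `κ`, `m k : M k ⟶ G` an increasing sequence of homomorphisms from
  reduced affine group schemes which all factor, over an extension field, through one closed affine subscheme. There is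
  a closed affine subgroup scheme `E` of `G` containing all `M k` on which the family `(M k)` is dense.
-/

set_option autoImplicit false
universe u

open CategoryTheory CategoryTheory.Limits AlgebraicGeometry MonObj MonoidalCategory CartesianMonoidalCategory
open scoped TensorProduct

namespace K14.TorGenField

open Groth.Agent.Books.AffBridge Groth.Agent.Sga3B.AffPts K217.QPatchGeo

section alg

variable {κ : Type u} [Field κ] {B : Type u} [CommRing B] [Algebra κ B] {A : ℕ → Type u} [∀ k, CommRing (A k)]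
  [∀ k, Algebra κ (A k)]

/-- On a finite-dimensional subspace one member of a decreasing family with trivial intersection of the kernels is
injective. -/
theorem exists_injOn (ε : ∀ k, B →ₐ[κ] A k) (hmono : ∀ j k, j ≤ k → ∀ b, ε k b = 0 → ε j b = 0)
    (hε : ∀ b, (∀ k, ε k b = 0) → b = 0) (W : Submodule κ B) [FiniteDimensional κ W] :
    ∃ k, ∀ b ∈ W, ε k b = 0 → b = 0 := by
  let N : ℕ → Submodule κ W := fun k => LinearMap.ker ((ε k).toLinearMap.comp W.subtype)
  have hN : Antitone N := fun j k h x hx => hmono j k h _ hx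
  obtain ⟨n, hn⟩ := IsArtinian.monotone_stabilizes (R := κ) (M := W) ⟨fun k => OrderDual.toDual (N k), fun j k h => hN h⟩
  refine ⟨n, fun b hb h0 => ?_⟩
  refine hε b fun k => ?_
  rcases le_total n k with h | h
  · have h1 : N n = N k := congrArg OrderDual.ofDual (hn k h)
    have h2 : (⟨b, hb⟩ : W) ∈ N k := h1 ▸ (show (⟨b, hb⟩ : W) ∈ N n from h0)
    exact h2
  · exact hmono k n h b h0

/-- The tensor squares of a jointly injective decreasing family are jointly injective. -/
theorem tensor_injective (ε : ∀ k, B →ₐ[κ] A k) (hmono : ∀ j k, j ≤ k → ∀ b, ε k b = 0 → ε j b = 0)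
    (hε : ∀ b, (∀ k, ε k b = 0) → b = 0) (x : B ⊗[κ] B)
    (hx : ∀ k, Algebra.TensorProduct.map (ε k) (ε k) x = 0) : x = 0 := by
  obtain ⟨W, W', hW, hW', hx'⟩ := TensorProduct.exists_finite_submodule_of_setFinite {x} (Set.finite_singleton x)
  let U := W ⊔ W'
  have hU : FiniteDimensional κ U := Submodule.finiteDimensional_sup _ _
  obtain ⟨k, hk⟩ := exists_injOn ε hmono hε U
  obtain ⟨y, hy⟩ := hx' (Set.mem_singleton x)
  let iW : W →ₗ[κ] U := Submodule.inclusion le_sup_left
  let iW' : W' →ₗ[κ] U := Submodule.inclusion le_sup_right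
  let z : U ⊗[κ] U := TensorProduct.map iW iW' y
  have hz : TensorProduct.map U.subtype U.subtype z = x := by
    rw [← hy]
    change (TensorProduct.map U.subtype U.subtype ∘ₗ TensorProduct.map iW iW') y = _
    rw [← TensorProduct.map_comp]
    rfl
  let f : U →ₗ[κ] A k := (ε k).toLinearMap.comp U.subtype
  have hf : Function.Injective f := by
    rw [injective_iff_map_eq_zero]
    intro u hu
    exact Subtype.ext (hk u.1 u.2 hu)
  have h1 : TensorProduct.map f f z = 0 := by
    have h2 : TensorProduct.map f f = (TensorProduct.map (ε k).toLinearMap (ε k).toLinearMap).comp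
        (TensorProduct.map U.subtype U.subtype) := TensorProduct.map_comp _ _ _ _
    rw [h2, LinearMap.comp_apply, hz]
    exact hx k
  have h3 : Function.Injective (TensorProduct.map f f) := TensorProduct.map_injective_of_flat_flat f f hf hf
  have h4 : z = 0 := h3 (h1.trans (map_zero _).symm)
  rw [← hz, h4, map_zero]

end alg

/-- A morphism from an affine scheme factors through a closed subscheme if it does so on a jointly injective family. -/
theorem exists_factor_affine {Y H X : Scheme.{u}} [IsAffine Y] {I : Type*} {Y' : I → Scheme.{u}} (t : ∀ i, Y' i ⟶ Y)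
    (ht : ∀ b : Γ(Y, ⊤), (∀ i, (t i).appTop.hom b = 0) → b = 0) (z : H ⟶ X) [IsClosedImmersion z] (f : Y ⟶ X)
    (h : ∀ i, ∃ a, a ≫ z = t i ≫ f) : ∃ a, a ≫ z = f := by
  let p : pullback z f ⟶ Y := pullback.snd z f
  have hp : IsClosedImmersion p := inferInstance
  have hinj : Function.Injective p.appTop.hom := by
    rw [injective_iff_map_eq_zero]
    intro b hb
    refine ht b fun i => ?_
    obtain ⟨a, ha⟩ := h i
    have h1 : pullback.lift a (t i) ha ≫ p = t i := pullback.lift_snd _ _ _
    rw [← h1, Scheme.Hom.comp_appTop]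
    change (pullback.lift a (t i) ha).appTop.hom (p.appTop.hom b) = 0
    rw [hb, map_zero]
  have h2 : IsIso p := IsClosedImmersion.isIso_of_injective_of_isAffine hinj
  refine ⟨inv p ≫ pullback.fst z f, ?_⟩
  rw [Category.assoc, pullback.condition, IsIso.inv_hom_id_assoc]

open Groth.Agent.Sga3B.AffDvrHopf789 in
lemma ev_bijective {X : Scheme.{u}} {T : Type u} [CommRing T] (g : Spec (CommRingCat.of T) ⟶ X)
    (hg : IsIso g) : Function.Bijective (ev g) := by
  have h0 : IsIso g.appTop := inferInstanceAs (IsIso (g.app ⊤))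
  have h : IsIso (g.appTop ≫ (Scheme.ΓSpecIso (CommRingCat.of T)).hom) := inferInstance
  exact (ConcreteCategory.isIso_iff_bijective _).1 h

open Groth.Agent.Sga3B.AffDvrHopf789 in
/-- Functions on a product of two affine schemes over `κ` vanish if they vanish on a dense family of products. -/
theorem dense_tensor {κ : Type u} [Field κ] {E : Over (Spec (CommRingCat.of κ))} [IsAffine E.left]
    {M : ℕ → Over (Spec (CommRingCat.of κ))} [∀ k, IsAffine (M k).left] (c : ∀ k, M k ⟶ E)
    (hinc : ∀ j k, j ≤ k → ∃ f : M j ⟶ M k, f ≫ c k = c j)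
    (hc : ∀ b : Γ(E.left, ⊤), (∀ k, (c k).left.appTop.hom b = 0) → b = 0)
    (b : Γ((E ⊗ E).left, ⊤)) (hb : ∀ k, (c k ⊗ₘ c k).left.appTop.hom b = 0) : b = 0 := by
  obtain ⟨B, _, _, ⟨e⟩⟩ := Groth.Agent.Sga3B.RG.BrDiag.exists_specOver E
  have hM : ∀ k, ∃ (A : Type u) (_ : CommRing A) (_ : Algebra κ A), Nonempty (M k ≅ SpecOver κ A) := fun k =>
    Groth.Agent.Sga3B.RG.BrDiag.exists_specOver (M k)
  choose A _ _ hA using hM
  let a : ∀ k, M k ≅ SpecOver κ (A k) := fun k => (hA k).some
  let ε : ∀ k, B →ₐ[κ] A k := fun k => specPreimage κ ((a k).inv ≫ c k ≫ e.hom)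
  have hεs : ∀ k, specMap κ (ε k) = (a k).inv ≫ c k ≫ e.hom := fun k => specMap_specPreimage κ _
  have hmono : ∀ j k, j ≤ k → ∀ b, ε k b = 0 → ε j b = 0 := by
    intro j k h b hb
    obtain ⟨f, hf⟩ := hinc j k h
    have h1 : ε j = (specPreimage κ ((a j).inv ≫ f ≫ (a k).hom)).comp (ε k) := by
      apply specMap_injective κ
      rw [specMap_comp, hεs, hεs, specMap_specPreimage]
      simp only [Category.assoc, Iso.hom_inv_id_assoc]
      rw [reassoc_of% hf]
    rw [h1, AlgHom.comp_apply, hb, map_zero]
  have hε : ∀ b, (∀ k, ε k b = 0) → b = 0 := by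
    intro b hb
    let eL : Spec (CommRingCat.of B) ⟶ E.left := e.inv.left
    have hiso : IsIso eL := inferInstanceAs (IsIso ((Over.forget _).map e.inv))
    obtain ⟨s, rfl⟩ := (ev_bijective eL hiso).2 b
    have h1 : s = 0 := by
      refine hc s fun k => ?_
      let aL : Spec (CommRingCat.of (A k)) ⟶ (M k).left := (a k).inv.left
      have hiso' : IsIso aL := inferInstanceAs (IsIso ((Over.forget _).map (a k).inv))
      apply (ev_bijective aL hiso').1
      rw [map_zero, ← ev_comp]
      have h2 : aL ≫ (c k).left = Spec.map (CommRingCat.ofHom (ε k).toRingHom) ≫ eL := by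
        have h3 : (a k).inv ≫ c k = specMap κ (ε k) ≫ e.inv := by
          rw [hεs]; simp
        exact congrArg CommaMorphism.left h3
      rw [h2]
      exact (ev_specMap_comp (ε k).toRingHom eL s).trans (hb k)
    rw [h1, map_zero]
  let θ : SpecOver κ (B ⊗[κ] B) ⟶ E ⊗ E := pr B B ≫ (e.inv ⊗ₘ e.inv)
  have hθ : IsIso θ := inferInstance
  let θL : Spec (CommRingCat.of (B ⊗[κ] B)) ⟶ (E ⊗ E).left := θ.left
  have hθl : IsIso θL := inferInstanceAs (IsIso ((Over.forget _).map θ))
  apply (ev_bijective θL hθl).1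
  rw [map_zero]
  refine tensor_injective ε hmono hε _ fun k => ?_
  have h1 : specMap κ (Algebra.TensorProduct.map (ε k) (ε k)) ≫ θ =
      (pr (A k) (A k) ≫ ((a k).inv ⊗ₘ (a k).inv)) ≫ (c k ⊗ₘ c k) := by
    have h2 : specMap κ (Algebra.TensorProduct.map (ε k) (ε k)) ≫ pr B B =
        pr (A k) (A k) ≫ (specMap κ (ε k) ⊗ₘ specMap κ (ε k)) := by
      apply CartesianMonoidalCategory.hom_ext
      · rw [pr, pr, Category.assoc, lift_fst, Category.assoc, tensorHom_fst, lift_fst_assoc, ← specMap_comp,
          ← specMap_comp]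
        congr 1
        exact AlgHom.ext fun c => by simp
      · rw [pr, pr, Category.assoc, lift_snd, Category.assoc, tensorHom_snd, lift_snd_assoc, ← specMap_comp,
          ← specMap_comp]
        congr 1
        exact AlgHom.ext fun c => by simp
    have h3 : specMap κ (ε k) ≫ e.inv = (a k).inv ≫ c k := by
      rw [hεs]; simp
    rw [show θ = pr B B ≫ (e.inv ⊗ₘ e.inv) from rfl, reassoc_of% h2, tensorHom_comp_tensorHom, h3, Category.assoc,
      tensorHom_comp_tensorHom]
  let aL : Spec (CommRingCat.of (A k ⊗[κ] A k)) ⟶ (M k ⊗ M k).left :=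
    (pr (A k) (A k) ≫ ((a k).inv ⊗ₘ (a k).inv)).left
  have h4 : Spec.map (CommRingCat.ofHom (Algebra.TensorProduct.map (ε k) (ε k)).toRingHom) ≫ θL =
      aL ≫ (c k ⊗ₘ c k).left := congrArg CommaMorphism.left h1
  have h5 : ev (Spec.map (CommRingCat.ofHom (Algebra.TensorProduct.map (ε k) (ε k)).toRingHom) ≫ θL) b = 0 := by
    rw [h4, ev_comp, hb, map_zero]
  rw [ev_specMap_comp] at h5
  exact h5

/-- If `E` is the closure of the union of the images of the `m k` and the base changes of the `m k` to an extension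
field `L` factor through one closed affine subscheme, then `E` is affine. -/
theorem isAffine_of_factor {κ L : Type u} [Field κ] [Field L] [Algebra κ L]
    {G E : Over (Spec (CommRingCat.of κ))} (e : E ⟶ G) [IsClosedImmersion e.left]
    {M : ℕ → Over (Spec (CommRingCat.of κ))} (c : ∀ k, M k ⟶ E)
    (hd : Dense (⋃ k, Set.range (c k).left))
    {F : Scheme.{u}} (f : F ⟶ (Red.bc (Spec.map (CommRingCat.ofHom (algebraMap κ L))) G).left)
    [IsClosedImmersion f] [IsAffine F]
    (hF : ∀ k, ∃ g : (Red.bc (Spec.map (CommRingCat.ofHom (algebraMap κ L))) (M k)).left ⟶ F,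
      g ≫ f = ((Over.pullback (Spec.map (CommRingCat.ofHom (algebraMap κ L)))).map (c k ≫ e)).left) :
    IsAffine E.left := by
  let v : Spec (CommRingCat.of L) ⟶ Spec (CommRingCat.of κ) := Spec.map (CommRingCat.ofHom (algebraMap κ L))
  have hvflat : Flat v := inferInstance
  have hvsurj : Surjective v := inferInstance
  let eL : (Red.bc v E).left ⟶ (Red.bc v G).left := ((Over.pullback v).map e).left
  have heL : IsClosedImmersion eL := by
    have h1 := Groth.Agent.Sga3.H280.FlatClosure.isPullback_map_left v e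
    exact MorphismProperty.of_isPullback h1.flip ‹IsClosedImmersion e.left›
  let P := pullback f eL
  let p : P ⟶ (Red.bc v E).left := pullback.snd f eL
  have hp : IsClosedImmersion p := inferInstance
  have hPaff : IsAffine P := by
    have h1 : IsClosedImmersion (pullback.fst f eL) := inferInstance
    exact (IsClosedImmersion.isAffine_surjective_of_isAffine (pullback.fst f eL)).1
  have hps : Surjective p := by
    refine ⟨fun x => ?_⟩
    by_contra hx
    let pr : (Red.bc v E).left ⟶ E.left := pullback.fst E.hom v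
    have hpr : UniversallyOpen pr := inferInstance
    have hcl : IsClosed (Set.range p) := p.isClosedEmbedding.isClosed_range
    have hop : IsOpen (pr '' (Set.range p)ᶜ) := pr.isOpenMap _ hcl.isOpen_compl
    obtain ⟨y, ⟨z, hz, hzy⟩, hy⟩ := hd.inter_open_nonempty _ hop ⟨_, x, hx, rfl⟩
    obtain ⟨_, ⟨k, rfl⟩, w, hw⟩ := hy
    have h1 := Groth.Agent.Sga3.H280.FlatClosure.isPullback_map_left v (c k)
    obtain ⟨t, ht1, ht2⟩ := Scheme.exists_preimage_of_isPullback h1 z w (hzy.trans hw.symm)
    obtain ⟨g, hg⟩ := hF k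
    apply hz
    have h2 : g ≫ f = ((Over.pullback v).map (c k)).left ≫ eL := by
      rw [hg, Functor.map_comp, Over.comp_left]
    refine ⟨pullback.lift g _ h2 t, ?_⟩
    rw [← Scheme.Hom.comp_apply, pullback.lift_snd]
    exact ht1
  have h1 : IsAffine (Red.bc v E).left := Groth.Agent.Flat2C.AffineThickening.isAffine_of_thickening (i := p)
  have h2 : IsAffineHom (Red.bc v E).hom := inferInstance
  have h3 : IsAffineHom E.hom := by
    have h4 := Groth.Agent.Desc.MorDescent.descendsAlong_isAffineHom.{u}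
    exact MorphismProperty.of_pullback_snd_of_descendsAlong (P := @IsAffineHom) (f := E.hom) (g := v)
        (Q := @Surjective ⊓ @Flat ⊓ @QuasiCompact) ⟨⟨inferInstance, inferInstance⟩, inferInstance⟩ h2
  exact isAffine_of_isAffineHom E.hom

/-- **The closed subgroup generated by an increasing sequence of reduced affine groups.** -/
theorem exists_closure {κ L : Type u} [Field κ] [Field L] [Algebra κ L]
    (G : Over (Spec (CommRingCat.of κ))) [GrpObj G]
    {M : ℕ → Over (Spec (CommRingCat.of κ))} (grp : ∀ k, GrpObj (M k)) (m : ∀ k, M k ⟶ G) (hm : ∀ k, IsMonHom (m k))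
    (hred : ∀ k, IsReduced (M k).left) (haff : ∀ k, IsAffine (M k).left)
    (hinc : ∀ j k, j ≤ k → ∃ f : M j ⟶ M k, f ≫ m k = m j)
    {F : Scheme.{u}} (f : F ⟶ (Red.bc (Spec.map (CommRingCat.ofHom (algebraMap κ L))) G).left)
    [IsClosedImmersion f] [IsAffine F]
    (hF : ∀ k, ∃ g : (Red.bc (Spec.map (CommRingCat.ofHom (algebraMap κ L))) (M k)).left ⟶ F,
      g ≫ f = ((Over.pullback (Spec.map (CommRingCat.ofHom (algebraMap κ L)))).map (m k)).left) :
    ∃ (E : Over (Spec (CommRingCat.of κ))) (_ : GrpObj E) (e : E ⟶ G) (c : ∀ k, M k ⟶ E), IsMonHom e ∧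
      IsClosedImmersion e.left ∧ IsAffine E.left ∧ (∀ k, c k ≫ e = m k) ∧ (∀ k, IsMonHom (c k)) ∧
      ∀ b : Γ(E.left, ⊤), (∀ k, (c k).left.appTop.hom b = 0) → b = 0 := by
  let T : Set G.left := closure (⋃ k, Set.range (m k).left)
  obtain ⟨E, e, he, hEred, hrange⟩ := K610.RedInd.exists_reduced_closed G T isClosed_closure
  have hemono : Mono e := by
    have h1 : Mono ((Over.forget _).map e) := inferInstanceAs (Mono e.left)
    exact (Over.forget _).mono_of_mono_map h1
  have hc : ∀ k, ∃ c : M k ⟶ E, c ≫ e = m k := by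
    intro k
    have := hred k
    refine K610.RedInd.exists_factor e (m k) ?_
    rw [hrange]
    exact (Set.subset_iUnion (fun k => Set.range (m k).left) k).trans subset_closure
  choose c hc using hc
  have hd : Dense (⋃ k, Set.range (c k).left) := by
    have h1 : Topology.IsClosedEmbedding e.left := e.left.isClosedEmbedding
    rw [h1.isInducing.dense_iff]
    intro x
    have h2 : e.left '' (⋃ k, Set.range (c k).left) = ⋃ k, Set.range (m k).left := by
      rw [Set.image_iUnion]
      congr 1
      funext k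
      rw [← hc k]
      exact (Set.range_comp _ _).symm
    rw [h2]
    have h3 : e.left x ∈ Set.range e.left := ⟨x, rfl⟩
    rw [hrange] at h3
    exact h3
  have hEaff : IsAffine E.left := isAffine_of_factor (L := L) e c hd f (fun k => by
    obtain ⟨g, hg⟩ := hF k
    exact ⟨g, by rw [hg, hc]⟩)
  have hdense : ∀ b : Γ(E.left, ⊤), (∀ k, (c k).left.appTop.hom b = 0) → b = 0 := by
    intro b hb
    by_contra hne
    have h1 : E.left.basicOpen b ≠ ⊥ := fun h => hne ((AlgebraicGeometry.basicOpen_eq_bot_iff b).1 h)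
    have h2 : (E.left.basicOpen b : Set E.left).Nonempty := by
      rw [Set.nonempty_iff_ne_empty]
      intro h
      exact h1 (TopologicalSpace.Opens.ext h)
    obtain ⟨y, hy, hy'⟩ := hd.inter_open_nonempty _ (E.left.basicOpen b).2 h2
    obtain ⟨_, ⟨k, rfl⟩, w, rfl⟩ := hy'
    have h3 : w ∈ (c k).left ⁻¹ᵁ (E.left.basicOpen b) := hy
    rw [Scheme.preimage_basicOpen_top, hb k, Scheme.basicOpen_zero] at h3
    exact h3
  have hinc' : ∀ j k, j ≤ k → ∃ f : M j ⟶ M k, f ≫ c k = c j := by
    intro j k h
    obtain ⟨f, hf⟩ := hinc j k h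
    refine ⟨f, ?_⟩
    rw [← cancel_mono e, Category.assoc, hc, hf, hc]
  have hone : ∃ e₀ : 𝟙_ (Over (Spec (CommRingCat.of κ))) ⟶ E, e₀ ≫ e = η[G] := by
    refine ⟨η[M 0] ≫ c 0, ?_⟩
    have := hm 0
    rw [Category.assoc, hc, IsMonHom.one_hom]
  obtain ⟨grpE, heE⟩ := Groth.Agent.Sga3C.SubGrp.exists_grpObj_of_mono e (by
      have hEE : IsAffine (E ⊗ E).left := inferInstanceAs (IsAffine (pullback E.hom E.hom))
      obtain ⟨a, ha⟩ := exists_factor_affine (fun k => (c k ⊗ₘ c k).left)
        (fun b hb => dense_tensor c hinc' hdense b hb) e.left ((e ⊗ₘ e) ≫ μ[G]).left (fun k => by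
          refine ⟨(μ[M k] ≫ c k).left, ?_⟩
          rw [← Over.comp_left, ← Over.comp_left, Category.assoc, hc, IsMonHom.mul_hom,
            tensorHom_comp_tensorHom_assoc, hc])
      have ha' : a ≫ E.hom = (E ⊗ E).hom := by
        rw [← Over.w e, ← Category.assoc, ha]
        exact Over.w _
      refine ⟨Over.homMk a ha', ?_⟩
      ext1
      exact ha)
    hone (by
      obtain ⟨a, ha⟩ := exists_factor_affine (fun k => (c k).left) hdense e.left (e ≫ GrpObj.inv).left (fun k => by
          refine ⟨(GrpObj.inv ≫ c k).left, ?_⟩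
          rw [← Over.comp_left, ← Over.comp_left, Category.assoc, hc, reassoc_of% hc, GrpObj.inv_hom])
      have ha' : a ≫ E.hom = E.hom :=
        (congrArg (fun t => a ≫ t) (Over.w e).symm).trans ((Category.assoc _ _ _).symm.trans
          ((congrArg (fun t => t ≫ G.hom) ha).trans (Over.w (e ≫ GrpObj.inv))))
      refine ⟨Over.homMk a ha', ?_⟩
      ext1
      exact ha)
  refine ⟨E, grpE, e, c, heE, he, hEaff, hc, fun k => ?_, hdense⟩
  have h1 : IsMonHom (c k ≫ e) := by rw [hc]; exact hm k
  exact Groth.Agent.Sga3C.SubGrp.isMonHom_of_comp_mono (c k) e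

end K14.TorGenField
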