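import Groth.Agent.SGA3x.K14.TorGenTriv
import Groth.Agent.SGA3x.K14.TorGenField
import Groth.Agent.SGA3x.K14.TorGenCore
import Groth.Agent.SGA3x.K12.FibTrait
import Groth.Agent.AlgSp.K638.RedEt
import Groth.Agent.SGA3x.K18.NilHull
import Groth.Agent.AGF.K499.SepSplit

/-!
# Generisation of a torus: the fibres

* `exists_closure_fib`: the closed subgroup generated by a coherent family of finite étale subgroups of a fibre;
* `exists_thick`: the closed immersions `Spec (V ⧸ 𝔪) ⟶ Spec (V ⧸ 𝔪 ^ (i + 1))`;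
* `exists_phi`: homomorphisms `D(ℤ^r) ⟶ G` over the thickenings.
-/

set_option autoImplicit false
universe u
open CategoryTheory MonoidalCategory CartesianMonoidalCategory MonObj GrpObj AlgebraicGeometry Limits

namespace K14.TorGenFib

open Groth.Agent Groth.Agent.Sga3B K14.TorGenTriv K14.TorGenCore K14.TorGenInt K211.TorsQ K18.TorsFam

section bcC

variable {S S' S'' : Scheme.{u}}

/-- The inverse of `bcC`. -/
noncomputable def bcI (q : S'' ⟶ S') (h : S' ⟶ S) (G : Over S) [GrpObj G] :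
    Red.bc q (Red.bc h G) ⟶ Red.bc (q ≫ h) G :=
  (BcIso.bcCompIso q h G).inv.hom.hom

lemma bcI_bcC (q : S'' ⟶ S') (h : S' ⟶ S) (G : Over S) [GrpObj G] :
    bcI q h G ≫ bcC q h G = 𝟙 (Red.bc q (Red.bc h G)) :=
  congrArg (fun k => k.hom.hom) (BcIso.bcCompIso q h G).inv_hom_id

lemma bcC_bcI (q : S'' ⟶ S') (h : S' ⟶ S) (G : Over S) [GrpObj G] :
    bcC q h G ≫ bcI q h G = 𝟙 (Red.bc (q ≫ h) G) :=
  congrArg (fun k => k.hom.hom) (BcIso.bcCompIso q h G).hom_inv_id

instance isMonHom_bcC (q : S'' ⟶ S') (h : S' ⟶ S) (G : Over S) [GrpObj G] : IsMonHom (bcC q h G) :=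
  inferInstanceAs (IsMonHom (BcIso.bcCompIso q h G).hom.hom.hom)

instance isMonHom_bcI (q : S'' ⟶ S') (h : S' ⟶ S) (G : Over S) [GrpObj G] : IsMonHom (bcI q h G) :=
  inferInstanceAs (IsMonHom (BcIso.bcCompIso q h G).inv.hom.hom)

instance isIso_bcC (q : S'' ⟶ S') (h : S' ⟶ S) (G : Over S) [GrpObj G] : IsIso (bcC q h G) :=
  ⟨bcI q h G, bcC_bcI q h G, bcI_bcC q h G⟩

lemma bcI_nat (q : S'' ⟶ S') (h : S' ⟶ S) {F G : Over S} [GrpObj F] [GrpObj G] (f : F ⟶ G) :
    bcI q h F ≫ pbm (q ≫ h) f = pbm q (pbm h f) ≫ bcI q h G := by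
  have h1 := bcC_nat q h f
  have h2 : pbm (q ≫ h) f = (bcC q h F ≫ pbm q (pbm h f)) ≫ bcI q h G := by
    rw [← h1, Category.assoc, bcC_bcI, Category.comp_id]
  rw [h2, ← Category.assoc, ← Category.assoc, bcI_bcC, Category.id_comp]

end bcC

section fib

variable {S : Scheme.{u}} {κ : Type u} [Field κ]

lemma isReduced_affine {H : Over (Spec (CommRingCat.of κ))} (h1 : IsFinite H.hom) (h2 : Etale H.hom) :
    IsReduced H.left ∧ IsAffine H.left := by
  have h3 : IsReduced (Spec (CommRingCat.of κ)) := inferInstance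
  exact ⟨K638.RedEt.isReduced_of_etale H.hom, isAffine_of_isAffineHom H.hom⟩

/-- **The closed subgroup generated by a coherent family of finite étale subgroups of a fibre.** -/
theorem exists_closure_fib (i : Spec (CommRingCat.of κ) ⟶ S) {L : Type u} [Field L] [Algebra κ L] (G : Over S)
    [GrpObj G] {M : ℕ → Over S} (grp : ∀ k, GrpObj (M k)) (m : ∀ k, M k ⟶ G) (hm : ∀ k, IsMonHom (m k))
    (hfin : ∀ k, IsFinite (M k).hom) (het : ∀ k, Etale (M k).hom)
    (hinc : ∀ j k, j ≤ k → ∃ f : M j ⟶ M k, f ≫ m k = m j)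
    (hc : ∃ (F : Scheme.{u}) (f : F ⟶ (Red.bc (Spec.map (CommRingCat.ofHom (algebraMap κ L)) ≫ i) G).left),
      IsClosedImmersion f ∧ IsAffine F ∧
      ∀ k, ∃ g : (Red.bc (Spec.map (CommRingCat.ofHom (algebraMap κ L)) ≫ i) (M k)).left ⟶ F,
        g ≫ f = ((Over.pullback (Spec.map (CommRingCat.ofHom (algebraMap κ L)) ≫ i)).map (m k)).left) :
    ∃ (E : Over (Spec (CommRingCat.of κ))) (_ : GrpObj E) (e : E ⟶ Red.bc i G) (c : ∀ k, Red.bc i (M k) ⟶ E),
      IsMonHom e ∧ IsClosedImmersion e.left ∧ IsAffine E.left ∧ (∀ k, c k ≫ e = pbm i (m k)) ∧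
      (∀ k, IsMonHom (c k)) ∧ ∀ b : Γ(E.left, ⊤), (∀ k, (c k).left.appTop.hom b = 0) → b = 0 := by
  obtain ⟨F, f, hf, hF, hg⟩ := hc
  let v : Spec (CommRingCat.of L) ⟶ Spec (CommRingCat.of κ) := Spec.map (CommRingCat.ofHom (algebraMap κ L))
  let β : (Red.bc (v ≫ i) G).left ⟶ (Red.bc v (Red.bc i G)).left := (bcC v i G).left
  have hβ : IsIso β := inferInstanceAs (IsIso ((Over.forget _).map (bcC v i G)))
  have i1 : IsClosedImmersion (f ≫ β) := inferInstance
  have hf1 : ∀ k, IsFinite (Red.bc i (M k)).hom := fun k => by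
    have := hfin k
    exact inferInstanceAs (IsFinite (pullback.snd (M k).hom i))
  have hf2 : ∀ k, Etale (Red.bc i (M k)).hom := fun k => by
    have := het k
    exact inferInstanceAs (Etale (pullback.snd (M k).hom i))
  exact TorGenField.exists_closure (κ := κ) (L := L) (Red.bc i G) (fun k => inferInstance)
    (fun k => pbm i (m k)) (fun k => by have := hm k; infer_instance)
    (fun k => (isReduced_affine (hf1 k) (hf2 k)).1) (fun k => (isReduced_affine (hf1 k) (hf2 k)).2)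
    (fun j k h => by
      obtain ⟨f, hf⟩ := hinc j k h
      exact ⟨pbm i f, by rw [← pbm_comp, hf]⟩) (f ≫ β) (fun k => by
      obtain ⟨g, hg⟩ := hg k
      refine ⟨(bcI v i (M k)).left ≫ g, ?_⟩
      rw [Category.assoc, ← Category.assoc g, hg]
      have h1 : bcI v i (M k) ≫ pbm (v ≫ i) (m k) ≫ bcC v i G = pbm v (pbm i (m k)) := by
        rw [← Category.assoc, bcI_nat, Category.assoc, bcI_bcC, Category.comp_id]
      exact congrArg CommaMorphism.left h1)

end fib

section split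

lemma isSepClosed_of_eq {K : Type u} (F F' : Field K) (h : F.toCommRing = F'.toCommRing) (hs : @IsSepClosed K F) :
    @IsSepClosed K F' := by
  let e : @RingEquiv K K F.toMul F'.toMul F.toAdd F'.toAdd :=
    @RingEquiv.mk K K F.toMul F'.toMul F.toAdd F'.toAdd (Equiv.refl K)
      (fun a b => congrArg (fun R : CommRing K => R.mul a b) h)
      (fun a b => congrArg (fun R : CommRing K => R.add a b) h)
  exact @K499.SepSplit.isSepClosed_of_ringEquiv K K F F' hs e

/-- Tori over separably closed fields are split. -/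
theorem exists_split_field {K : Type u} [Field K] [IsSepClosed K] {T : Over (Spec (CommRingCat.of K))} [GrpObj T]
    (hT : Red.IsTorus T) : ∃ (r : ℕ) (e : Red.DS (Spec (CommRingCat.of K)) (Fin r → ℤ) ≅ T), IsMonHom e.hom := by
  obtain ⟨r, ⟨e⟩⟩ := Sga3.H832.ValExt.exists_isSplitTorusWith hT
  exact ⟨r, (RedIso.und e).symm, inferInstanceAs (IsMonHom (RedIso.und e).inv)⟩

theorem exists_split_comm {K : Type u} [CommRing K] (hF : IsField K)
    (hs : ∀ F : Field K, F.toCommRing = ‹CommRing K› → @IsSepClosed K F)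
    {T : Over (Spec (CommRingCat.of K))} [GrpObj T] (hT : Red.IsTorus T) :
    ∃ (r : ℕ) (e : Red.DS (Spec (CommRingCat.of K)) (Fin r → ℤ) ≅ T), IsMonHom e.hom := by
  obtain ⟨F, rfl⟩ := exists_field hF
  have := hs F rfl
  exact exists_split_field hT

theorem exists_split_res {V : Type u} [CommRing V] [IsLocalRing V] [hs : IsSepClosed (IsLocalRing.ResidueField V)]
    {T : Over (Spec (CommRingCat.of (V ⧸ IsLocalRing.maximalIdeal V)))} [GrpObj T] (hT : Red.IsTorus T) :
    ∃ (r : ℕ) (e : Red.DS (Spec (CommRingCat.of (V ⧸ IsLocalRing.maximalIdeal V))) (Fin r → ℤ) ≅ T),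
      IsMonHom e.hom :=
  exists_split_comm (Ideal.Quotient.maximal_ideal_iff_isField_quotient _ |>.1 inferInstance)
    (fun F h => isSepClosed_of_eq (K := V ⧸ IsLocalRing.maximalIdeal V)
      (IsLocalRing.ResidueField.field V) F h.symm hs) hT

end split

section thick

variable (V : Type u) [CommRing V] [IsLocalRing V]

/-- The special fibre. -/
noncomputable abbrev cl : Spec (CommRingCat.of (V ⧸ IsLocalRing.maximalIdeal V)) ⟶ Spec (CommRingCat.of V) :=
  Spec.map (CommRingCat.ofHom (Ideal.Quotient.mk (IsLocalRing.maximalIdeal V)))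

theorem exists_thick (i : ℕ) : ∃ i₀ : Spec (CommRingCat.of (V ⧸ IsLocalRing.maximalIdeal V)) ⟶
    Spec (CommRingCat.of (Qi V i)), IsClosedImmersion i₀ ∧ IsNilpotent i₀.ker ∧ i₀ ≫ gen V (Qi V i) = cl V := by
  have hle : IsLocalRing.maximalIdeal V ^ (i + 1) ≤ IsLocalRing.maximalIdeal V := Ideal.pow_le_self (by omega)
  let φ : Qi V i →+* (V ⧸ IsLocalRing.maximalIdeal V) := Ideal.Quotient.factor hle
  have hφ : Function.Surjective φ := Ideal.Quotient.factor_surjective hle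
  refine ⟨Spec.map (CommRingCat.ofHom φ), IsClosedImmersion.spec_of_surjective _ hφ, ⟨i + 1, ?_⟩, ?_⟩
  · apply K18.NilHull.ker_pow_eq_bot
    rw [CommRingCat.hom_ofHom]
    have h1 : RingHom.ker φ = (IsLocalRing.maximalIdeal V).map (Ideal.Quotient.mk _) := Ideal.Quotient.factor_ker hle
    rw [h1, ← Ideal.map_pow, Ideal.map_quotient_self]
  · change Spec.map _ ≫ Spec.map _ = Spec.map _
    rw [← Spec.map_comp, ← CommRingCat.ofHom_comp]
    rfl

end thick

section phi

/-- Homomorphisms over a nilpotent thickening. -/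
theorem exists_phi {S S₀ S₁ : Scheme.{u}} (i₀ : S₀ ⟶ S₁) [IsClosedImmersion i₀] (hn : IsNilpotent i₀.ker)
    (v : S₁ ⟶ S) (cl : S₀ ⟶ S) (h : i₀ ≫ v = cl) {r q : ℕ} (hq : 1 < q) {G : Over S} [GrpObj G]
    (u : ∀ k, Red.DS S (Fin r → ZMod (q ^ k)) ⟶ G) (hu : ∀ k, IsMonHom (u k))
    (hcoh : ∀ j k (h : j ≤ k), Red.DSmap _ (tz r (pow_dvd_pow q h)) ≫ u k = u j)
    (w : Red.DS S₀ (Fin r → ℤ) ⟶ Red.bc cl G) (hw' : IsMonHom w)
    (hw : ∀ k, bcD cl (u k) = Red.DSmap S₀ (cz r (q ^ k)) ≫ w) :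
    ∃ ψ : Red.DS S₁ (Fin r → ℤ) ⟶ Red.bc v G, ∀ k, Red.DSmap S₁ (cz r (q ^ k)) ≫ ψ = bcD v (u k) := by
  subst h
  have i1 : IsMonHom (w ≫ bcC i₀ v G) := inferInstance
  obtain ⟨ψ, -, hψ⟩ := exists_ext i₀ hn hq (fun k => bcD v (u k)) (fun k => by have := hu k; infer_instance)
    (fun j k h => by rw [← bcD_DSmap, hcoh j k h]) (w ≫ bcC i₀ v G) (fun k => by
      rw [bcD_bcD, hw, Category.assoc])
  exact ⟨ψ, hψ⟩

end phi

end K14.TorGenFib
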