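import Groth.Agent.SGA3x.K14.TorGenPieces

/-!
# Generisation of subtori with prescribed torsion: the trait case
-/

set_option autoImplicit false
universe u
open CategoryTheory MonoidalCategory CartesianMonoidalCategory MonObj GrpObj AlgebraicGeometry Limits

namespace K14.TorGenLoc

open Groth.Agent Groth.Agent.Sga3B K14.TorGenTriv K14.TorGenCore K14.TorGenInt K14.TorGenFib K14.TorGenTrait
  K14.TorGenPieces K211.TorsQ K18.TorsFam K13.NTorsion K18.TorSpec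

section core

variable {V : Type u} [CommRing V] [IsDomain V] [IsLocalRing V] {K : Type u} [CommRing K]
  [Algebra V K] [IsFractionRing V K] {r : ℕ} {Γ : ℕ → Type} [∀ k, AddCommGroup (Γ k)]
  (π : ∀ k, (Fin r → ℤ) →+ Γ k)

/-- The closed subgroup of the generic fibre is a torus with the prescribed torsion. -/
theorem core₀ (hF : IsField K) (h𝔪 : ∀ x : V, (∀ i : ℕ, x ∈ IsLocalRing.maximalIdeal V ^ i) → x = 0)
    (p : ∀ {j k : ℕ}, j ≤ k → Γ k →+ Γ j) (hπ : ∀ {j k} (h : j ≤ k) z, p h (π k z) = π j z)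
    (hsep : ∀ S : Finset (Fin r → ℤ), ∃ k, Set.InjOn (π k) S)
    (hsep' : ∀ S : Finset (Multiplicative (Fin r → ℤ)), ∃ k, Set.InjOn (AddMonoidHom.toMultiplicative (π k))
      (S : Set _))
    {q : ℕ} (hq : 1 < q) (hΓ : ∀ k (x : Γ k), (q ^ k) • x = 0) (hcard : ∀ k, Nat.card (Γ k) = (q ^ k) ^ r)
    {G : Over (Spec (CommRingCat.of V))} [CompactSpace G.left] [QuasiSeparatedSpace G.left]
    (u : ∀ k, Red.DS (Spec (CommRingCat.of V)) (Γ k) ⟶ G)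
    (hcoh : ∀ j k (h : j ≤ k), Red.DSmap _ (p h) ≫ u k = u j)
    (φ : ∀ i : ℕ, Red.DS (Spec (CommRingCat.of (Qi V i))) (Fin r → ℤ) ⟶ Red.bc (gen V (Qi V i)) G)
    (hφ : ∀ i k, Red.DSmap _ (π k) ≫ φ i = bcD (gen V (Qi V i)) (u k))
    {E : Over (Spec (CommRingCat.of K))} [GrpObj E] [IsAffine E.left] [LocallyOfFiniteType E.hom]
    (e : E ⟶ Red.bc (gen V K) G) [IsClosedImmersion e.left]
    (c : ∀ k, Red.DS (Spec (CommRingCat.of K)) (Γ k) ⟶ E) (hcm : ∀ k, IsMonHom (c k)) (hcm' : ∀ k, Mono (c k))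
    (hce : ∀ k, c k ≫ e = bcD (gen V K) (u k))
    (hd : ∀ b : Γ(E.left, ⊤), (∀ k, (c k).left.appTop.hom b = 0) → b = 0) :
    Red.IsTorus E ∧ ∀ k, IsTor (q ^ k) (c k) := by
  obtain ⟨m', hm'r, a, ha⟩ := exists_diag π hF h𝔪 p hπ hsep hsep' u hcoh φ hφ e c hcm hce hd
  obtain ⟨-, htor⟩ := isTor_of_mono hF hq hm'r hΓ hcard a c hcm hcm'
  exact ⟨TorusBc.isTorus_of_iso (Grp.mkIso' a).symm (MaxTorusCrit.isTorus_DS _ m'), htor⟩

variable {κ : Type u} [Field κ]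

/-- The generic fibre over the trait, with abstract trivialisations. -/
theorem core₁ (hF : IsField K) (h𝔪 : ∀ x : V, (∀ i : ℕ, x ∈ IsLocalRing.maximalIdeal V ^ i) → x = 0)
    (p : ∀ {j k : ℕ}, j ≤ k → Γ k →+ Γ j) (hπ : ∀ {j k} (h : j ≤ k) z, p h (π k z) = π j z)
    (hsep : ∀ S : Finset (Fin r → ℤ), ∃ k, Set.InjOn (π k) S)
    (hsep' : ∀ S : Finset (Multiplicative (Fin r → ℤ)), ∃ k, Set.InjOn (AddMonoidHom.toMultiplicative (π k))
      (S : Set _))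
    {q : ℕ} (hq : 1 < q) (hΓ : ∀ k (x : Γ k), (q ^ k) • x = 0) (hcard : ∀ k, Nat.card (Γ k) = (q ^ k) ^ r)
    {G : Over (Spec (CommRingCat.of V))} [CompactSpace G.left] [QuasiSeparatedSpace G.left]
    (u : ∀ k, Red.DS (Spec (CommRingCat.of V)) (Γ k) ⟶ G)
    (hcoh : ∀ j k (h : j ≤ k), Red.DSmap _ (p h) ≫ u k = u j)
    (φ : ∀ i : ℕ, Red.DS (Spec (CommRingCat.of (Qi V i))) (Fin r → ℤ) ⟶ Red.bc (gen V (Qi V i)) G)
    (hφ : ∀ i k, Red.DSmap _ (π k) ≫ φ i = bcD (gen V (Qi V i)) (u k))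
    (χ : Spec (CommRingCat.of K) ⟶ Spec (CommRingCat.of κ))
    {E : Over (Spec (CommRingCat.of κ))} [GrpObj E] (hE : IsAffine E.left)
    (hEf : LocallyOfFiniteType (Red.bc χ E).hom)
    (e : Red.bc χ E ⟶ Red.bc (gen V K) G) (he : IsClosedImmersion e.left)
    {M : ℕ → Over (Spec (CommRingCat.of κ))} [∀ k, GrpObj (M k)] (haff : ∀ k, IsAffine (M k).left)
    (c : ∀ k, M k ⟶ E) (hcm : ∀ k, IsMonHom (c k)) (hcm' : ∀ k, Mono (c k))
    (hinc : ∀ j k, j ≤ k → ∃ f : M j ⟶ M k, f ≫ c k = c j)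
    (hd : ∀ b : Γ(E.left, ⊤), (∀ k, (c k).left.appTop.hom b = 0) → b = 0)
    (d : ∀ k, Red.DS (Spec (CommRingCat.of K)) (Γ k) ⟶ Red.bc χ (M k)) (hdi : ∀ k, IsIso (d k))
    (hdm : ∀ k, IsMonHom (d k))
    (hce : ∀ k, (d k ≫ pbm χ (c k)) ≫ e = bcD (gen V K) (u k)) :
    Red.IsTorus (Red.bc χ E) ∧ ∀ k, IsTor (q ^ k) (pbm χ (c k)) := by
  have hEa : IsAffine (Red.bc χ E).left := isAffine_bc χ hE
  have hcm'' : ∀ k, IsMonHom (d k ≫ pbm χ (c k)) := fun k => by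
    have h1 := hcm k
    have h2 := hdm k
    infer_instance
  have hmono : ∀ k, Mono (d k ≫ pbm χ (c k)) := fun k => by
    have h1 := hdi k
    have h2 := hcm' k
    exact mono_comp _ _
  obtain ⟨h1, h2⟩ := core₀ π hF h𝔪 p hπ hsep hsep' hq hΓ hcard u hcoh φ hφ e
    (fun k => d k ≫ pbm χ (c k)) hcm'' hmono hce
    (fun b hb => dense_bc hF χ hE haff c hinc hd d hdi b hb)
  refine ⟨h1, fun k => ?_⟩
  have h3 := hdi k
  have h4 := isTor_iso_comp (h2 k) (inv (d k))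
  rwa [IsIso.inv_hom_id_assoc] at h4

variable {S : Scheme.{u}}

/-- The generic fibre over the trait. -/
theorem core (hF : IsField K) (h𝔪 : ∀ x : V, (∀ i : ℕ, x ∈ IsLocalRing.maximalIdeal V ^ i) → x = 0)
    (p : ∀ {j k : ℕ}, j ≤ k → Γ k →+ Γ j) (hπ : ∀ {j k} (h : j ≤ k) z, p h (π k z) = π j z)
    (hsep : ∀ S : Finset (Fin r → ℤ), ∃ k, Set.InjOn (π k) S)
    (hsep' : ∀ S : Finset (Multiplicative (Fin r → ℤ)), ∃ k, Set.InjOn (AddMonoidHom.toMultiplicative (π k))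
      (S : Set _))
    {q : ℕ} (hq : 1 < q) (hΓ : ∀ k (x : Γ k), (q ^ k) • x = 0) (hcard : ∀ k, Nat.card (Γ k) = (q ^ k) ^ r)
    (i : Spec (CommRingCat.of κ) ⟶ S) (α : Spec (CommRingCat.of V) ⟶ S)
    (χ : Spec (CommRingCat.of K) ⟶ Spec (CommRingCat.of κ)) (h : gen V K ≫ α = χ ≫ i)
    {G : Over S} [GrpObj G] [QuasiCompact G.hom] [QuasiSeparated G.hom] [LocallyOfFiniteType G.hom]
    {M : ℕ → Over S} [∀ k, GrpObj (M k)] (m : ∀ k, M k ⟶ G) (hm' : ∀ k, Mono (m k))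
    (haff : ∀ k, IsAffine (Red.bc i (M k)).left)
    (hinc : ∀ j k, j ≤ k → ∃ f : M j ⟶ M k, f ≫ m k = m j)
    (u : ∀ k, Red.DS (Spec (CommRingCat.of V)) (Γ k) ⟶ Red.bc α (M k)) (hu : ∀ k, IsMonHom (u k))
    (hui : ∀ k, IsIso (u k))
    (hcoh : ∀ j k (h : j ≤ k), Red.DSmap _ (p h) ≫ u k ≫ pbm α (m k) = u j ≫ pbm α (m j))
    (φ : ∀ i : ℕ, Red.DS (Spec (CommRingCat.of (Qi V i))) (Fin r → ℤ) ⟶ Red.bc (gen V (Qi V i)) (Red.bc α G))
    (hφ : ∀ i k, Red.DSmap _ (π k) ≫ φ i = bcD (gen V (Qi V i)) (u k ≫ pbm α (m k)))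
    {E : Over (Spec (CommRingCat.of κ))} [GrpObj E] (hE : IsAffine E.left)
    (e : E ⟶ Red.bc i G) [IsMonHom e] [IsClosedImmersion e.left]
    (c : ∀ k, Red.bc i (M k) ⟶ E) (hcm : ∀ k, IsMonHom (c k)) (hce : ∀ k, c k ≫ e = pbm i (m k))
    (hd : ∀ b : Γ(E.left, ⊤), (∀ k, (c k).left.appTop.hom b = 0) → b = 0) :
    Red.IsTorus (Red.bc χ E) ∧ ∀ k, IsTor (q ^ k) (pbm χ (c k)) := by
  have hemono : Mono e := mono_of_closed e
  have hG3 : CompactSpace (Red.bc α G).left := (compact_qs α).1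
  have hG4 : QuasiSeparatedSpace (Red.bc α G).left := (compact_qs α).2
  have hinc' : ∀ j k, j ≤ k → ∃ f : Red.bc i (M j) ⟶ Red.bc i (M k), f ≫ c k = c j := by
    intro j k hjk
    obtain ⟨f, hf⟩ := hinc j k hjk
    refine ⟨pbm i f, ?_⟩
    rw [← cancel_mono e, Category.assoc, hce, hce, ← pbm_comp, hf]
  have hcmono : ∀ k, Mono (c k) := fun k => by
    have h3 := hm' k
    have h4 : Mono (c k ≫ e) := by rw [hce]; infer_instance
    exact mono_of_mono (c k) e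
  exact core₁ π hF h𝔪 p hπ hsep hsep' hq hΓ hcard (fun k => u k ≫ pbm α (m k)) hcoh φ hφ χ hE (lft_bc i χ e)
    (eK h e) (isClosedImmersion_eK h e) haff c hcm hcmono hinc' hd (fun k => dK h (u k))
    (fun k => by have h1 := hui k; exact isIso_dK h (u k)) (fun k => by have h1 := hu k; infer_instance)
    (fun k => dK_eK h (m k) (u k) e (c k) (hce k))

end core

end K14.TorGenLoc
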