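import Groth.Agent.SGA3x.K14.TorGenCore
import Groth.Agent.SGA3x.K14.TorGenField

/-!
# Generisation of a torus: the closed subgroup of the generic fibre is a split torus
-/

set_option autoImplicit false
universe u
open CategoryTheory MonoidalCategory CartesianMonoidalCategory MonObj GrpObj AlgebraicGeometry Limits

namespace K14.TorGenTrait

open Groth.Agent Groth.Agent.Sga3B Groth.Agent.Sga3B.DSPts Groth.Agent.Sga3B.RG.BrDiag Groth.Agent.Books.AffBridge
open Groth.Agent.Books.AffBridge2 Groth.Agent.Sga3B.AffDvrHopf789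
open K211.TorsQ K14.TorGenTriv K14.TorGenInt K14.TorGenCore K18.TorsFam

section points

variable {K : Type u} [CommRing K] {N : Type} [AddCommGroup N]

/-- Homomorphisms from a diagonalisable group to an affine group. -/
lemma exists_eps {D : Type u} [CommRing D] [HopfAlgebra K D]
    (c : Red.DS (Spec (CommRingCat.of K)) N ⟶ SpecOver K D) [IsMonHom c] :
    ∃ (ε : D →ₐc[K] MonoidAlgebra K (Multiplicative N)) (ε' : D →ₐ[K] MonoidAlgebra K (Multiplicative N)),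
      (∀ b, ε' b = ε b) ∧ sMap ε' = dTo K N ≫ c := by
  have h1 : IsMonHom (diagTo K N ≫ c) := inferInstance
  obtain ⟨ε, hε⟩ := exists_bialgHom_of_isMonHom K (diagTo K N ≫ c)
  exact ⟨ε, (ε : D →ₐ[K] MonoidAlgebra K (Multiplicative N)), fun b => rfl, hε⟩

instance isIso_dTo : IsIso (dTo K N) := inferInstanceAs (IsIso (diagTo K N))

/-- Density on functions. -/
lemma eps_dense {Γ : ℕ → Type} [∀ k, AddCommGroup (Γ k)] {E : Over (Spec (CommRingCat.of K))}
    {D : Type u} [CommRing D] [Algebra K D] (e₀ : E ≅ SpecOver K D)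
    (c : ∀ k, Red.DS (Spec (CommRingCat.of K)) (Γ k) ⟶ E)
    (hd : ∀ b : Γ(E.left, ⊤), (∀ k, (c k).left.appTop.hom b = 0) → b = 0)
    (ε : ∀ k, D →ₐ[K] MonoidAlgebra K (Multiplicative (Γ k))) (hε : ∀ k, sMap (ε k) = dTo K (Γ k) ≫ c k ≫ e₀.hom)
    (b : D) (hb : ∀ k, ε k b = 0) : b = 0 := by
  let eL : Spec (CommRingCat.of D) ⟶ E.left := e₀.inv.left
  have hiso : IsIso eL := inferInstanceAs (IsIso ((Over.forget _).map e₀.inv))
  obtain ⟨s, rfl⟩ := (K14.TorGenField.ev_bijective eL hiso).2 b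
  have h1 : s = 0 := by
    refine hd s fun k => ?_
    let dL : Spec (CommRingCat.of (MonoidAlgebra K (Multiplicative (Γ k)))) ⟶
      (Red.DS (Spec (CommRingCat.of K)) (Γ k)).left := (dTo K (Γ k)).left
    have hiso' : IsIso dL := inferInstanceAs (IsIso ((Over.forget _).map (dTo K (Γ k))))
    apply (K14.TorGenField.ev_bijective dL hiso').1
    rw [map_zero, ← ev_comp]
    have h2 : dL ≫ (c k).left = Spec.map (CommRingCat.ofHom (ε k).toRingHom) ≫ eL := by
      have h3 : dTo K (Γ k) ≫ c k = sMap (ε k) ≫ e₀.inv := by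
        rw [hε, Category.assoc, Category.assoc, e₀.hom_inv_id, Category.comp_id]
      exact congrArg CommaMorphism.left h3
    rw [h2]
    exact (ev_specMap_comp (ε k).toRingHom eL s).trans (hb k)
  rw [h1, map_zero]

/-- The isomorphism of spectra given by an isomorphism of bialgebras. -/
lemma exists_specIso {D : Type u} [CommRing D] [HopfAlgebra K D]
    (θ : D ≃ₐc[K] MonoidAlgebra K (Multiplicative N)) :
    ∃ a : SpecOver K D ≅ Red.DS (Spec (CommRingCat.of K)) N, IsMonHom a.hom := by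
  let θ' : D →ₐc[K] MonoidAlgebra K (Multiplicative N) := θ
  let e : SpecOver K D ≅ SpecOver K (MonoidAlgebra K (Multiplicative N)) :=
    { hom := specMap K ((θ.symm : MonoidAlgebra K (Multiplicative N) →ₐc[K] D) : MonoidAlgebra K (Multiplicative N) →ₐ[K] D)
      inv := specMap K ((θ : D →ₐc[K] MonoidAlgebra K (Multiplicative N)) : D →ₐ[K] MonoidAlgebra K (Multiplicative N))
      hom_inv_id := by
        rw [← specMap_comp, ← specMap_id]
        congr 1
        exact AlgHom.ext fun x => θ.symm_apply_apply x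
      inv_hom_id := by
        rw [← specMap_comp, ← specMap_id]
        congr 1
        exact AlgHom.ext fun x => θ.apply_symm_apply x }
  have h1 : IsMonHom e.hom := isMonHom_specMap K (θ.symm : MonoidAlgebra K (Multiplicative N) →ₐc[K] D)
  exact ⟨e ≪≫ asIso (diagTo K N), inferInstanceAs (IsMonHom (e.hom ≫ diagTo K N))⟩

end points

section trait

variable {V : Type u} [CommRing V] [IsDomain V] [IsLocalRing V] {K : Type u} [CommRing K] [Algebra V K]
  [IsFractionRing V K] {r : ℕ} {Γ : ℕ → Type} [∀ k, AddCommGroup (Γ k)] (π : ∀ k, (Fin r → ℤ) →+ Γ k)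

/-- **The closed subgroup of the generic fibre is a split torus.** -/
theorem exists_diag (hF : IsField K) (h𝔪 : ∀ x : V, (∀ i : ℕ, x ∈ IsLocalRing.maximalIdeal V ^ i) → x = 0)
    (p : ∀ {j k : ℕ}, j ≤ k → Γ k →+ Γ j) (hπ : ∀ {j k} (h : j ≤ k) z, p h (π k z) = π j z)
    (hsep : ∀ S : Finset (Fin r → ℤ), ∃ k, Set.InjOn (π k) S)
    (hsep' : ∀ S : Finset (Multiplicative (Fin r → ℤ)), ∃ k, Set.InjOn (AddMonoidHom.toMultiplicative (π k))
      (S : Set _))
    {G : Over (Spec (CommRingCat.of V))} [CompactSpace G.left] [QuasiSeparatedSpace G.left]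
    (u : ∀ k, Red.DS (Spec (CommRingCat.of V)) (Γ k) ⟶ G)
    (hcoh : ∀ j k (h : j ≤ k), Red.DSmap _ (p h) ≫ u k = u j)
    (φ : ∀ i : ℕ, Red.DS (Spec (CommRingCat.of (Qi V i))) (Fin r → ℤ) ⟶ Red.bc (gen V (Qi V i)) G)
    (hφ : ∀ i k, Red.DSmap _ (π k) ≫ φ i = bcD (gen V (Qi V i)) (u k))
    {E : Over (Spec (CommRingCat.of K))} [GrpObj E] [IsAffine E.left] [LocallyOfFiniteType E.hom]
    (e : E ⟶ Red.bc (gen V K) G) [IsClosedImmersion e.left]
    (c : ∀ k, Red.DS (Spec (CommRingCat.of K)) (Γ k) ⟶ E) (hcm : ∀ k, IsMonHom (c k))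
    (hce : ∀ k, c k ≫ e = bcD (gen V K) (u k))
    (hd : ∀ b : Γ(E.left, ⊤), (∀ k, (c k).left.appTop.hom b = 0) → b = 0) :
    ∃ m : ℕ, m ≤ r ∧ ∃ a : E ≅ Red.DS (Spec (CommRingCat.of K)) (Fin m → ℤ), IsMonHom a.hom := by
  obtain ⟨D, _, _, e₀, he₀⟩ := exists_hopf K E
  have hex : ∀ k, ∃ (ε : D →ₐc[K] MonoidAlgebra K (Multiplicative (Γ k)))
      (ε' : D →ₐ[K] MonoidAlgebra K (Multiplicative (Γ k))),
      (∀ b, ε' b = ε b) ∧ sMap ε' = dTo K (Γ k) ≫ c k ≫ e₀.hom := by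
    intro k
    have := hcm k
    exact exists_eps (c k ≫ e₀.hom)
  choose ε ε' hεε hε using hex
  have hft : Algebra.FiniteType K D := by
    rw [← locallyOfFiniteType_specOver_iff, ← Over.w e₀.inv]
    have h1 : IsIso e₀.inv.left := inferInstanceAs (IsIso ((Over.forget _).map e₀.inv))
    exact MorphismProperty.comp_mem _ _ _ inferInstance ‹LocallyOfFiniteType E.hom›
  have hcl : IsClosedImmersion (e₀.inv ≫ e).left := by
    have h1 : IsIso e₀.inv.left := inferInstanceAs (IsIso ((Over.forget _).map e₀.inv))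
    exact inferInstanceAs (IsClosedImmersion (e₀.inv.left ≫ e.left))
  obtain ⟨ρ, hρ⟩ := exists_emb' π hF h𝔪 (fun {j k} h => p h) hπ hsep hsep' u hcoh φ hφ (e₀.inv ≫ e) ε
    (fun b hb => eps_dense e₀ c hd ε' hε b fun k => (hεε k b).trans (hb k)) ε' hεε (fun k => by
      rw [hε, Category.assoc, Category.assoc, Iso.hom_inv_id_assoc, hce])
  obtain ⟨m, hm, ⟨θ⟩⟩ := exists_split hF ρ hρ
  obtain ⟨a, ha⟩ := exists_specIso θ
  exact ⟨m, hm, e₀ ≪≫ a, inferInstanceAs (IsMonHom (e₀.hom ≫ a.hom))⟩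

end trait

section card

lemma exists_fac_cz {m n : ℕ} {Γ : Type} [AddCommGroup Γ] (ψ : (Fin m → ℤ) →+ Γ) (hΓ : ∀ x : Γ, n • x = 0) :
    ∃ ψ' : (Fin m → ZMod n) →+ Γ, ψ'.comp (cz m n) = ψ := by
  have hker : (cz m n).ker ≤ ψ.ker := by
    intro x hx
    have h1 : ∀ i, ((x i : ℤ) : ZMod n) = 0 := fun i => congrFun hx i
    choose y hy using fun i => (ZMod.intCast_zmod_eq_zero_iff_dvd _ n).1 (h1 i)
    have h2 : x = n • y := by
      funext i
      simpa using hy i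
    rw [AddMonoidHom.mem_ker, h2, map_nsmul, hΓ]
  exact ⟨AddMonoidHom.liftOfSurjective (cz m n) (cz_surjective m n) ⟨ψ, hker⟩,
    AddMonoidHom.liftOfRightInverse_comp _ _ _ _⟩

lemma card_pow (m n : ℕ) [NeZero n] : Nat.card (Fin m → ZMod n) = n ^ m := by
  rw [Nat.card_eq_fintype_card, Fintype.card_pi, Finset.prod_const, ZMod.card, Finset.card_univ, Fintype.card_fin]

lemma card_le {m n : ℕ} [NeZero n] {Γ : Type} [AddCommGroup Γ] (ψ : (Fin m → ℤ) →+ Γ) (hψ : Function.Surjective ψ)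
    (hΓ : ∀ x : Γ, n • x = 0) : Nat.card Γ ≤ n ^ m := by
  obtain ⟨ψ', hψ'⟩ := exists_fac_cz ψ hΓ
  have h1 : Function.Surjective ψ' := by
    intro y
    obtain ⟨x, rfl⟩ := hψ y
    exact ⟨cz m n x, DFunLike.congr_fun hψ' x⟩
  have h2 := Nat.card_le_card_of_surjective ψ' h1
  rwa [card_pow] at h2

lemma exists_bij {m n : ℕ} [NeZero n] {Γ : Type} [AddCommGroup Γ] (ψ : (Fin m → ℤ) →+ Γ) (hψ : Function.Surjective ψ)
    (hΓ : ∀ x : Γ, n • x = 0) (hc : Nat.card Γ = n ^ m) :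
    ∃ ψ' : (Fin m → ZMod n) →+ Γ, ψ'.comp (cz m n) = ψ ∧ Function.Bijective ψ' := by
  obtain ⟨ψ', hψ'⟩ := exists_fac_cz ψ hΓ
  have h1 : Function.Surjective ψ' := by
    intro y
    obtain ⟨x, rfl⟩ := hψ y
    exact ⟨cz m n x, DFunLike.congr_fun hψ' x⟩
  refine ⟨ψ', hψ', ?_, h1⟩
  refine (Nat.bijective_iff_surjective_and_card ψ').2 ⟨h1, ?_⟩ |>.1
  rw [hc, card_pow]

end card

section tor

variable {S : Scheme.{u}}

lemma isTor_iso_comp {n : ℕ} {L L' H : Over S} [GrpObj H] {t : L ⟶ H} (h : IsTor n t) (f : L' ⟶ L) [IsIso f] :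
    IsTor n (f ≫ t) := by
  have := h.mono
  refine ⟨mono_comp _ _, fun X x => ?_⟩
  rw [← h.pts]
  constructor
  · rintro ⟨y, rfl⟩
    exact ⟨y ≫ f, by rw [Category.assoc]⟩
  · rintro ⟨y, rfl⟩
    exact ⟨y ≫ inv f, by rw [Category.assoc, IsIso.inv_hom_id_assoc]⟩

lemma isTor_of_comp_iso {n : ℕ} {L H H' : Over S} [GrpObj H] [GrpObj H'] {t : L ⟶ H} (a : H ≅ H') [IsMonHom a.hom]
    (h : IsTor n (t ≫ a.hom)) : IsTor n t := by
  have := h.mono
  refine ⟨mono_of_mono t a.hom, fun X x => ?_⟩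
  have h1 : x ^ n = 1 ↔ (x ≫ a.hom) ^ n = 1 := by
    rw [← K18.TorsGlob.pow_comp]
    constructor
    · intro hx
      rw [hx, MonObj.one_comp]
    · intro hx
      have h2 := congrArg (fun y => y ≫ a.inv) hx
      simp only [Category.assoc, a.hom_inv_id, Category.comp_id, MonObj.one_comp] at h2
      exact h2
  rw [h1, ← h.pts]
  constructor
  · rintro ⟨y, rfl⟩
    exact ⟨y, by rw [Category.assoc]⟩
  · rintro ⟨y, hy⟩
    refine ⟨y, ?_⟩
    rw [← cancel_mono a.hom, Category.assoc, hy]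

lemma isTor_of_bij {m n : ℕ} {Γ : Type} [AddCommGroup Γ] (ψ : (Fin m → ℤ) →+ Γ) (ψ' : (Fin m → ZMod n) →+ Γ)
    (h : ψ'.comp (cz m n) = ψ) (hb : Function.Bijective ψ') : IsTor n (Red.DSmap S ψ) := by
  have h1 : IsIso (Red.DSmap S ψ') := K19.DSKit.isIso_DSmap S ψ' hb
  rw [← h, Parab.TorRank156.DSmap_comp]
  exact isTor_iso_comp (isTor_cz m n) _

end tor

section main

variable {K : Type u} [CommRing K] {r m : ℕ} {Γ : ℕ → Type} [∀ k, AddCommGroup (Γ k)]

/-- **The torsion of the split torus.** -/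
theorem isTor_of_mono (hF : IsField K) {q : ℕ} (hq : 1 < q) (hm : m ≤ r) (hΓ : ∀ k (x : Γ k), (q ^ k) • x = 0)
    (hcard : ∀ k, Nat.card (Γ k) = (q ^ k) ^ r) {E : Over (Spec (CommRingCat.of K))} [GrpObj E]
    (a : E ≅ Red.DS (Spec (CommRingCat.of K)) (Fin m → ℤ)) [IsMonHom a.hom]
    (c : ∀ k, Red.DS (Spec (CommRingCat.of K)) (Γ k) ⟶ E) (hcm : ∀ k, IsMonHom (c k)) (hc : ∀ k, Mono (c k)) :
    m = r ∧ ∀ k, IsTor (q ^ k) (c k) := by
  obtain ⟨F, rfl⟩ := exists_field hF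
  have hψ : ∀ k, ∃ ψ : (Fin m → ℤ) →+ Γ k, c k ≫ a.hom = Red.DSmap _ ψ ∧ Function.Surjective ψ := by
    intro k
    have := hcm k
    have := hc k
    obtain ⟨ψ, hψ⟩ := DSRigid.exists_eq_DSmap (c k ≫ a.hom)
    refine ⟨ψ, hψ, K19.DSKit.surjective_of_mono_spec (R := K) ψ ?_⟩
    rw [← hψ]
    exact mono_comp _ _
  choose ψ hψ hψs using hψ
  have hne : ∀ k, NeZero (q ^ k) := fun k => ⟨(pow_pos (by omega) k).ne'⟩
  have hmr : m = r := by
    refine le_antisymm hm ?_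
    have := hne 1
    have h1 := card_le (ψ 1) (hψs 1) (hΓ 1)
    rw [hcard, pow_one] at h1
    exact (Nat.pow_le_pow_iff_right hq).1 h1
  subst hmr
  refine ⟨rfl, fun k => ?_⟩
  have := hne k
  obtain ⟨ψ', h1, h2⟩ := exists_bij (ψ k) (hψs k) (hΓ k) (hcard k)
  refine isTor_of_comp_iso a ?_
  rw [hψ]
  exact isTor_of_bij (ψ k) ψ' h1 h2

end main

end K14.TorGenTrait
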