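import Groth.Agent.SGA3x.K14.TorGenFib
import Groth.Agent.SGA3x.K14.TorGenTrait
import Groth.Agent.SGA3x.K18.TorSpec
import Groth.Agent.SGA3x.K7.GenTrait
import Groth.Agent.SGA3x.K844.GenDesc

/-!
# Generisation of subtori with prescribed torsion: comparison of base changes
-/

set_option autoImplicit false
universe u
open CategoryTheory MonoidalCategory CartesianMonoidalCategory MonObj GrpObj AlgebraicGeometry Limits

namespace K14.TorGenPieces

open Groth.Agent Groth.Agent.Sga3B K14.TorGenTriv K14.TorGenCore K14.TorGenInt K14.TorGenFib K14.TorGenTrait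
  K211.TorsQ K18.TorsFam K13.NTorsion K18.TorSpec

section square

variable {S T₁ T₂ T₃ : Scheme.{u}} {f : T₁ ⟶ S} {f' : T₂ ⟶ S} {w : T₃ ⟶ T₁} {w' : T₃ ⟶ T₂}

/-- The comparison of two iterated base changes. -/
noncomputable def sqH (h : w' ≫ f' = w ≫ f) (G : Over S) [GrpObj G] :
    Red.bc w (Red.bc f G) ⟶ Red.bc w' (Red.bc f' G) :=
  (BcNat.fibIso h G).hom.hom.hom

/-- The comparison of two iterated base changes. -/
noncomputable def sqI (h : w' ≫ f' = w ≫ f) (G : Over S) [GrpObj G] :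
    Red.bc w' (Red.bc f' G) ⟶ Red.bc w (Red.bc f G) :=
  (BcNat.fibIso h G).inv.hom.hom

lemma sqH_sqI (h : w' ≫ f' = w ≫ f) (G : Over S) [GrpObj G] :
    sqH h G ≫ sqI h G = 𝟙 (Red.bc w (Red.bc f G)) :=
  congrArg (fun k => k.hom.hom) (BcNat.fibIso h G).hom_inv_id

lemma sqI_sqH (h : w' ≫ f' = w ≫ f) (G : Over S) [GrpObj G] :
    sqI h G ≫ sqH h G = 𝟙 (Red.bc w' (Red.bc f' G)) :=
  congrArg (fun k => k.hom.hom) (BcNat.fibIso h G).inv_hom_id

instance isMonHom_sqH (h : w' ≫ f' = w ≫ f) (G : Over S) [GrpObj G] : IsMonHom (sqH h G) :=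
  inferInstanceAs (IsMonHom (BcNat.fibIso h G).hom.hom.hom)

instance isMonHom_sqI (h : w' ≫ f' = w ≫ f) (G : Over S) [GrpObj G] : IsMonHom (sqI h G) :=
  inferInstanceAs (IsMonHom (BcNat.fibIso h G).inv.hom.hom)

instance isIso_sqH (h : w' ≫ f' = w ≫ f) (G : Over S) [GrpObj G] : IsIso (sqH h G) :=
  ⟨sqI h G, sqH_sqI h G, sqI_sqH h G⟩

instance isIso_sqI (h : w' ≫ f' = w ≫ f) (G : Over S) [GrpObj G] : IsIso (sqI h G) :=
  ⟨sqH h G, sqI_sqH h G, sqH_sqI h G⟩

lemma sqH_nat (h : w' ≫ f' = w ≫ f) {G H : Over S} [GrpObj G] [GrpObj H] (i : G ⟶ H) :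
    pbm w (pbm f i) ≫ sqH h H = sqH h G ≫ pbm w' (pbm f' i) :=
  BcNat.fib_nat h i

lemma sqI_nat (h : w' ≫ f' = w ≫ f) {G H : Over S} [GrpObj G] [GrpObj H] (i : G ⟶ H) :
    sqI h G ≫ pbm w (pbm f i) ≫ sqH h H = pbm w' (pbm f' i) := by
  rw [sqH_nat, ← Category.assoc, sqI_sqH, Category.id_comp]

end square

section app

open Groth.Agent.Sga3B.AffDvrHopf789

lemma app_iso {X Y : Scheme.{u}} (f : X ⟶ Y) [IsIso f] (b : Γ(Y, ⊤)) (h : f.appTop.hom b = 0) : b = 0 := by
  have h0 : IsIso f.appTop := inferInstanceAs (IsIso (f.app ⊤))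
  have h1 := (ConcreteCategory.isIso_iff_bijective f.appTop).1 h0
  exact h1.1 (h.trans (map_zero f.appTop.hom).symm)

lemma app_comp {X Y Z : Scheme.{u}} (f : X ⟶ Y) (g : Y ⟶ Z) (b : Γ(Z, ⊤)) :
    (f ≫ g).appTop.hom b = f.appTop.hom (g.appTop.hom b) := by
  rw [Scheme.Hom.comp_appTop]
  rfl

end app

section dense

theorem dense_bc_field {κ K : Type u} [Field κ] [Field K] (χ : Spec (CommRingCat.of K) ⟶ Spec (CommRingCat.of κ))
    {E : Over (Spec (CommRingCat.of κ))} (hE : IsAffine E.left) {M : ℕ → Over (Spec (CommRingCat.of κ))}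
    (hM : ∀ k, IsAffine (M k).left) (c : ∀ k, M k ⟶ E) (hinc : ∀ j k, j ≤ k → ∃ f : M j ⟶ M k, f ≫ c k = c j)
    (hc : ∀ b : Γ(E.left, ⊤), (∀ k, (c k).left.appTop.hom b = 0) → b = 0)
    {D : ℕ → Over (Spec (CommRingCat.of K))} (d : ∀ k, D k ⟶ Red.bc χ (M k)) (hd : ∀ k, IsIso (d k))
    (b : Γ((Red.bc χ E).left, ⊤)) (hb : ∀ k, (d k ≫ pbm χ (c k)).left.appTop.hom b = 0) : b = 0 := by
  obtain ⟨φ, rfl⟩ := Spec.map_surjective χ
  let : Algebra κ K := φ.hom.toAlgebra
  refine K844.GenDesc.dense_bc (K := K) c hinc hc b fun k => ?_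
  have h1 := hd k
  have h2 : IsIso (d k).left := inferInstanceAs (IsIso ((Over.forget _).map (d k)))
  apply app_iso (d k).left
  rw [← app_comp]
  exact hb k

/-- Density on the generic fibre over the trait. -/
theorem dense_bc {κ K : Type u} [Field κ] [CommRing K] (hF : IsField K)
    (χ : Spec (CommRingCat.of K) ⟶ Spec (CommRingCat.of κ))
    {E : Over (Spec (CommRingCat.of κ))} (hE : IsAffine E.left) {M : ℕ → Over (Spec (CommRingCat.of κ))}
    (hM : ∀ k, IsAffine (M k).left) (c : ∀ k, M k ⟶ E) (hinc : ∀ j k, j ≤ k → ∃ f : M j ⟶ M k, f ≫ c k = c j)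
    (hc : ∀ b : Γ(E.left, ⊤), (∀ k, (c k).left.appTop.hom b = 0) → b = 0)
    {D : ℕ → Over (Spec (CommRingCat.of K))} (d : ∀ k, D k ⟶ Red.bc χ (M k)) (hd : ∀ k, IsIso (d k))
    (b : Γ((Red.bc χ E).left, ⊤)) (hb : ∀ k, (d k ≫ pbm χ (c k)).left.appTop.hom b = 0) : b = 0 := by
  obtain ⟨F, rfl⟩ := exists_field hF
  exact dense_bc_field χ hE hM c hinc hc d hd b hb

end dense

section core

lemma isIso_bcD {S S' : Scheme.{u}} {N : Type} [AddCommGroup N] (v : S' ⟶ S) {G : Over S} (f : Red.DS S N ⟶ G)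
    [IsIso f] : IsIso (bcD v f) := by
  have h1 : IsIso (dsI v N) := ⟨dsH v N, dsI_dsH v N, dsH_dsI v N⟩
  have h2 : IsIso (pbm v f) := inferInstanceAs (IsIso ((Over.pullback v).map f))
  exact inferInstanceAs (IsIso (dsI v N ≫ pbm v f))

section pieces

variable {S T₁ T₂ T₃ : Scheme.{u}} {i : T₁ ⟶ S} {α : T₂ ⟶ S} {χ : T₃ ⟶ T₁} {g : T₃ ⟶ T₂} (h : g ≫ α = χ ≫ i)

/-- The embedding of the generic fibre of the closed subgroup. -/
noncomputable def eK {G : Over S} [GrpObj G] {E : Over T₁} (e : E ⟶ Red.bc i G) : Red.bc χ E ⟶ Red.bc g (Red.bc α G) :=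
  pbm χ e ≫ sqH h G

lemma isClosedImmersion_eK {G : Over S} [GrpObj G] {E : Over T₁} (e : E ⟶ Red.bc i G) [IsClosedImmersion e.left] :
    IsClosedImmersion (eK h e).left := by
  have h1 := Groth.Agent.Sga3.H280.FlatClosure.isPullback_map_left χ e
  have h2 : IsClosedImmersion (pbm χ e).left := MorphismProperty.of_isPullback h1.flip ‹IsClosedImmersion e.left›
  have h3 : IsIso (sqH h G).left := inferInstanceAs (IsIso ((Over.forget _).map (sqH h G)))
  exact inferInstanceAs (IsClosedImmersion ((pbm χ e).left ≫ (sqH h G).left))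

/-- The trivialisation of the generic fibres. -/
noncomputable def dK {N : Type} [AddCommGroup N] {M : Over S} [GrpObj M] (u : Red.DS T₂ N ⟶ Red.bc α M) :
    Red.DS T₃ N ⟶ Red.bc χ (Red.bc i M) := bcD g u ≫ sqI h M

instance isMonHom_dK {N : Type} [AddCommGroup N] {M : Over S} [GrpObj M] (u : Red.DS T₂ N ⟶ Red.bc α M) [IsMonHom u] :
    IsMonHom (dK h u) := inferInstanceAs (IsMonHom (bcD g u ≫ sqI h M))

lemma isIso_dK {N : Type} [AddCommGroup N] {M : Over S} [GrpObj M] (u : Red.DS T₂ N ⟶ Red.bc α M) [IsIso u] :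
    IsIso (dK h u) := by
  have h2 := isIso_bcD g u
  exact inferInstanceAs (IsIso (bcD g u ≫ sqI h M))

lemma dK_eK {N : Type} [AddCommGroup N] {M G : Over S} [GrpObj M] [GrpObj G] (m : M ⟶ G)
    (u : Red.DS T₂ N ⟶ Red.bc α M) {E : Over T₁} (e : E ⟶ Red.bc i G) (c : Red.bc i M ⟶ E)
    (hce : c ≫ e = pbm i m) : (dK h u ≫ pbm χ c) ≫ eK h e = bcD g (u ≫ pbm α m) := by
  have h1 : pbm χ c ≫ pbm χ e = pbm χ (pbm i m) := by rw [← pbm_comp, hce]
  rw [bcD_comp, ← sqI_nat h m, ← h1, dK, eK, Category.assoc, Category.assoc, Category.assoc]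

end pieces

section pieces2

variable {S T₁ T₃ : Scheme.{u}} (i : T₁ ⟶ S) (χ : T₃ ⟶ T₁)

lemma isAffine_bc [IsAffine T₁] [IsAffine T₃] {E : Over T₁} (hE : IsAffine E.left) : IsAffine (Red.bc χ E).left := by
  have h1 : IsAffineHom E.hom := inferInstance
  have h2 : IsAffineHom (Red.bc χ E).hom := inferInstanceAs (IsAffineHom (pullback.snd E.hom χ))
  exact isAffine_of_isAffineHom (Red.bc χ E).hom

lemma lft_bc {G : Over S} [LocallyOfFiniteType G.hom] {E : Over T₁} (e : E ⟶ Red.bc i G) [IsClosedImmersion e.left] :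
    LocallyOfFiniteType (Red.bc χ E).hom := by
  have h0 : LocallyOfFiniteType (Red.bc i G).hom := inferInstanceAs (LocallyOfFiniteType (pullback.snd G.hom i))
  have h1 : LocallyOfFiniteType E.hom := by
    rw [← Over.w e]
    infer_instance
  exact inferInstanceAs (LocallyOfFiniteType (pullback.snd E.hom χ))

lemma mono_of_closed {S : Scheme.{u}} {E G : Over S} (e : E ⟶ G) [IsClosedImmersion e.left] : Mono e := by
  have h1 : Mono ((Over.forget _).map e) := inferInstanceAs (Mono e.left)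
  exact (Over.forget _).mono_of_mono_map h1

lemma compact_qs {S T : Scheme.{u}} [IsAffine T] (α : T ⟶ S) {G : Over S} [QuasiCompact G.hom] [QuasiSeparated G.hom] :
    CompactSpace (Red.bc α G).left ∧ QuasiSeparatedSpace (Red.bc α G).left := by
  have hG1 : QuasiCompact (Red.bc α G).hom := inferInstanceAs (QuasiCompact (pullback.snd G.hom α))
  have hG2 : QuasiSeparated (Red.bc α G).hom := inferInstanceAs (QuasiSeparated (pullback.snd G.hom α))
  exact ⟨(quasiCompact_iff_compactSpace (Red.bc α G).hom).1 hG1,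
    (quasiSeparated_iff_quasiSeparatedSpace (Red.bc α G).hom).1 hG2⟩

end pieces2

end core

end K14.TorGenPieces
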