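import Groth.Agent.SGA3x.K211.TorsQ
import Groth.Agent.SGA3x.K18.TorsFam
import Groth.Agent.SGA3x.K18.MTDesc
import Groth.Agent.SGA3x.K10.MTLoc
import Groth.Agent.SGA3x.K19.DSKit
import Groth.Agent.Sga3B.Par.CanBc
import Groth.Agent.Sga3.H832.ValExt
import Groth.Agent.Sga3B.MaxTorusCrit

/-!
# Coherent families of subgroups of type `(ℤ/q^k)^r` over a strictly henselian local ring

* `bcD`: base change of morphisms out of diagonalisable groups;
* `exists_split`: groups of multiplicative type over strictly henselian local rings are diagonalisable;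
* `exists_triv`: trivialisation of a family `M k ⟶ G` compatible with a split torus of the special fibre;
* `exists_ext`: extension to a homomorphism `D(ℤ^r) ⟶ G` over nilpotent thickenings.
-/

set_option autoImplicit false
universe u
open CategoryTheory MonoidalCategory CartesianMonoidalCategory MonObj GrpObj AlgebraicGeometry Limits

namespace K14.TorGenTriv

open Groth.Agent Groth.Agent.Sga3B Groth.Agent.Sga3B.Parab Groth.Agent.Sga3B.Parab.TorRank156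
open Groth.Agent.Sga3B.DSRigid K211.TorsQ K18.TorsFam

section bcD

variable {S S' S'' : Scheme.{u}} {M N : Type} [AddCommGroup M] [AddCommGroup N]

/-- Base change of a morphism. -/
noncomputable def pbm (v : S' ⟶ S) {F G : Over S} (f : F ⟶ G) : Red.bc v F ⟶ Red.bc v G := (Over.pullback v).map f

lemma pbm_comp (v : S' ⟶ S) {F G H : Over S} (f : F ⟶ G) (g : G ⟶ H) : pbm v (f ≫ g) = pbm v f ≫ pbm v g :=
  Functor.map_comp _ _ _

lemma pbm_id (v : S' ⟶ S) (F : Over S) : pbm v (𝟙 F) = 𝟙 _ := CategoryTheory.Functor.map_id _ _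

instance isMonHom_pbm (v : S' ⟶ S) {F G : Over S} [GrpObj F] [GrpObj G] (f : F ⟶ G) [IsMonHom f] :
    IsMonHom (pbm v f) := inferInstanceAs (IsMonHom ((Over.pullback v).map f))

instance mono_pbm (v : S' ⟶ S) {F G : Over S} (f : F ⟶ G) [Mono f] :
    Mono (pbm v f) := inferInstanceAs (Mono ((Over.pullback v).map f))

/-- `D_{S'}(N) ⟶ D_S(N) ×_S S'`. -/
noncomputable def dsI (v : S' ⟶ S) (N : Type) [AddCommGroup N] : Red.DS S' N ⟶ Red.bc v (Red.DS S N) :=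
  (TorusAlgClosed.dsBcIso v N).inv.hom.hom

/-- `D_S(N) ×_S S' ⟶ D_{S'}(N)`. -/
noncomputable def dsH (v : S' ⟶ S) (N : Type) [AddCommGroup N] : Red.bc v (Red.DS S N) ⟶ Red.DS S' N :=
  (TorusAlgClosed.dsBcIso v N).hom.hom.hom

lemma dsH_dsI (v : S' ⟶ S) (N : Type) [AddCommGroup N] : dsH v N ≫ dsI v N = 𝟙 (Red.bc v (Red.DS S N)) :=
  congrArg (fun k => k.hom.hom) (TorusAlgClosed.dsBcIso v N).hom_inv_id

lemma dsI_dsH (v : S' ⟶ S) (N : Type) [AddCommGroup N] : dsI v N ≫ dsH v N = 𝟙 (Red.DS S' N) :=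
  congrArg (fun k => k.hom.hom) (TorusAlgClosed.dsBcIso v N).inv_hom_id

instance isMonHom_dsI (v : S' ⟶ S) (N : Type) [AddCommGroup N] : IsMonHom (dsI v N) :=
  inferInstanceAs (IsMonHom (TorusAlgClosed.dsBcIso v N).inv.hom.hom)

instance isMonHom_dsH (v : S' ⟶ S) (N : Type) [AddCommGroup N] : IsMonHom (dsH v N) :=
  inferInstanceAs (IsMonHom (TorusAlgClosed.dsBcIso v N).hom.hom.hom)

lemma dsH_nat (v : S' ⟶ S) (φ : M →+ N) :
    pbm v (Red.DSmap S φ) ≫ dsH v M = dsH v N ≫ Red.DSmap S' φ :=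
  BorLoc613.dsBcIso_naturality v φ

lemma dsI_nat (v : S' ⟶ S) (φ : M →+ N) :
    dsI v N ≫ pbm v (Red.DSmap S φ) = Red.DSmap S' φ ≫ dsI v M := by
  have h1 := dsH_nat v φ
  have h2 : Red.DSmap S' φ = dsI v N ≫ pbm v (Red.DSmap S φ) ≫ dsH v M := by
    rw [h1, ← Category.assoc, dsI_dsH, Category.id_comp]
  rw [h2, Category.assoc, Category.assoc, dsH_dsI, Category.comp_id]

/-- The map `D_{S'}(N) ⟶ D_S(N)`. -/
noncomputable def dsL (v : S' ⟶ S) (N : Type) [AddCommGroup N] : (Red.DS S' N).left ⟶ (Red.DS S N).left :=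
  (dsI v N).left ≫ pullback.fst (Red.DS S N).hom v

/-- Base change of a morphism out of a diagonalisable group. -/
noncomputable def bcD (v : S' ⟶ S) {G : Over S} (f : Red.DS S N ⟶ G) : Red.DS S' N ⟶ Red.bc v G :=
  dsI v N ≫ pbm v f

lemma map_eq (v : S' ⟶ S) {G : Over S} (f : Red.DS S N ⟶ G) : pbm v f = dsH v N ≫ bcD v f := by
  rw [bcD, ← Category.assoc, dsH_dsI, Category.id_comp]

lemma pb_left (v : S' ⟶ S) {F G : Over S} (f : F ⟶ G) :
    (pbm v f).left ≫ pullback.fst G.hom v = pullback.fst F.hom v ≫ f.left :=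
  pullback.lift_fst _ _ _

lemma bcD_left (v : S' ⟶ S) {G : Over S} (f : Red.DS S N ⟶ G) :
    (bcD v f).left ≫ pullback.fst G.hom v = dsL v N ≫ f.left := by
  rw [bcD, dsL, Category.assoc, ← pb_left]
  rfl

lemma bcD_comp (v : S' ⟶ S) {G H : Over S} (f : Red.DS S N ⟶ G) (g : G ⟶ H) :
    bcD v (f ≫ g) = bcD v f ≫ pbm v g := by
  rw [bcD, bcD, pbm_comp, Category.assoc]

lemma bcD_DSmap (v : S' ⟶ S) {G : Over S} (φ : M →+ N) (f : Red.DS S M ⟶ G) :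
    bcD v (Red.DSmap S φ ≫ f) = Red.DSmap S' φ ≫ bcD v f := by
  rw [bcD, bcD, pbm_comp, ← Category.assoc, dsI_nat, Category.assoc]

lemma bcD_self (v : S' ⟶ S) (φ : M →+ N) : bcD v (Red.DSmap S φ) ≫ dsH v M = Red.DSmap S' φ := by
  rw [bcD, Category.assoc, dsH_nat, ← Category.assoc, dsI_dsH, Category.id_comp]

instance isMonHom_bcD (v : S' ⟶ S) {G : Over S} [GrpObj G] (f : Red.DS S N ⟶ G) [IsMonHom f] :
    IsMonHom (bcD v f) :=
  inferInstanceAs (IsMonHom (dsI v N ≫ pbm v f))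

/-- Transitivity of base change. -/
noncomputable def bcC (q : S'' ⟶ S') (h : S' ⟶ S) (G : Over S) [GrpObj G] :
    Red.bc (q ≫ h) G ⟶ Red.bc q (Red.bc h G) :=
  (BcIso.bcCompIso q h G).hom.hom.hom

lemma dsI_trans (q : S'' ⟶ S') (h : S' ⟶ S) (N : Type) [AddCommGroup N] :
    dsI (q ≫ h) N ≫ bcC q h (Red.DS S N) = dsI q N ≫ pbm q (dsI h N) :=
  Groth.Agent.Sga3B.Par.dsBcIso_trans q h N

lemma bcC_nat (q : S'' ⟶ S') (h : S' ⟶ S) {F G : Over S} [GrpObj F] [GrpObj G] (f : F ⟶ G) :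
    pbm (q ≫ h) f ≫ bcC q h G = bcC q h F ≫ pbm q (pbm h f) :=
  BorDesc613.bcCompIso_naturality q h f

lemma bcD_bcD (q : S'' ⟶ S') (h : S' ⟶ S) {G : Over S} [GrpObj G] (f : Red.DS S N ⟶ G) :
    bcD q (bcD h f) = bcD (q ≫ h) f ≫ bcC q h G := by
  rw [bcD, bcD, bcD, pbm_comp, Category.assoc, bcC_nat, ← Category.assoc, ← dsI_trans, Category.assoc]

end bcD

section tor

variable {S : Scheme.{u}}

lemma isTor_cz (r n : ℕ) : IsTor n (Red.DSmap S (cz r n)) := by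
  refine ⟨⟨fun {Z} a b h => ?_⟩, fun X h => ⟨?_, fun hx => ?_⟩⟩
  · apply (DSPts.dsEquiv Z (Fin r → ZMod n)).symm.injective
    have h1 := congrArg DSPts.dsChar h
    rw [DSPts.dsChar_DSmap, DSPts.dsChar_DSmap] at h1
    refine MonoidHom.ext fun m => ?_
    obtain ⟨x, hx⟩ := cz_surjective r n m.toAdd
    have h2 := DFunLike.congr_fun h1 (Multiplicative.ofAdd x)
    change DSPts.dsChar a (Multiplicative.ofAdd (cz r n x)) = DSPts.dsChar b (Multiplicative.ofAdd (cz r n x)) at h2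
    rw [hx] at h2
    exact h2
  · rintro ⟨y, rfl⟩
    rw [← MonObj.comp_pow, DSmap_cz_pow, MonObj.comp_one]
  · obtain ⟨y, hy⟩ := exists_fac h n hx
    exact ⟨y, hy.symm⟩

/-- Two `n`-torsion subgroups are isomorphic. -/
lemma exists_iso_of_isTor {n : ℕ} {L L' H : Over S} [GrpObj H] {t : L ⟶ H} {t' : L' ⟶ H} (h : IsTor n t)
    (h' : IsTor n t') : ∃ e : L ≅ L', e.hom ≫ t' = t := by
  have := h.mono
  have := h'.mono
  obtain ⟨a, ha⟩ := (h'.pts _ t).2 ((h.pts _ t).1 ⟨𝟙 _, Category.id_comp _⟩)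
  obtain ⟨b, hb⟩ := (h.pts _ t').2 ((h'.pts _ t').1 ⟨𝟙 _, Category.id_comp _⟩)
  exact ⟨⟨a, b, by rw [← cancel_mono t, Category.assoc, hb, ha, Category.id_comp],
    by rw [← cancel_mono t', Category.assoc, ha, hb, Category.id_comp]⟩, ha⟩

lemma isMonHom_of_comp {A B C : Over S} [GrpObj A] [GrpObj B] [GrpObj C] (f : A ⟶ B) (g : B ⟶ C) [IsMonHom g] [Mono g]
    (h : IsMonHom (f ≫ g)) : IsMonHom f := Sga3C.SubGrp.isMonHom_of_comp_mono f g

end tor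

section split

variable {V : Type u} [CommRing V] [HenselianLocalRing V] [IsSepClosed (IsLocalRing.ResidueField V)]

/-- Groups of multiplicative type over strictly henselian local rings are diagonalisable. -/
theorem exists_split {H : Over (Spec (CommRingCat.of V))} [GrpObj H] (hH : SGA3x.IsMultTypeFT H) :
    ∃ (N : Type) (_ : AddCommGroup N) (a : H ≅ Red.DS (Spec (CommRingCat.of V)) N), IsMonHom a.hom := by
  obtain ⟨B, _, v, N, _, hv, ⟨p, hp⟩, -, ⟨e⟩⟩ := K10.MTLoc.exists_etale_split hH (IsLocalRing.closedPoint V)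
  obtain ⟨t, ht, -⟩ := Pi1C.StrictHensPoint.exists_lift_of_etale v p V (𝟙 _) (by rw [hp]; rfl)
  have h2 : Red.IsSplitTorusWith N (Red.bc t (Red.bc v H)) := TorusAlgClosed.isSplitTorusWith_bc t ⟨e⟩
  obtain ⟨e'⟩ := h2
  let e'' : Grp.mk H ≅ Grp.mk (Red.DS (Spec (CommRingCat.of V)) N) :=
    (BcIso.bcIdIso H).symm ≪≫ BcIso.bcCongrIso ht.symm H ≪≫ BcIso.bcCompIso t v H ≪≫ e'
  exact ⟨N, inferInstance, (Grp.forget _).mapIso e'', e''.hom.hom.isMonHom_hom⟩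

end split

section local_

variable {V : Type u} [CommRing V] [IsLocalRing V] {κ : Type u} [CommRing κ] [IsLocalRing κ]
  (i₀ : Spec (CommRingCat.of κ) ⟶ Spec (CommRingCat.of V))

/-- Homomorphisms from a diagonalisable group to a diagonalisable group are determined by their base change. -/
lemma eq_of_map {N N' : Type} [AddCommGroup N] [AddCommGroup N'] {H : Over (Spec (CommRingCat.of V))} [GrpObj H]
    (a : H ⟶ Red.DS (Spec (CommRingCat.of V)) N') [IsMonHom a] [Mono a] (f g : Red.DS (Spec (CommRingCat.of V)) N ⟶ H)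
    [IsMonHom f] [IsMonHom g] (h : bcD i₀ f = bcD i₀ g) : f = g := by
  obtain ⟨φ, hφ⟩ := exists_eq_DSmap (f ≫ a)
  obtain ⟨ψ, hψ⟩ := exists_eq_DSmap (g ≫ a)
  rw [← cancel_mono a, hφ, hψ]
  congr 1
  have h1 := bcD_comp i₀ f a
  have h2 := bcD_comp i₀ g a
  rw [h, ← h2, hφ, hψ] at h1
  apply DSmap_injective (R := κ)
  rw [← bcD_self i₀ φ, h1, bcD_self]

omit [IsLocalRing V] [IsLocalRing κ] in
lemma bcD_cancel {N : Type} [AddCommGroup N] {G H : Over (Spec (CommRingCat.of V))} (f g : Red.DS _ N ⟶ G)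
    (m : G ⟶ H) [Mono m] (h : bcD i₀ (f ≫ m) = bcD i₀ (g ≫ m)) : bcD i₀ f = bcD i₀ g := by
  rw [bcD_comp, bcD_comp] at h
  exact (cancel_mono _).1 h

omit [IsLocalRing V] in
/-- Trivialisation over the base `κ`. -/
theorem exists_equiv {N : Type} [AddCommGroup N] {r n : ℕ} {A G : Over (Spec (CommRingCat.of κ))} [GrpObj A] [GrpObj G]
    (α : A ⟶ Red.DS (Spec (CommRingCat.of κ)) N) (α' : Red.DS (Spec (CommRingCat.of κ)) N ⟶ A) [IsMonHom α]
    [IsMonHom α'] (h1 : α ≫ α' = 𝟙 _) (h2 : α' ≫ α = 𝟙 _) (m : A ⟶ G) [IsMonHom m]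
    (w : Red.DS (Spec (CommRingCat.of κ)) (Fin r → ℤ) ⟶ G) [IsMonHom w] [Mono w]
    (g : A ⟶ Red.DS (Spec (CommRingCat.of κ)) (Fin r → ℤ)) (hg : g ≫ w = m) (hgt : IsTor n g) :
    ∃ (β : N →+ (Fin r → ZMod n)) (β' : (Fin r → ZMod n) →+ N), β'.comp β = AddMonoidHom.id _ ∧
      β.comp β' = AddMonoidHom.id _ ∧
      Red.DSmap (Spec (CommRingCat.of κ)) β ≫ α' ≫ m = Red.DSmap (Spec (CommRingCat.of κ)) (cz r n) ≫ w := by
  have i1 := hgt.mono
  have i2 : IsMonHom g := isMonHom_of_comp g w (by rw [hg]; infer_instance)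
  obtain ⟨b, hb⟩ := exists_iso_of_isTor (isTor_cz (S := Spec (CommRingCat.of κ)) r n) hgt
  have i3 : IsMonHom (Red.DSmap (Spec (CommRingCat.of κ)) (cz r n)) := Sga3.H827.KerLoc.isMonHom_DSmap _
  have i4 : IsMonHom b.hom := isMonHom_of_comp b.hom g (by rw [hb]; exact i3)
  have i5 : IsMonHom b.inv := inferInstance
  obtain ⟨β, hβ⟩ := exists_eq_DSmap (b.hom ≫ α)
  obtain ⟨β', hβ'⟩ := exists_eq_DSmap (α' ≫ b.inv)
  refine ⟨β, β', ?_, ?_, ?_⟩
  · apply DSmap_injective (R := κ)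
    rw [DSmap_comp, DSmap_id, ← hβ, ← hβ', Category.assoc, Iso.inv_hom_id_assoc, h2]
  · apply DSmap_injective (R := κ)
    rw [DSmap_comp, DSmap_id, ← hβ, ← hβ', Category.assoc, reassoc_of% h1, b.hom_inv_id]
  · rw [← hβ, Category.assoc, reassoc_of% h1, ← hg, ← Category.assoc, hb]

omit [IsLocalRing V] in
/-- **Trivialisation of one group of the family.** -/
theorem exists_triv_one {N : Type} [AddCommGroup N] {r n : ℕ} {M G : Over (Spec (CommRingCat.of V))} [GrpObj M] [GrpObj G]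
    (a : M ≅ Red.DS (Spec (CommRingCat.of V)) N) [IsMonHom a.hom] (m : M ⟶ G) [IsMonHom m]
    (w : Red.DS (Spec (CommRingCat.of κ)) (Fin r → ℤ) ⟶ Red.bc i₀ G) [IsMonHom w] [Mono w]
    (g : Red.bc i₀ M ⟶ Red.DS (Spec (CommRingCat.of κ)) (Fin r → ℤ)) (hg : g ≫ w = pbm i₀ m)
    (hgt : IsTor n g) :
    ∃ u : Red.DS (Spec (CommRingCat.of V)) (Fin r → ZMod n) ⟶ M, IsMonHom u ∧ IsIso u ∧
      bcD i₀ (u ≫ m) = Red.DSmap (Spec (CommRingCat.of κ)) (cz r n) ≫ w := by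
  have i6 : IsMonHom a.inv := inferInstance
  have e1 : (pbm i₀ a.hom ≫ dsH i₀ N) ≫ bcD i₀ a.inv = 𝟙 _ := by
    rw [bcD, Category.assoc, ← Category.assoc (dsH i₀ N), dsH_dsI, Category.id_comp, ← pbm_comp, a.hom_inv_id,
      pbm_id]
  have e2 : bcD i₀ a.inv ≫ pbm i₀ a.hom ≫ dsH i₀ N = 𝟙 _ := by
    rw [bcD, Category.assoc, ← Category.assoc (pbm i₀ a.inv), ← pbm_comp, a.inv_hom_id, pbm_id, Category.id_comp,
      dsI_dsH]
  obtain ⟨β, β', h1, h2, h3⟩ := exists_equiv (pbm i₀ a.hom ≫ dsH i₀ N) (bcD i₀ a.inv) e1 e2 (pbm i₀ m) w g hg hgt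
  have i9 : IsMonHom (Red.DSmap (Spec (CommRingCat.of V)) β) := Sga3.H827.KerLoc.isMonHom_DSmap _
  have hβi : IsIso (Red.DSmap (Spec (CommRingCat.of V)) β) := by
    refine ⟨Red.DSmap (Spec (CommRingCat.of V)) β', ?_, ?_⟩
    · rw [← DSmap_comp, h2, DSmap_id]
    · rw [← DSmap_comp, h1, DSmap_id]
  refine ⟨Red.DSmap (Spec (CommRingCat.of V)) β ≫ a.inv, inferInstance, inferInstance, ?_⟩
  rw [Category.assoc, bcD_DSmap, bcD_comp, ← h3]

end local_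

/-- **Trivialisation of the family.** -/
theorem exists_triv {V : Type u} [CommRing V] [HenselianLocalRing V] [IsSepClosed (IsLocalRing.ResidueField V)]
    {κ : Type u} [CommRing κ] [IsLocalRing κ] (i₀ : Spec (CommRingCat.of κ) ⟶ Spec (CommRingCat.of V)) {r q : ℕ}
    {G : Over (Spec (CommRingCat.of V))} [GrpObj G] {M : ℕ → Over (Spec (CommRingCat.of V))} [∀ k, GrpObj (M k)]
    (m : ∀ k, M k ⟶ G) (hm : ∀ k, IsMonHom (m k) ∧ Mono (m k) ∧ SGA3x.IsMultTypeFT (M k))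
    (hcoh : ∀ j k : ℕ, j ≤ k → ∃ f : M j ⟶ M k, f ≫ m k = m j)
    (w : Red.DS (Spec (CommRingCat.of κ)) (Fin r → ℤ) ⟶ Red.bc i₀ G) [IsMonHom w] [Mono w]
    (hw : ∀ k, ∃ g : Red.bc i₀ (M k) ⟶ Red.DS (Spec (CommRingCat.of κ)) (Fin r → ℤ),
      g ≫ w = pbm i₀ (m k) ∧ IsTor (q ^ k) g) :
    ∃ u : ∀ k, Red.DS (Spec (CommRingCat.of V)) (Fin r → ZMod (q ^ k)) ⟶ M k, (∀ k, IsMonHom (u k)) ∧
      (∀ k, IsIso (u k)) ∧
      (∀ j k (h : j ≤ k), Red.DSmap _ (tz r (pow_dvd_pow q h)) ≫ u k ≫ m k = u j ≫ m j) ∧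
      ∀ k, bcD i₀ (u k ≫ m k) = Red.DSmap (Spec (CommRingCat.of κ)) (cz r (q ^ k)) ≫ w := by
  have key : ∀ k, ∃ u : Red.DS (Spec (CommRingCat.of V)) (Fin r → ZMod (q ^ k)) ⟶ M k, IsMonHom u ∧ IsIso u ∧
      bcD i₀ (u ≫ m k) = Red.DSmap (Spec (CommRingCat.of κ)) (cz r (q ^ k)) ≫ w := by
    intro k
    obtain ⟨N, _, a, _⟩ := exists_split (hm k).2.2
    obtain ⟨g, hg, hgt⟩ := hw k
    have := (hm k).1
    exact exists_triv_one i₀ a (m k) w g hg hgt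
  choose u hu1 hu2 hu3 using key
  refine ⟨u, hu1, hu2, fun j k h => ?_, hu3⟩
  obtain ⟨f, hf⟩ := hcoh j k h
  obtain ⟨N, _, a, _⟩ := exists_split (hm k).2.2
  have i1 := (hm j).1
  have i2 := (hm k).1
  have i3 := (hm k).2.1
  have i4 : IsMonHom f := isMonHom_of_comp f (m k) (by rw [hf]; infer_instance)
  have i5 : IsMonHom (Red.DSmap (Spec (CommRingCat.of V)) (tz r (pow_dvd_pow q h))) :=
    Sga3.H827.KerLoc.isMonHom_DSmap _
  have i6 := hu1 j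
  have i7 := hu1 k
  have h1 : Red.DSmap _ (tz r (pow_dvd_pow q h)) ≫ u k = u j ≫ f := by
    refine eq_of_map i₀ a.hom _ _ (bcD_cancel i₀ _ _ (m k) ?_)
    rw [Category.assoc, Category.assoc, hf, bcD_DSmap, hu3, hu3, ← Category.assoc, ← DSmap_comp, tz_comp_cz]
  rw [← Category.assoc, h1, Category.assoc, hf]

/-- **Extension over nilpotent thickenings.** -/
theorem exists_ext {S S₀ : Scheme.{u}} (i₀ : S₀ ⟶ S) [IsClosedImmersion i₀] (hn : IsNilpotent i₀.ker) {r q : ℕ}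
    (hq : 1 < q) {G : Over S} [GrpObj G] (u : ∀ k, Red.DS S (Fin r → ZMod (q ^ k)) ⟶ G) (hu : ∀ k, IsMonHom (u k))
    (hcoh : ∀ j k (h : j ≤ k), Red.DSmap _ (tz r (pow_dvd_pow q h)) ≫ u k = u j)
    (w : Red.DS S₀ (Fin r → ℤ) ⟶ Red.bc i₀ G) [IsMonHom w]
    (hw : ∀ k, bcD i₀ (u k) = Red.DSmap S₀ (cz r (q ^ k)) ≫ w) :
    ∃ ψ : Red.DS S (Fin r → ℤ) ⟶ G, IsMonHom ψ ∧ ∀ k, Red.DSmap S (cz r (q ^ k)) ≫ ψ = u k := by
  let φ₀ : Red.bc i₀ (Red.DS S (Fin r → ℤ)) ⟶ Red.bc i₀ G := dsH i₀ (Fin r → ℤ) ≫ w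
  have i2 : IsMonHom φ₀ := inferInstanceAs (IsMonHom (dsH i₀ (Fin r → ℤ) ≫ w))
  obtain ⟨ψ, h1, h2, -⟩ := exists_of_torsion (t := fun k => Red.DSmap S (cz r (q ^ k))) (m := u) (φ₀ := φ₀) i₀
    (fun k => isTor_cz r (q ^ k)) (fun k l h => ⟨Red.DSmap _ (tz r (pow_dvd_pow q h)), hcoh k l h, by
      rw [← DSmap_comp, tz_comp_cz]⟩) (fun k => by
      change pbm i₀ _ ≫ dsH i₀ (Fin r → ℤ) ≫ w = pbm i₀ _
      rw [← Category.assoc, dsH_nat, Category.assoc, ← hw, ← map_eq]) hn hq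
    (Sga3B.MaxTorusCrit.isTorus_DS S r) (fun k => Sga3.H827.KerLoc.isMonHom_DSmap _) hu
  exact ⟨ψ, h1, h2⟩

end K14.TorGenTriv
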